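import Groth.Agent.DevK.Pair
import Groth.Agent.H23.RatSecTensor
import Groth.Agent.Lib.InvEnd
import Groth.Agent.KZ.CycleTensor
import Groth.Agent.AmpleVan.Tw

/-! Twisting by an invertible module. -/

set_option autoImplicit false
set_option linter.style.haveILetI false
set_option backward.isDefEq.respectTransparency false
set_option backward.isDefEq.respectTransparency.types false

universe u

open CategoryTheory CategoryTheory.Limits AlgebraicGeometry
open scoped TensorProduct

namespace Groth.Agent.DevK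

open Groth.Agent H23.RatSec H23.RatSecTensor

variable {X : Scheme.{u}}

section Stalk

variable {L F : X.Modules} {x : X} {t : L.presheaf.stalk x}

/-- The isomorphism of stalks attached to a generator. -/
theorem exists_tmEquiv (ht : IsGen t) :
    ∃ E : F.presheaf.stalk x ≃ₗ[X.presheaf.stalk x] (CohB1.tensorMod F L).presheaf.stalk x,
      ∀ m, E m = tm x m t := by
  let MF : ModuleCat (X.presheaf.stalk x) := (DerSch.stalkFunctor X x).obj F
  let ML : ModuleCat (X.presheaf.stalk x) := (DerSch.stalkFunctor X x).obj L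
  let eL : X.presheaf.stalk x ≃ₗ[X.presheaf.stalk x] ML :=
    LinearEquiv.ofBijective (LinearMap.toSpanSingleton (X.presheaf.stalk x) ML t)
      ⟨(injective_iff_map_eq_zero _).2 fun r hr => ht.2 r hr,
        fun m => Submodule.mem_span_singleton.1 (ht.1.ge (Submodule.mem_top : m ∈ ⊤))⟩
  let E : MF ≃ₗ[X.presheaf.stalk x] (DerSch.stalkFunctor X x).obj (CohB1.tensorMod F L) :=
    ((TensorProduct.rid (X.presheaf.stalk x) MF).symm.trans
      (TensorProduct.congr (LinearEquiv.refl _ MF) eL)).trans (KFlatLib.stalkTensorIso x F L).toLinearEquiv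
  refine ⟨E, fun m => ?_⟩
  show (KFlatLib.stalkTensorIso x F L).toLinearEquiv
    (TensorProduct.congr (LinearEquiv.refl _ MF) eL ((TensorProduct.rid (X.presheaf.stalk x) MF).symm m)) = _
  rw [TensorProduct.rid_symm_apply, TensorProduct.congr_tmul]
  simp [eL]
  rfl

end Stalk

variable [IsLocallyNoetherian X] {δ : X → ℤ} {L : X.Modules}

omit [IsLocallyNoetherian X] in
theorem nz_tensor_iff (hL : PicF.IsInvertible L) (F : X.Modules) (x : X) :
    (NZ (CohB1.tensorMod F L) x ↔ NZ F x) ∧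
      Module.length (X.presheaf.stalk x) ((CohB1.tensorMod F L).presheaf.stalk x) =
        Module.length (X.presheaf.stalk x) (F.presheaf.stalk x) := by
  obtain ⟨t, ht, -⟩ := exists_gen hL x
  obtain ⟨E, -⟩ := exists_tmEquiv (F := F) ht
  exact ⟨E.toEquiv.symm.nontrivial_congr, E.length_eq.symm⟩

omit [IsLocallyNoetherian X] in
theorem isCoh_tensor_inv (hL : PicF.IsInvertible L) {F : X.Modules} (hF : Coh.IsCoh F) :
    Coh.IsCoh (CohB1.tensorMod F L) := by
  obtain ⟨c⟩ := H23.PicMul.comm L F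
  exact (KZ.isClosedUnderIsomorphisms_isCoh (X := X)).of_iso c
    (KZ.CycleClass.isCoh_tensor_rank (InvEnd.isFinLocFreeOfRank_one hL) hF)

omit [IsLocallyNoetherian X] in
theorem cohLe_tensor (hL : PicF.IsInvertible L) {k : ℤ} {F : X.Modules} (hF : Cyc.CohLe δ k F) :
    Cyc.CohLe δ k (CohB1.tensorMod F L) :=
  ⟨isCoh_tensor_inv hL hF.1, fun y hy => hF.2 y ((nz_tensor_iff hL F y).1.1 hy)⟩

omit [IsLocallyNoetherian X] in
theorem sheafFun_tensor (hL : PicF.IsInvertible L) (k : ℤ) (F : X.Modules) :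
    Cyc.sheafFun δ k (CohB1.tensorMod F L) = Cyc.sheafFun δ k F := by
  funext x
  unfold Cyc.sheafFun
  rw [(nz_tensor_iff hL F x).2]

variable (ξ : X)

/-- The identity trivialisation. -/
noncomputable def embId : Emb ξ (Cyc.closureStructureSheaf ξ) where
  g := LinearMap.id
  bij := Function.bijective_id
  coh := isCoh_closure ξ
  supp y hy := by_contra fun hc => not_nz_closure ξ hc hy
  loc x h := ⟨gen ξ x, 1, exists_smul_gen ξ, fun c hc => (smul_gen_eq_zero_iff ξ h c).2 hc, isUnit_one, by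
    rw [stalkSpecializes_gen, LinearMap.id_apply, one_smul]⟩

/-- The trivialisation given by a rational section. -/
theorem exists_embL (hL : PicF.IsInvertible L) {s : Cyc.secFibre L ξ} (hs : s ≠ 0) :
    ∃ e : Emb ξ (CohB1.tensorMod (Cyc.closureStructureSheaf ξ) L),
      ∀ (x : X) (h : ξ ⤳ x) (t : L.presheaf.stalk x), IsGen t → IsGen (L.presheaf.stalkSpecializes h t) →
        ∀ φ : X.presheaf.stalk ξ, s = φ • cls L ξ (L.presheaf.stalkSpecializes h t) →
          ∃ r, X.residue ξ φ * X.residue ξ r = 1 ∧ IsUnit r ∧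
            (∀ a, ∃ c : X.presheaf.stalk x, c • tm x (gen ξ x) t = a) ∧
            (∀ c, Cyc.specMap x ξ h c = 0 → c • tm x (gen ξ x) t = 0) ∧
            e.g ((CohB1.tensorMod (Cyc.closureStructureSheaf ξ) L).presheaf.stalkSpecializes h
              (tm x (gen ξ x) t)) = r • gen ξ ξ := by
  let G := Cyc.closureStructureSheaf ξ
  obtain ⟨g₀, hg₀, -⟩ := exists_gen hL ξ
  obtain ⟨a, ha⟩ := exists_coord hg₀ s
  have hau : IsUnit a := by_contra fun h =>
    (residue_ne_zero hg₀).2 (ha ▸ hs) (Ideal.Quotient.eq_zero_iff_mem.2 h)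
  have ht₁ : IsGen (a • g₀) := hg₀.smul_unit hau
  obtain ⟨E, hE⟩ := exists_tmEquiv (F := G) ht₁
  let g : (CohB1.tensorMod G L).presheaf.stalk ξ →ₗ[X.presheaf.stalk ξ] Mξ ξ PUnit.unit := E.symm.toLinearMap
  have key : ∀ (x : X) (h : ξ ⤳ x) (t : L.presheaf.stalk x), IsGen t → IsGen (L.presheaf.stalkSpecializes h t) →
      ∀ φ : X.presheaf.stalk ξ, s = φ • cls L ξ (L.presheaf.stalkSpecializes h t) →
        ∃ r, X.residue ξ φ * X.residue ξ r = 1 ∧ IsUnit r ∧
          (∀ b, ∃ c : X.presheaf.stalk x, c • tm x (gen ξ x) t = b) ∧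
          (∀ c, Cyc.specMap x ξ h c = 0 → c • tm x (gen ξ x) t = 0) ∧
          g ((CohB1.tensorMod G L).presheaf.stalkSpecializes h (tm x (gen ξ x) t)) = r • gen ξ ξ := by
    intro x h t ht ht' φ hφ
    obtain ⟨Ex, hEx⟩ := exists_tmEquiv (F := G) ht
    obtain ⟨c, hcu, hc⟩ := ht₁.of_span ht'.1
    refine ⟨c, ?_, hcu, fun b => ?_, fun c' hc' => ?_, ?_⟩
    · rw [← map_mul, ← map_one (X.residue ξ).hom]
      refine (cls_smul_eq_iff ht₁ _ _).1 ?_
      rw [mul_smul, ← cls_smul, ← hc, ← hφ, one_smul, cls_smul, ← ha]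
    · obtain ⟨c', hc'⟩ := exists_smul_gen ξ (x := x) (Ex.symm b)
      exact ⟨c', by rw [← hEx, ← map_smul, hc', Ex.apply_symm_apply]⟩
    · rw [← hEx, ← map_smul, (smul_gen_eq_zero_iff ξ h c').2 hc', map_zero]
    · rw [← tm_stalkSpecializes, stalkSpecializes_gen, hc,
        show tm ξ (gen ξ ξ) (c • a • g₀) = c • tm ξ (gen ξ ξ) (a • g₀) from by
          have := tm_smul_smul (L := G) (N := L) ξ 1 c (gen ξ ξ) (a • g₀)
          rwa [one_smul, one_mul] at this,
        ← hE, ← map_smul]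
      exact E.symm_apply_apply _
  refine ⟨⟨g, E.symm.bijective, isCoh_tensor_inv hL (isCoh_closure ξ),
    fun y hy => by_contra fun hc => not_nz_closure ξ hc ((nz_tensor_iff hL G y).1.1 hy), fun x h => ?_⟩, key⟩
  obtain ⟨t, ht, ht'⟩ := exists_gen hL x
  obtain ⟨φ, hφ⟩ := exists_coord (ht' ξ h) s
  obtain ⟨r, -, h1, h2, h3, h4⟩ := key x h t ht (ht' ξ h) φ hφ
  exact ⟨_, r, h2, h3, h1, h4⟩

end Groth.Agent.DevK
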