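import Groth.Agent.CycLib.FinLen
import Mathlib.LinearAlgebra.FiniteDimensional.Basic

/-! Dimensions over a subfield of modules of finite length over a local ring. -/

set_option autoImplicit false
set_option linter.style.haveILetI false

universe u

namespace Groth.Agent.DevK

variable {k R : Type u} [Field k] [CommRing R] [IsNoetherianRing R] [IsLocalRing R] [Algebra k R]

theorem finrank_eq_length_mul [Module.Finite k (IsLocalRing.ResidueField R)] {M : Type u} [AddCommGroup M]
    [Module R M] [Module k M] [IsScalarTower k R M] [Module.Finite R M]
    (h : Module.support R M ⊆ {IsLocalRing.closedPoint R}) :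
    Module.Finite k M ∧
      Module.finrank k M = (Module.length R M).toNat * Module.finrank k (IsLocalRing.ResidueField R) := by
  suffices H : ∀ (N : Type u) [AddCommGroup N] [Module R N] [Module.Finite R N],
      Module.support R N ⊆ {IsLocalRing.closedPoint R} →
      ∀ [Module k N] [IsScalarTower k R N], Module.Finite k N ∧
        Module.finrank k N = (Module.length R N).toNat * Module.finrank k (IsLocalRing.ResidueField R) from
    H M h
  intro N _ _ _
  refine IsNoetherianRing.induction_on_isQuotientEquivQuotientPrime (A := R) (M := N) ‹_›
    (motive := fun N _ _ _ => Module.support R N ⊆ {IsLocalRing.closedPoint R} →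
      ∀ [Module k N] [IsScalarTower k R N], Module.Finite k N ∧
        Module.finrank k N = (Module.length R N).toNat * Module.finrank k (IsLocalRing.ResidueField R))
    ?_ ?_ ?_
  · intro N _ _ _ _ _ _ _
    refine ⟨inferInstance, ?_⟩
    rw [Module.finrank_zero_of_subsingleton, Module.length_eq_zero]
    simp
  · intro N _ _ _ q e hN _ _
    have hq : q ∈ Module.support R N := by
      rw [e.support_eq, Module.support_eq_zeroLocus, Ideal.annihilator_quotient]
      exact fun _ hx => hx
    have hq' : q.asIdeal = IsLocalRing.maximalIdeal R := congrArg PrimeSpectrum.asIdeal (hN hq)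
    let e' : N ≃ₗ[R] IsLocalRing.ResidueField R := e.trans (Submodule.quotEquivOfEq _ _ hq')
    let ek : N ≃ₗ[k] IsLocalRing.ResidueField R := e'.restrictScalars k
    have : IsSimpleModule R (R ⧸ q.asIdeal) := by
      rw [hq']; exact isSimpleModule_iff_isCoatom.2 (IsLocalRing.maximalIdeal.isMaximal R).out
    refine ⟨Module.Finite.equiv ek.symm, ?_⟩
    rw [ek.finrank_eq, e.length_eq, Module.length_eq_one]
    simp
  · intro N₁ _ _ _ N₂ _ _ _ N₃ _ _ _ f g hf hg hfg h1 h3 hN _ _
    have s1 : Module.support R N₁ ⊆ {IsLocalRing.closedPoint R} := fun q hq =>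
      hN (Module.support_subset_of_injective f hf hq)
    have s3 : Module.support R N₃ ⊆ {IsLocalRing.closedPoint R} := fun q hq =>
      hN (Module.support_subset_of_surjective g hg hq)
    letI : Module k N₁ := Module.compHom N₁ (algebraMap k R)
    letI : Module k N₃ := Module.compHom N₃ (algebraMap k R)
    haveI : IsScalarTower k R N₁ := IsScalarTower.of_algebraMap_smul fun _ _ => rfl
    haveI : IsScalarTower k R N₃ := IsScalarTower.of_algebraMap_smul fun _ _ => rfl
    obtain ⟨i1, d1⟩ := h1 s1
    obtain ⟨i3, d3⟩ := h3 s3
    let f' := f.restrictScalars k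
    let g' := g.restrictScalars k
    haveI : Module.Finite k (LinearMap.range f') := Module.Finite.range f'
    have he : LinearMap.ker g' = LinearMap.range f' := SetLike.ext fun z => hfg z
    haveI : Module.Finite k (LinearMap.ker g') := by rw [he]; infer_instance
    haveI : Module.Finite k (N₂ ⧸ LinearMap.ker g') :=
      Module.Finite.equiv (g'.quotKerEquivOfSurjective hg).symm
    haveI hfin : Module.Finite k N₂ := Module.Finite.of_submodule_quotient (LinearMap.ker g')
    refine ⟨hfin, ?_⟩
    rw [← (LinearMap.ker g').finrank_quotient_add_finrank, (g'.quotKerEquivOfSurjective hg).finrank_eq, he,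
      LinearMap.finrank_range_of_inj (f := f') hf, d1, d3, Module.length_eq_add_of_exact f g hf hg hfg,
      ENat.toNat_add (CycLib.length_ne_top_of_support s1) (CycLib.length_ne_top_of_support s3)]
    ring

end Groth.Agent.DevK
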