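import Groth.Agent.CycLib.EulerDim1

/-! Comparing the cokernels of two injections related by scalars. -/

set_option autoImplicit false

universe u

namespace Groth.Agent.DevK

variable {R : Type u} [CommRing R] {G T : Type u} [AddCommGroup G] [Module R G] [AddCommGroup T] [Module R T]

theorem length_coker_smul (a : G →ₗ[R] T) (ha : Function.Injective a) (A : R) :
    Module.length R (T ⧸ LinearMap.range (a.comp (LinearMap.lsmul R G A))) =
      Module.length R (G ⧸ LinearMap.range (LinearMap.lsmul R G A)) +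
        Module.length R (T ⧸ LinearMap.range a) := by
  have hle : LinearMap.range (a.comp (LinearMap.lsmul R G A)) ≤ LinearMap.range a := LinearMap.range_comp_le_range _ _
  refine Module.length_eq_add_of_exact (Submodule.mapQ (LinearMap.range (LinearMap.lsmul R G A))
      (LinearMap.range (a.comp (LinearMap.lsmul R G A))) a ?_)
    (Submodule.factor hle) ?_ ?_ ?_
  · rintro _ ⟨z, rfl⟩
    exact ⟨z, rfl⟩
  · refine (injective_iff_map_eq_zero _).2 fun q hq => ?_
    obtain ⟨g, rfl⟩ := Submodule.Quotient.mk_surjective _ q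
    obtain ⟨z, hz⟩ := (Submodule.Quotient.mk_eq_zero _).1 hq
    exact (Submodule.Quotient.mk_eq_zero _).2 ⟨z, ha hz⟩
  · exact Submodule.factor_surjective hle
  · intro q
    obtain ⟨t, rfl⟩ := Submodule.Quotient.mk_surjective _ q
    show Submodule.Quotient.mk t = 0 ↔ _
    rw [Submodule.Quotient.mk_eq_zero]
    refine ⟨fun ⟨g, hg⟩ => ⟨Submodule.Quotient.mk g, congrArg Submodule.Quotient.mk hg⟩, ?_⟩
    rintro ⟨q', hq'⟩
    obtain ⟨g, rfl⟩ := Submodule.Quotient.mk_surjective _ q'
    obtain ⟨z, hz⟩ := hle.trans (le_refl _) ((Submodule.Quotient.eq _).1 hq')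
    exact ⟨g - z, by rw [map_sub, hz, sub_sub_cancel]⟩

theorem length_cyclic_coker [IsNoetherianRing R] [IsLocalRing R] (p : Ideal R) {g : G}
    (hgen : ∀ t : G, ∃ r : R, r • g = t) (hann : ∀ r : R, r • g = 0 ↔ r ∈ p) (A : R) :
    Module.length R (G ⧸ LinearMap.range (LinearMap.lsmul R G A)) =
      Ring.ord (R ⧸ p) (Ideal.Quotient.mk p A) := by
  rw [CycLib.ord_eq_length]
  let φ : R →ₗ[R] G ⧸ LinearMap.range (LinearMap.lsmul R G A) :=
    (Submodule.mkQ _).comp (LinearMap.toSpanSingleton R G g)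
  have hφ : Function.Surjective φ := fun q => by
    obtain ⟨t, rfl⟩ := Submodule.Quotient.mk_surjective _ q
    obtain ⟨r, rfl⟩ := hgen t
    exact ⟨r, rfl⟩
  have hk : LinearMap.ker φ = p ⊔ Ideal.span {A} := by
    ext r
    show Submodule.Quotient.mk (r • g) = 0 ↔ _
    rw [Submodule.Quotient.mk_eq_zero, Submodule.mem_sup]
    constructor
    · rintro ⟨z, hz⟩
      obtain ⟨c, rfl⟩ := hgen z
      refine ⟨r - c * A, (hann _).1 ?_, c * A, Ideal.mem_span_singleton'.2 ⟨c, rfl⟩, sub_add_cancel _ _⟩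
      rw [sub_smul, mul_comm, mul_smul, sub_eq_zero]
      exact hz.symm
    · rintro ⟨w, hw, z, hz, rfl⟩
      obtain ⟨c, rfl⟩ := Ideal.mem_span_singleton'.1 hz
      exact ⟨c • g, by rw [add_smul, (hann w).2 hw, zero_add, mul_comm, mul_smul]; rfl⟩
  exact ((Submodule.quotEquivOfEq _ _ hk.symm).trans (φ.quotKerEquivOfSurjective hφ)).length_eq.symm

end Groth.Agent.DevK
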