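import Groth.Agent.DevK.Phi
import Groth.Agent.DevK.TwistAlg

/-! Two embeddings of the structure sheaf of a closed subvariety, differing by a rational function. -/

set_option autoImplicit false
set_option linter.style.haveILetI false
set_option backward.isDefEq.respectTransparency false
set_option backward.isDefEq.respectTransparency.types false

universe u

open CategoryTheory CategoryTheory.Limits AlgebraicGeometry

namespace Groth.Agent.DevK

open Groth.Agent

variable {X : Scheme.{u}}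

theorem mono_of_stalk {A B : X.Modules} (f : A ⟶ B)
    (h : ∀ x : X, Function.Injective ((DerSch.stalkFunctor X x).map f).hom) : Mono f := by
  let S := ShortComplex.mk (0 : A ⟶ A) f zero_comp
  refine (S.exact_iff_mono rfl).1 ((KFlatLib.exact_iff_stalk S).2 fun x => ?_)
  exact ((S.map (DerSch.stalkFunctor X x)).exact_iff_mono ((DerSch.stalkFunctor X x).map_zero A A)).2
    ((ModuleCat.mono_iff_injective _).2 (h x))

variable (ξ : X)

/-- The value of the structure sheaf of the closure at its generic point. -/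
noncomputable abbrev Mξ : PUnit.{u + 1} → ModuleCat.{u} (X.presheaf.stalk ξ) :=
  fun _ => ModuleCat.of (X.presheaf.stalk ξ) ((Cyc.closureStructureSheaf ξ).presheaf.stalk ξ)

/-- Rational sections of the closure. -/
noncomputable abbrev KSh : X.Modules := V (ξ := fun _ : PUnit.{u + 1} => ξ) (Mξ ξ)

/-- Multiplication by a germ at the generic point. -/
noncomputable def emb (r : X.presheaf.stalk ξ) : Cyc.closureStructureSheaf ξ ⟶ KSh ξ :=
  toV (Mξ ξ) (Cyc.closureStructureSheaf ξ) fun _ => r • LinearMap.id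

theorem locFinPts_one : LocFinPts fun _ : PUnit.{u + 1} => ξ := fun _ => ⟨⊤, trivial, Set.toFinite _⟩

theorem ev_emb (r : X.presheaf.stalk ξ) {x : X} (h : ξ ⤳ x) (c : X.presheaf.stalk x) :
    ev (M := Mξ ξ) PUnit.unit h (((DerSch.stalkFunctor X x).map (emb ξ r)).hom (c • gen ξ x)) =
      (r * X.presheaf.stalkSpecializes h c) • gen ξ ξ := by
  rw [map_smul, ev_smul]
  have := ev_toV (M := Mξ ξ) (H := Cyc.closureStructureSheaf ξ) (fun _ => r • LinearMap.id) PUnit.unit h (gen ξ x)
  refine (congrArg (fun z => X.presheaf.stalkSpecializes h c • z) this).trans ?_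
  rw [stalkSpecializes_gen, LinearMap.smul_apply, LinearMap.id_apply, smul_smul, mul_comm]

variable [IsLocallyNoetherian X]

theorem smul_genξ_eq_zero_iff (c : X.presheaf.stalk ξ) : c • gen ξ ξ = 0 ↔ X.residue ξ c = 0 := by
  rw [smul_gen_eq_zero_iff ξ specializes_rfl]
  show X.residue ξ ((X.presheaf.stalkSpecializes (specializes_refl ξ)) c) = 0 ↔ _
  rw [TopCat.Presheaf.stalkSpecializes_refl]
  rfl

variable {r : X.presheaf.stalk ξ} (hr : IsUnit r)

include hr in
theorem injective_emb (x : X) : Function.Injective ((DerSch.stalkFunctor X x).map (emb ξ r)).hom := by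
  by_cases h : ξ ⤳ x
  · refine (injective_iff_map_eq_zero _).2 fun t ht => ?_
    obtain ⟨c, rfl⟩ := exists_smul_gen ξ (x := x) t
    have e := ev_emb ξ r h c
    rw [ht, map_zero] at e
    rw [eq_comm, smul_genξ_eq_zero_iff, map_mul] at e
    refine (smul_gen_eq_zero_iff ξ h c).2 ((mul_eq_zero.1 e).resolve_left ?_)
    exact (hr.map (X.residue ξ).hom).ne_zero
  · haveI : Subsingleton ((DerSch.stalkFunctor X x).obj (Cyc.closureStructureSheaf ξ)) :=
      not_nontrivial_iff_subsingleton.1 (not_nz_closure ξ h)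
    exact Function.injective_of_subsingleton _

omit [IsLocallyNoetherian X] in
include hr in
theorem surjective_emb_gen : Function.Surjective ((DerSch.stalkFunctor X ξ).map (emb ξ r)).hom :=
  (toV_bijective (locFinPts_one ξ) (fun _ => r • LinearMap.id) PUnit.unit (fun _ _ => rfl) (by
    refine ⟨fun a b hab => ?_, fun v => ⟨((hr.unit⁻¹ : (X.presheaf.stalk ξ)ˣ) : X.presheaf.stalk ξ) • v, ?_⟩⟩
    · exact hr.smul_left_cancel.1 hab
    · show r • (_ : ↑(Mξ ξ PUnit.unit)) = v
      rw [LinearMap.id_apply, smul_smul, IsUnit.mul_val_inv, one_smul])).2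

/-- The sum of two copies. -/
noncomputable abbrev two : X.Modules := ∐ fun _ : ULift.{u} Bool => Cyc.closureStructureSheaf ξ

/-- The module spanned by the two embeddings. -/
noncomputable abbrev twoMap (r : X.presheaf.stalk ξ) : two ξ ⟶ KSh ξ :=
  Sigma.desc fun b => emb ξ (if b.down then r else 1)

/-- The sheaf spanned by `1` and the rational function. -/
noncomputable abbrev Tw (r : X.presheaf.stalk ξ) : X.Modules := img (twoMap ξ r)

/-- The two embeddings. -/
noncomputable abbrev inT (r : X.presheaf.stalk ξ) (b : Bool) : Cyc.closureStructureSheaf ξ ⟶ Tw ξ r :=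
  Sigma.ι (fun _ : ULift.{u} Bool => Cyc.closureStructureSheaf ξ) ⟨b⟩ ≫ toImg (twoMap ξ r)

theorem isQCoh_KSh : Coh.IsQCoh (KSh ξ) :=
  isQCoh_V (locFinPts_one ξ) fun _ c hc m => ⟨1, by
    obtain ⟨d, rfl⟩ := exists_smul_gen ξ (x := ξ) m
    rw [pow_one, smul_comm, (smul_genξ_eq_zero_iff ξ c).2 ((IsLocalRing.residue_eq_zero_iff c).2 hc), smul_zero]⟩

theorem isCoh_Tw : Coh.IsCoh (Tw ξ r) :=
  isCoh_img (isCoh_sigma (locFin_of_finite _) fun _ => isCoh_closure ξ) (isQCoh_KSh ξ) _

omit [IsLocallyNoetherian X] in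
theorem inT_comp (b : Bool) :
    inT ξ r b ≫ kernel.ι (cokernel.π (twoMap ξ r)) = emb ξ (if b then r else 1) := by
  rw [Category.assoc, toImg_ι, Sigma.ι_desc]

omit [IsLocallyNoetherian X] in
include hr in
theorem isUnit_ite (b : Bool) : IsUnit (if b then r else 1) := by cases b <;> simp [hr]

include hr in
theorem mono_inT (b : Bool) : Mono (inT ξ r b) := by
  haveI : Mono (inT ξ r b ≫ kernel.ι (cokernel.π (twoMap ξ r))) := by
    rw [inT_comp]
    exact mono_of_stalk _ (injective_emb ξ (isUnit_ite ξ hr b))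
  exact mono_of_mono _ (kernel.ι (cokernel.π (twoMap ξ r)))

theorem spec_of_nz_Tw {y : X} (h : NZ (Tw ξ r) y) : ξ ⤳ y := by
  haveI : Epi (toImg (twoMap ξ r)) := inferInstanceAs (Epi (Abelian.factorThruImage _))
  obtain ⟨b, hb⟩ := exists_nz_of_sigma (h.of_epi (toImg (twoMap ξ r)))
  exact by_contra fun hc => not_nz_closure ξ hc hb

/-- The cokernel of an embedding. -/
noncomputable abbrev coT (r : X.presheaf.stalk ξ) (b : Bool) : X.Modules := cokernel (inT ξ r b)

/-- The short exact sequence of an embedding. -/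
noncomputable abbrev twSeq (r : X.presheaf.stalk ξ) (b : Bool) : ShortComplex X.Modules :=
  ShortComplex.mk (inT ξ r b) (cokernel.π (inT ξ r b)) (cokernel.condition _)

include hr in
theorem twSeq_shortExact (b : Bool) : (twSeq ξ r b).ShortExact :=
  haveI := mono_inT ξ hr b
  { exact := ShortComplex.exact_of_g_is_cokernel _ (cokernelIsCokernel _) }

theorem spec_of_nz_coT {b : Bool} {y : X} (h : NZ (coT ξ r b) y) : ξ ⤳ y :=
  spec_of_nz_Tw ξ (h.of_epi (cokernel.π (inT ξ r b)))

theorem isCoh_coT (b : Bool) : Coh.IsCoh (coT ξ r b) :=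
  QCoh.isCoh_cokernel (isCoh_closure ξ).1 (isCoh_Tw ξ) _

variable {δ : X → ℤ} (hd : Cyc.IsDimFun X δ) {k : ℤ}

include hd hr in
theorem cohLe_coT (hξ : δ ξ = k + 1) (b : Bool) : Cyc.CohLe δ k (coT ξ r b) := by
  refine ⟨isCoh_coT ξ b, fun y hy => ?_⟩
  have hsp := spec_of_nz_coT ξ hy
  have hle := CycLib.delta_le hd hsp
  by_contra hc
  have e : ξ = y := CycLib.eq_of_delta_le hd hsp (by omega)
  subst e
  refine not_nz_cokernel (inT ξ r b) ?_ hy
  intro t
  obtain ⟨s, hs⟩ := surjective_emb_gen ξ (isUnit_ite ξ hr b)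
    (((DerSch.stalkFunctor X ξ).map (kernel.ι (cokernel.π (twoMap ξ r)))).hom t)
  refine ⟨s, stalk_injective (kernel.ι (cokernel.π (twoMap ξ r))) ξ ?_⟩
  rw [← hs, ← stalkMap_comp, inT_comp]

set_option maxHeartbeats 800000 in
include hd hr in
/-- The cycle of the difference of the cokernels is the divisor. -/
theorem sheafFun_coT_sub (hξ : δ ξ = k + 1) (x : X) :
    Cyc.sheafFun δ k (coT ξ r true) x - Cyc.sheafFun δ k (coT ξ r false) x =
      Cyc.divFun δ ξ (X.residue ξ r) x := by
  unfold Cyc.sheafFun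
  split_ifs with hx
  swap
  · rw [sub_zero, CycLib.divFun_eq_zero_of_delta δ _ (by omega)]
  by_cases h : ξ ⤳ x
  swap
  · rw [CycLib.divFun_eq_zero_of_not_specializes δ _ h]
    have h0 : ∀ b, Subsingleton ((coT ξ r b).presheaf.stalk x) := fun b =>
      not_nontrivial_iff_subsingleton.1 fun hn => h (spec_of_nz_coT ξ hn)
    haveI := h0 true
    haveI := h0 false
    rw [Module.length_eq_zero, Module.length_eq_zero]
    simp
  rw [CycLib.divFun_eq δ _ h (by omega)]
  obtain ⟨A, B, hB, hAB⟩ := exists_frac (h := h) (show RK h from X.residue ξ r)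
  have hAB' : X.residue ξ r * Cyc.specMap x ξ h B = Cyc.specMap x ξ h A := hAB
  have hB0 : Cyc.specMap x ξ h B ≠ 0 := hB
  have hr0 : X.residue ξ r ≠ 0 := (hr.map (X.residue ξ).hom).ne_zero
  have hA0 : Cyc.specMap x ξ h A ≠ 0 := by rw [← hAB']; exact mul_ne_zero hr0 hB0
  let a : Bool → (Cyc.closureStructureSheaf ξ).presheaf.stalk x →ₗ[X.presheaf.stalk x] (Tw ξ r).presheaf.stalk x :=
    fun b => CycLib.stalkLin (inT ξ r b) x
  have hses : ∀ b, Function.Injective (a b) ∧ Module.length (X.presheaf.stalk x) ((coT ξ r b).presheaf.stalk x) =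
      Module.length (X.presheaf.stalk x) ((Tw ξ r).presheaf.stalk x ⧸ LinearMap.range (a b)) := fun b => by
    obtain ⟨hi, he, hs⟩ := CycLib.stalk_shortExact (twSeq_shortExact ξ hr b) (isCoh_closure ξ).1 (isCoh_Tw ξ).1
      (isCoh_coT ξ b).1 x
    exact ⟨hi, ((Submodule.quotEquivOfEq _ _ (LinearMap.exact_iff.1 he).symm).trans
      (LinearMap.quotKerEquivOfSurjective _ hs)).length_eq.symm⟩
  have hev : ∀ (b : Bool) (c : X.presheaf.stalk x),
      ev (M := Mξ ξ) PUnit.unit h (((DerSch.stalkFunctor X x).map (kernel.ι (cokernel.π (twoMap ξ r)))).hom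
        (a b (c • gen ξ x))) = ((if b then r else 1) * X.presheaf.stalkSpecializes h c) • gen ξ ξ := fun b c => by
    refine Eq.trans ?_ (ev_emb ξ _ h c)
    rw [← inT_comp ξ b, stalkMap_comp]
    rfl
  have hrel : (a false).comp (LinearMap.lsmul _ _ A) = (a true).comp (LinearMap.lsmul _ _ B) := by
    refine LinearMap.ext fun t => ?_
    obtain ⟨c, rfl⟩ := exists_smul_gen ξ (x := x) t
    show a false (A • c • gen ξ x) = a true (B • c • gen ξ x)
    refine stalk_injective (kernel.ι (cokernel.π (twoMap ξ r))) x (sub_eq_zero.1 (stalk_ext (locFinPts_one ξ) fun i hi => ?_))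
    rw [smul_smul, smul_smul]
    refine (map_sub (ev (M := Mξ ξ) PUnit.unit h) _ _).trans ?_
    rw [hev, hev, ← sub_smul, smul_genξ_eq_zero_iff]
    simp only [Bool.false_eq_true, if_false, if_true, map_sub, map_mul, one_mul]
    show Cyc.specMap x ξ h A * Cyc.specMap x ξ h c - X.residue ξ r * (Cyc.specMap x ξ h B * Cyc.specMap x ξ h c) = 0
    rw [← mul_assoc, hAB', sub_self]
  have hann : ∀ s : X.presheaf.stalk x, s • gen ξ x = 0 ↔ s ∈ RingHom.ker (Cyc.specMap x ξ h) := fun s =>
    smul_gen_eq_zero_iff ξ h s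
  have key : Ring.ord (Cyc.LocQuot x ξ h) (Ideal.Quotient.mk _ A) +
      Module.length (X.presheaf.stalk x) ((coT ξ r false).presheaf.stalk x) =
      Ring.ord (Cyc.LocQuot x ξ h) (Ideal.Quotient.mk _ B) +
      Module.length (X.presheaf.stalk x) ((coT ξ r true).presheaf.stalk x) := by
    have e1 := length_coker_smul (a false) (hses false).1 A
    have e2 := length_coker_smul (a true) (hses true).1 B
    rw [length_cyclic_coker _ (exists_smul_gen ξ) hann, ← (hses false).2] at e1
    rw [length_cyclic_coker _ (exists_smul_gen ξ) hann, ← (hses true).2] at e2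
    rw [← e1, ← e2, hrel]
  have hx' : δ x + 1 = δ ξ := by omega
  haveI := CycLib.krullDimLE_locQuot hd h hx'
  have hfin : ∀ s, Cyc.specMap x ξ h s ≠ 0 → Ring.ord (Cyc.LocQuot x ξ h) (Ideal.Quotient.mk _ s) ≠ ⊤ ∧
      Cyc.ordAt x ξ h (Cyc.specMap x ξ h s) = ((Ring.ord (Cyc.LocQuot x ξ h) (Ideal.Quotient.mk _ s)).toNat : ℤ) := by
    intro s hs
    have hne : (Ideal.Quotient.mk (RingHom.ker (Cyc.specMap x ξ h)) s : Cyc.LocQuot x ξ h) ≠ 0 := fun h0 =>
      hs (RingHom.mem_ker.1 (Ideal.Quotient.eq_zero_iff_mem.1 h0))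
    have h1 : Ring.ord (Cyc.LocQuot x ξ h) (Ideal.Quotient.mk _ s) ≠ ⊤ :=
      Ring.ord_ne_top (R := Cyc.LocQuot x ξ h) (mem_nonZeroDivisors_of_ne_zero (M₀ := Cyc.LocQuot x ξ h) hne)
    refine ⟨h1, ?_⟩
    rw [← CycLib.algebraMap_locQuot_mk h s]
    exact CycLib.ordAt_algebraMap hd h hx' hne
  have hord : Cyc.ordAt x ξ h (Cyc.specMap x ξ h A) =
      Cyc.ordAt x ξ h (X.residue ξ r) + Cyc.ordAt x ξ h (Cyc.specMap x ξ h B) := by
    rw [← hAB', CycLib.ordAt_mul hd h hx' hr0 hB0]
  have hl : ∀ b, Module.length (X.presheaf.stalk x) ((coT ξ r b).presheaf.stalk x) ≠ ⊤ := fun b =>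
    (length_lt_top_of_cohLe hd (cohLe_coT ξ hr hd hξ b) hx.ge).ne
  have key' := congrArg ENat.toNat key
  rw [ENat.toNat_add (hfin A hA0).1 (hl false), ENat.toNat_add (hfin B hB0).1 (hl true)] at key'
  rw [(hfin A hA0).2, (hfin B hB0).2] at hord
  omega

end Groth.Agent.DevK
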