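import Groth.Agent.DevK.Twist

/-! Sums of principal divisors vanish in `K₀(Coh_{≤k+1}/Coh_{≤k-1})`. -/

set_option autoImplicit false
set_option linter.style.haveILetI false
set_option backward.isDefEq.respectTransparency false
set_option backward.isDefEq.respectTransparency.types false

universe u

open CategoryTheory CategoryTheory.Limits AlgebraicGeometry

namespace Groth.Agent.DevK

open Groth.Agent

variable {X : Scheme.{u}} {δ : X → ℤ}

theorem locFin_of_spec {ι : Type u} {ξ : ι → X} (hl : LocClos ξ) {G : ι → X.Modules}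
    (h : ∀ i y, NZ (G i) y → ξ i ⤳ y) : LocFin G := fun x => by
  obtain ⟨U, hU, hx, hf⟩ := hl x
  exact ⟨⟨U, hU⟩, hx, hf.subset fun i ⟨y, hy, hn⟩ => ⟨y, specializes_iff_mem_closure.1 (h i y hn), hy⟩⟩

variable [IsLocallyNoetherian X] (hd : Cyc.IsDimFun X δ) {k : ℤ}

include hd in
theorem length_sigma_toNat {ι : Type u} {G : ι → X.Modules} (hl : LocFin G) (hG : ∀ i, Cyc.CohLe δ k (G i))
    {x : X} (hx : δ x = k) :
    (((Module.length (X.presheaf.stalk x) ((∐ G).presheaf.stalk x)).toNat : ℕ) : ℤ) =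
      ∑ᶠ i, ((Module.length (X.presheaf.stalk x) ((G i).presheaf.stalk x)).toNat : ℤ) := by
  rw [length_stalk_sigma hl x, ENat.toNat_sum fun i _ => (length_lt_top_of_cohLe hd (hG i) hx.ge).ne, Nat.cast_sum]
  refine (finsum_eq_sum_of_support_subset _ fun i hi => ?_).symm
  rw [Finset.mem_coe, Set.Finite.mem_toFinset]
  refine by_contra fun hn => hi ?_
  haveI : Subsingleton ((G i).presheaf.stalk x) := not_nontrivial_iff_subsingleton.1 hn
  show ((Module.length (X.presheaf.stalk x) ((G i).presheaf.stalk x)).toNat : ℤ) = 0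
  rw [Module.length_eq_zero]
  rfl

omit [IsLocallyNoetherian X] in
theorem finite_support_length {ι : Type u} {G : ι → X.Modules} (hl : LocFin G) (x : X) :
    (Function.support fun i => ((Module.length (X.presheaf.stalk x) ((G i).presheaf.stalk x)).toNat : ℤ)).Finite :=
  (hl.finite_at x).subset fun i hi => by
    refine not_subsingleton_iff_nontrivial.1 fun hs => hi ?_
    haveI := hs
    show ((Module.length (X.presheaf.stalk x) ((G i).presheaf.stalk x)).toNat : ℤ) = 0
    rw [Module.length_eq_zero]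
    rfl

include hd in
theorem toQ_pos_eq_neg {a : X → ℤ} (ha : IsCoef δ k a) (hr : a ∈ ratSub hd k) :
    Cyc.toK0CohQuot δ (k + 1) (k - 1) (Cyc.cycleSheafPos a) =
      Cyc.toK0CohQuot δ (k + 1) (k - 1) (Cyc.cycleSheafNeg a) := by
  obtain ⟨ι, ξ, f, hξ, hf, hl, hsum⟩ := hr
  have hlift : ∀ i, ∃ r : X.presheaf.stalk (ξ i), X.residue (ξ i) r = f i := fun i => X.residue_surjective _ _
  choose r hrf using hlift
  have hu : ∀ i, IsUnit (r i) := fun i => by_contra fun hn => hf i (by
    rw [← hrf i]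
    exact (IsLocalRing.residue_eq_zero_iff _).2 hn)
  let Q : Bool → ι → X.Modules := fun b i => coT (ξ i) (r i) b
  have hQl : ∀ b, LocFin (Q b) := fun b => locFin_of_spec hl fun i y h => spec_of_nz_coT (ξ i) h
  have hQ : ∀ b i, Cyc.CohLe δ k (Q b i) := fun b i => cohLe_coT (ξ i) (hu i) hd (hξ i) b
  have hP : ∀ b, Cyc.CohLe δ k (∐ Q b) := fun b => (cls_cohLe δ k).sigma _ (hQl b) (hQ b)
  have hdiff : Cyc.sheafFun δ k (∐ Q true) - Cyc.sheafFun δ k (∐ Q false) = a := by
    funext x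
    rw [Pi.sub_apply, hsum x]
    unfold Cyc.sheafFun
    split_ifs with hx
    · rw [length_sigma_toNat hd (hQl true) (hQ true) hx, length_sigma_toNat hd (hQl false) (hQ false) hx,
        ← finsum_sub_distrib (finite_support_length (hQl true) x) (finite_support_length (hQl false) x)]
      refine finsum_congr fun i => ?_
      have e := sheafFun_coT_sub (ξ i) (hu i) hd (hξ i) x
      unfold Cyc.sheafFun at e
      rw [if_pos hx, if_pos hx, hrf] at e
      exact e
    · rw [sub_zero, finsum_eq_zero_of_forall_eq_zero]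
      exact fun i => CycLib.divFun_eq_zero_of_delta δ _ (by have := hξ i; omega)
  obtain ⟨ψ, hψ, hinj⟩ := exists_psi hd k
  have hpos := cohLe_pos hd ha
  have hneg : Cyc.CohLe δ k (Cyc.cycleSheafNeg a) := cohLe_pos hd ha.neg
  have low : Cyc.toK0CohQuot δ k (k - 1) (∐ Q true) + Cyc.toK0CohQuot δ k (k - 1) (Cyc.cycleSheafNeg a) =
      Cyc.toK0CohQuot δ k (k - 1) (∐ Q false) + Cyc.toK0CohQuot δ k (k - 1) (Cyc.cycleSheafPos a) := by
    refine hinj ?_
    have e := sheafFun_pos_sub_neg hd ha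
    rw [map_add, map_add, hψ _ (hP true), hψ _ (hP false), hψ _ hpos, hψ _ hneg]
    funext x
    have e1 := congrFun hdiff x
    have e2 := congrFun e x
    simp only [Pi.add_apply, Pi.sub_apply] at e1 e2 ⊢
    omega
  have hle : ∀ {F : X.Modules}, Cyc.CohLe δ k F → Cyc.CohLe δ (k + 1) F :=
    fun h => ⟨h.1, fun y hy => (h.2 y hy).trans (by omega)⟩
  obtain ⟨up, hup⟩ : ∃ up : Cyc.K0CohQuot δ k (k - 1) →+ Cyc.K0CohQuot δ (k + 1) (k - 1),
      ∀ F : X.Modules, Cyc.CohLe δ k F →
        up (Cyc.toK0CohQuot δ k (k - 1) F) = Cyc.toK0CohQuot δ (k + 1) (k - 1) F := by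
    obtain ⟨g, hg⟩ := KZ.exists_liftSub (Cyc.CohLe δ k) (fun F => Cyc.toK0CohQuot δ (k + 1) (k - 1) F)
      fun S hS a b c => toQ_ses hS (hle a) (hle b) (hle c)
    refine ⟨QuotientAddGroup.lift _ g ?_, fun F hF => hg F hF⟩
    rw [AddSubgroup.closure_le]
    rintro c ⟨F, hF, rfl⟩
    rw [SetLike.mem_coe, AddMonoidHom.mem_ker, hg F ⟨hF.1, fun y hy => (hF.2 y hy).trans (by omega)⟩]
    exact toQ_small hF
  have high := congrArg up low
  rw [map_add, map_add, hup _ (hP true), hup _ (hP false), hup _ hpos, hup _ hneg] at high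
  let T : ι → X.Modules := fun i => Tw (ξ i) (r i)
  have hG : Cyc.CohLe δ (k + 1) (∐ fun i => Cyc.closureStructureSheaf (ξ i)) :=
    (cls_cohLe δ (k + 1)).sigma _ (locFin_of_spec hl fun i y h => by_contra fun hc => not_nz_closure _ hc h)
      fun i => ⟨isCoh_closure _, fun y hy => (CycLib.delta_le hd (by_contra fun hc => not_nz_closure _ hc hy)).trans
        (hξ i).le⟩
  have hT : Cyc.CohLe δ (k + 1) (∐ T) :=
    (cls_cohLe δ (k + 1)).sigma _ (locFin_of_spec hl fun i y h => spec_of_nz_Tw (ξ i) h)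
      fun i => ⟨isCoh_Tw _, fun y hy => (CycLib.delta_le hd (spec_of_nz_Tw _ hy)).trans (hξ i).le⟩
  have eT : ∀ b, Cyc.toK0CohQuot δ (k + 1) (k - 1) (∐ T) =
      Cyc.toK0CohQuot δ (k + 1) (k - 1) (∐ fun i => Cyc.closureStructureSheaf (ξ i)) +
        Cyc.toK0CohQuot δ (k + 1) (k - 1) (∐ Q b) := fun b =>
    toQ_ses (sigmaSeq_shortExact (fun i => twSeq (ξ i) (r i) b) fun i => twSeq_shortExact (ξ i) (hu i) b)
      hG hT (hle (hP b))
  rw [add_left_cancel ((eT true).symm.trans (eT false))] at high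
  exact (add_left_cancel high).symm

end Groth.Agent.DevK
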