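import Groth.Agent.DevK.TensorInv
import Groth.Agent.DevK.Boundary

/-! `[F ⊗ L] - [F]` is the cap with the first Chern class. -/

set_option autoImplicit false
set_option linter.style.haveILetI false
set_option backward.isDefEq.respectTransparency false
set_option backward.isDefEq.respectTransparency.types false

universe u

open CategoryTheory CategoryTheory.Limits AlgebraicGeometry

namespace Groth.Agent.DevK

open Groth.Agent H23.RatSec

variable {X : Scheme.{u}} [IsLocallyNoetherian X] {δ : X → ℤ} (hd : Cyc.IsDimFun X δ) {k : ℤ}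

omit [IsLocallyNoetherian X] in
theorem cohLe_succ {F : X.Modules} (h : Cyc.CohLe δ k F) : Cyc.CohLe δ (k + 1) F :=
  ⟨h.1, fun y hy => (h.2 y hy).trans (by omega)⟩

omit [IsLocallyNoetherian X] in
theorem exists_up (k : ℤ) : ∃ up : Cyc.K0CohQuot δ k (k - 1) →+ Cyc.K0CohQuot δ (k + 1) (k - 1),
    ∀ F : X.Modules, Cyc.CohLe δ k F →
      up (Cyc.toK0CohQuot δ k (k - 1) F) = Cyc.toK0CohQuot δ (k + 1) (k - 1) F := by
  obtain ⟨g, hg⟩ := KZ.exists_liftSub (Cyc.CohLe δ k) (fun F => Cyc.toK0CohQuot δ (k + 1) (k - 1) F)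
    fun S hS a b c => toQ_ses hS (cohLe_succ a) (cohLe_succ b) (cohLe_succ c)
  refine ⟨QuotientAddGroup.lift _ g ?_, fun F hF => hg F hF⟩
  rw [AddSubgroup.closure_le]
  rintro c ⟨F, hF, rfl⟩
  rw [SetLike.mem_coe, AddMonoidHom.mem_ker, hg F ⟨hF.1, fun y hy => (hF.2 y hy).trans (by omega)⟩]
  exact toQ_small hF

variable {L : X.Modules} (hL : PicF.IsInvertible L)

include hd hL in
theorem exists_twistDiff (k : ℤ) : ∃ D : Cyc.K0CohQuot δ (k + 1) k →+ Cyc.K0CohQuot δ (k + 1) (k - 1),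
    ∀ F : X.Modules, Cyc.CohLe δ (k + 1) F → D (Cyc.toK0CohQuot δ (k + 1) k F) =
      Cyc.toK0CohQuot δ (k + 1) (k - 1) (CohB1.tensorMod F L) - Cyc.toK0CohQuot δ (k + 1) (k - 1) F := by
  haveI := AmpleVan.isEquivalence_tw hL
  obtain ⟨g, hg⟩ := KZ.exists_liftSub (Cyc.CohLe δ (k + 1))
    (fun F => Cyc.toK0CohQuot δ (k + 1) (k - 1) (CohB1.tensorMod F L) - Cyc.toK0CohQuot δ (k + 1) (k - 1) F)
    fun S hS a b c => by
      have hS' : (S.map (AmpleVan.tw L)).ShortExact := hS.map_of_exact (AmpleVan.tw L)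
      have e := toQ_ses (b := k - 1) hS' (cohLe_tensor hL a) (cohLe_tensor hL b) (cohLe_tensor hL c)
      have e' := toQ_ses (b := k - 1) hS a b c
      change _ = Cyc.toK0CohQuot δ (k + 1) (k - 1) (CohB1.tensorMod S.X₁ L) +
        Cyc.toK0CohQuot δ (k + 1) (k - 1) (CohB1.tensorMod S.X₃ L) at e
      show Cyc.toK0CohQuot δ (k + 1) (k - 1) (CohB1.tensorMod S.X₂ L) - _ = _
      rw [show Cyc.toK0CohQuot δ (k + 1) (k - 1) (CohB1.tensorMod S.X₂ L) = _ from e, e']
      abel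
  refine ⟨QuotientAddGroup.lift _ g ?_, fun F hF => hg F hF⟩
  rw [AddSubgroup.closure_le]
  rintro c ⟨F, hF, rfl⟩
  rw [SetLike.mem_coe, AddMonoidHom.mem_ker, hg F (cohLe_succ hF), sub_eq_zero]
  obtain ⟨ψ, hψ, hinj⟩ := exists_psi hd k
  obtain ⟨up, hup⟩ := exists_up (δ := δ) (X := X) k
  rw [← hup F hF, ← hup _ (cohLe_tensor hL hF)]
  exact congrArg up (hinj (by rw [hψ _ hF, hψ _ (cohLe_tensor hL hF), sheafFun_tensor hL]))

/-- The two modules attached to a point. -/
noncomputable def twK (L : X.Modules) (ξ : X) : Bool → X.Modules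
  | false => Cyc.closureStructureSheaf ξ
  | true => CohB1.tensorMod (Cyc.closureStructureSheaf ξ) L

include hd hL in
theorem exists_pairs (ξ : X) (hξ : δ ξ = k + 1) {s : Cyc.secFibre L ξ} (hs : s ≠ 0) :
    ∃ e : ∀ b, Emb ξ (twK L ξ b), ∀ x, δ x = k →
      Cyc.sheafFun δ k (pairQ e false) x - Cyc.sheafFun δ k (pairQ e true) x = Cyc.secDivFun δ L ξ s x := by
  obtain ⟨eL, heL⟩ := exists_embL ξ hL hs
  let e : ∀ b, Emb ξ (twK L ξ b) := fun b => match b with
    | false => embId ξ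
    | true => eL
  refine ⟨e, fun x hx => ?_⟩
  by_cases h : ξ ⤳ x
  swap
  · have h0 : ∀ b, Cyc.sheafFun δ k (pairQ e b) x = 0 := fun b => by
      unfold Cyc.sheafFun
      haveI : Subsingleton ((pairQ e b).presheaf.stalk x) :=
        not_nontrivial_iff_subsingleton.1 fun hn => h (spec_of_nz_pairQ e hn)
      rw [if_pos hx, Module.length_eq_zero]
      rfl
    rw [h0, h0, sub_zero]
    unfold Cyc.secDivFun
    rw [dif_neg (fun h' : ξ ⤳ x ∧ δ x + 1 = δ ξ => h h'.1)]
  obtain ⟨t, ht, ht'⟩ := exists_gen hL x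
  obtain ⟨φ, hφ⟩ := exists_coord (ht' ξ h) s
  have hφ0 : X.residue ξ φ ≠ 0 := (residue_ne_zero (ht' ξ h)).2 (hφ ▸ hs)
  obtain ⟨r, hrφ, hr, h2, h3, h4⟩ := heL x h t ht (ht' ξ h) φ hφ
  let u : ∀ b, (twK L ξ b).presheaf.stalk x := fun b => match b with
    | false => gen ξ x
    | true => H23.RatSecTensor.tm x (gen ξ x) t
  let rr : Bool → X.presheaf.stalk ξ := fun b => match b with
    | false => 1
    | true => r
  have key := sheafFun_pairQ_sub e hd hξ hx h u rr
    (fun b => match b with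
      | false => exists_smul_gen ξ
      | true => h2)
    (fun b => match b with
      | false => fun c hc => (smul_gen_eq_zero_iff ξ h c).2 hc
      | true => h3)
    (fun b => match b with
      | false => isUnit_one
      | true => hr)
    (fun b => match b with
      | false => by
        show LinearMap.id ((Cyc.closureStructureSheaf ξ).presheaf.stalkSpecializes h (gen ξ x)) =
          (1 : X.presheaf.stalk ξ) • gen ξ ξ
        rw [stalkSpecializes_gen, LinearMap.id_apply, one_smul]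
      | true => h4)
    (f := X.residue ξ r) (by show _ * X.residue ξ 1 = X.residue ξ r; rw [map_one, mul_one])
  rw [secDivFun_eq hL hd h ht.1 hφ hφ0, ← neg_sub, key,
    show X.residue ξ r = (X.residue ξ φ)⁻¹ from eq_inv_of_mul_eq_one_right hrφ, CycLib.divFun_inv hd hφ0,
    Pi.neg_apply, neg_neg]

theorem finsum_sigma_fin {α : Type u} {a : α → ℤ} (ha : ∀ z, 0 ≤ a z) (F : α → ℤ)
    (hF : {z | a z ≠ 0 ∧ F z ≠ 0}.Finite) :
    ∑ᶠ i : (Σ z : {z : α // 0 < a z}, Fin (a z.1).toNat), F i.1.1 = ∑ᶠ z, a z * F z := by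
  classical
  let s := hF.toFinset.subtype fun z => 0 < a z
  rw [finsum_eq_sum_of_support_subset _ (s := s.sigma fun _ => Finset.univ) ?_,
    finsum_eq_sum_of_support_subset (fun z => a z * F z) (s := hF.toFinset) ?_, Finset.sum_sigma,
    ← Finset.sum_filter_of_ne (p := fun z => 0 < a z) (s := hF.toFinset), ← Finset.sum_subtype_eq_sum_filter]
  · refine Finset.sum_congr rfl fun z _ => ?_
    show ∑ _j : Fin (a z.1).toNat, F z.1 = _
    rw [Finset.sum_const, Finset.card_univ, Fintype.card_fin, nsmul_eq_mul, Int.toNat_of_nonneg (ha z.1)]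
  · intro z _ hz
    exact lt_of_le_of_ne (ha z) (left_ne_zero_of_mul hz).symm
  · intro z hz
    rw [Finset.mem_coe, Set.Finite.mem_toFinset]
    exact ⟨left_ne_zero_of_mul hz, right_ne_zero_of_mul hz⟩
  · rintro ⟨z, j⟩ hz
    rw [Finset.mem_coe, Finset.mem_sigma]
    refine ⟨?_, Finset.mem_univ _⟩
    rw [Finset.mem_subtype, Set.Finite.mem_toFinset]
    exact ⟨z.2.ne', hz⟩

include hd hL in
theorem toQ_tensor_sub {F : X.Modules} (hF : Cyc.CohLe δ (k + 1) F) {s : (ξ : X) → Cyc.secFibre L ξ}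
    (hs : ∀ ξ, s ξ ≠ 0) {c : X → ℤ} (hc : IsCoef δ k c)
    (hcf : c = Cyc.c1CapFun δ L (Cyc.sheafFun δ (k + 1) F) s) :
    Cyc.toK0CohQuot δ (k + 1) (k - 1) (CohB1.tensorMod F L) - Cyc.toK0CohQuot δ (k + 1) (k - 1) F =
      Cyc.toK0CohQuot δ (k + 1) (k - 1) (Cyc.cycleSheafPos c) -
        Cyc.toK0CohQuot δ (k + 1) (k - 1) (Cyc.cycleSheafNeg c) := by
  haveI := AmpleVan.isEquivalence_tw hL
  set a := Cyc.sheafFun δ (k + 1) F with hadef
  have ha : IsCoef δ (k + 1) a := isCoef_sheafFun hd hF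
  have ha0 : ∀ z, 0 ≤ a z := fun z => by
    simp only [hadef, Cyc.sheafFun]
    split_ifs <;> omega
  obtain ⟨D, hD⟩ := exists_twistDiff hd hL k
  have h0 : Cyc.toK0CohQuot δ (k + 1) k F = Cyc.toK0CohQuot δ (k + 1) k (Cyc.cycleSheafPos a) := by
    have := toQ_eq_pos hd hF
    rwa [show k + 1 - 1 = k by ring] at this
  have h1 := congrArg D h0
  rw [hD F hF, hD _ (cohLe_pos hd ha)] at h1
  rw [h1]
  let G : (Σ z : {z : X // 0 < a z}, Fin (a z.1).toNat) → X.Modules := fun i => Cyc.closureStructureSheaf i.1.1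
  have hξ : ∀ i : (Σ z : {z : X // 0 < a z}, Fin (a z.1).toNat), δ i.1.1 = k + 1 := ha.pos_point
  choose e he using fun i : (Σ z : {z : X // 0 < a z}, Fin (a z.1).toNat) =>
    exists_pairs hd hL i.1.1 (hξ i) (hs i.1.1)
  have hlG : LocFin G := locFin_pos ha
  have hspec : ∀ (H : (Σ z : {z : X // 0 < a z}, Fin (a z.1).toNat) → X.Modules),
      (∀ i y, NZ (H i) y → i.1.1 ⤳ y) → LocFin H := fun H hH x => by
    obtain ⟨U, hx, hf⟩ := hlG x
    exact ⟨U, hx, hf.subset fun i ⟨y, hy, hn⟩ => ⟨i.1.1, (hH i y hn).mem_open U.2 hy, nz_closure i.1.1⟩⟩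
  let Q : Bool → (Σ z : {z : X // 0 < a z}, Fin (a z.1).toNat) → X.Modules := fun b i => pairQ (e i) b
  have hQl : ∀ b, LocFin (Q b) := fun b => hspec _ fun i y h => spec_of_nz_pairQ (e i) h
  have hQ : ∀ b i, Cyc.CohLe δ k (Q b i) := fun b i => cohLe_pairQ (e i) hd (hξ i) b
  have hP : ∀ b, Cyc.CohLe δ k (∐ Q b) := fun b => (cls_cohLe δ k).sigma _ (hQl b) (hQ b)
  have hdiff : Cyc.sheafFun δ k (∐ Q false) - Cyc.sheafFun δ k (∐ Q true) = c := by
    funext x
    rw [Pi.sub_apply, hcf]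
    show _ = ∑ᶠ ξ, a ξ * Cyc.secDivFun δ L ξ (s ξ) x
    unfold Cyc.sheafFun
    split_ifs with hx
    · rw [length_sigma_toNat hd (hQl true) (hQ true) hx, length_sigma_toNat hd (hQl false) (hQ false) hx,
        ← finsum_sub_distrib (finite_support_length (hQl false) x) (finite_support_length (hQl true) x)]
      refine Eq.trans ?_ (finsum_sigma_fin ha0 (fun z => Cyc.secDivFun δ L z (s z) x) ?_)
      · refine finsum_congr fun i => ?_
        have e1 := he i x hx
        unfold Cyc.sheafFun at e1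
        rw [if_pos hx, if_pos hx] at e1
        exact e1
      · obtain ⟨U, hxU, hf⟩ := ha.2 x
        refine hf.subset fun z hz => ⟨?_, hz.1⟩
        refine Specializes.mem_open (by_contra fun hn => hz.2 ?_) U.2 hxU
        exact dif_neg fun h' => hn h'.1
    · rw [sub_zero, finsum_eq_zero_of_forall_eq_zero]
      intro z
      by_cases hz : a z = 0
      · rw [hz, zero_mul]
      · rw [show Cyc.secDivFun δ L z (s z) x = 0 from dif_neg fun h' => hx (by have := ha.1 z hz; omega), mul_zero]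
  obtain ⟨ψ, hψ, hinj⟩ := exists_psi hd k
  obtain ⟨up, hup⟩ := exists_up (δ := δ) (X := X) k
  have hpos := cohLe_pos hd hc
  have hneg : Cyc.CohLe δ k (Cyc.cycleSheafNeg c) := cohLe_pos hd hc.neg
  have low : Cyc.toK0CohQuot δ k (k - 1) (∐ Q false) + Cyc.toK0CohQuot δ k (k - 1) (Cyc.cycleSheafNeg c) =
      Cyc.toK0CohQuot δ k (k - 1) (∐ Q true) + Cyc.toK0CohQuot δ k (k - 1) (Cyc.cycleSheafPos c) := by
    refine hinj ?_
    have e := sheafFun_pos_sub_neg hd hc
    rw [map_add, map_add, hψ _ (hP true), hψ _ (hP false), hψ _ hpos, hψ _ hneg]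
    funext x
    have e1 := congrFun hdiff x
    have e2 := congrFun e x
    simp only [Pi.add_apply, Pi.sub_apply] at e1 e2 ⊢
    omega
  have high := congrArg up low
  rw [map_add, map_add, hup _ (hP true), hup _ (hP false), hup _ hpos, hup _ hneg] at high
  let H : Bool → (Σ z : {z : X // 0 < a z}, Fin (a z.1).toNat) → X.Modules := fun b i => twK L i.1.1 b
  have hH : ∀ b, Cyc.CohLe δ (k + 1) (∐ H b) := fun b =>
    (cls_cohLe δ (k + 1)).sigma _ (hspec _ fun i y h => (e i b).supp y h)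
      fun i => ⟨(e i b).coh, fun y hy => (CycLib.delta_le hd ((e i b).supp y hy)).trans (hξ i).le⟩
  have hT : Cyc.CohLe δ (k + 1) (∐ fun i => pairT (e i)) :=
    (cls_cohLe δ (k + 1)).sigma _ (hspec _ fun i y h => spec_of_nz_pairT (e i) h)
      fun i => cohLe_pairT (e i) hd (hξ i)
  have eT : ∀ b, Cyc.toK0CohQuot δ (k + 1) (k - 1) (∐ fun i => pairT (e i)) =
      Cyc.toK0CohQuot δ (k + 1) (k - 1) (∐ H b) + Cyc.toK0CohQuot δ (k + 1) (k - 1) (∐ Q b) := fun b =>
    toQ_ses (sigmaSeq_shortExact (fun i => pairSeq (e i) b) fun i => pairSeq_shortExact (e i) b)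
      (hH b) hT (cohLe_succ (hP b))
  have eW : Cyc.toK0CohQuot δ (k + 1) (k - 1) (CohB1.tensorMod (Cyc.cycleSheafPos a) L) =
      Cyc.toK0CohQuot δ (k + 1) (k - 1) (∐ H true) :=
    toQ_congr ((cls_cohLe δ (k + 1)).clSub_iso (PreservesCoproduct.iso (AmpleVan.tw L) G)
      (cohLe_tensor hL (cohLe_pos hd ha)))
  have eG : Cyc.toK0CohQuot δ (k + 1) (k - 1) (Cyc.cycleSheafPos a) =
      Cyc.toK0CohQuot δ (k + 1) (k - 1) (∐ H false) := rfl
  rw [eW, eG]
  have e3 := (eT true).symm.trans (eT false)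
  rw [sub_eq_sub_iff_add_eq_add]
  linear_combination (norm := abel) e3 + high

end Groth.Agent.DevK
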