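import Groth.Agent.IntThLib.Euler
import Groth.Agent.IntThLib.Lattice
import Groth.Agent.CycLib.FinLen

/-! The index `length ker - length coker` of linear maps. -/

set_option autoImplicit false
set_option linter.style.haveILetI false

universe u

namespace Groth.Agent.DevK

open Groth.Agent

variable {R : Type u} [CommRing R]

/-- Kernel and cokernel of finite length. -/
def IdxFin {M N : Type u} [AddCommGroup M] [Module R M] [AddCommGroup N] [Module R N] (f : M →ₗ[R] N) : Prop :=
  Module.length R (LinearMap.ker f) ≠ ⊤ ∧ Module.length R (N ⧸ LinearMap.range f) ≠ ⊤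

/-- `length ker - length coker`. -/
noncomputable def idx {M N : Type u} [AddCommGroup M] [Module R M] [AddCommGroup N] [Module R N]
    (f : M →ₗ[R] N) : ℤ :=
  ((Module.length R (LinearMap.ker f)).toNat : ℤ) - ((Module.length R (N ⧸ LinearMap.range f)).toNat : ℤ)

variable {M' M M'' N' N N'' : Type u} [AddCommGroup M'] [Module R M'] [AddCommGroup M] [Module R M]
  [AddCommGroup M''] [Module R M''] [AddCommGroup N'] [Module R N'] [AddCommGroup N] [Module R N]
  [AddCommGroup N''] [Module R N'']

/-- Additivity of the index in a morphism of short exact sequences. -/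
theorem idx_additive {i : M' →ₗ[R] M} {π : M →ₗ[R] M''} {j : N' →ₗ[R] N} {q : N →ₗ[R] N''}
    (hi : Function.Injective i) (hπ : Function.Surjective π) (hex : Function.Exact i π)
    (hj : Function.Injective j) (hq : Function.Surjective q) (hex' : Function.Exact j q)
    {f' : M' →ₗ[R] N'} {f : M →ₗ[R] N} {f'' : M'' →ₗ[R] N''}
    (h₁ : j ∘ₗ f' = f ∘ₗ i) (h₂ : q ∘ₗ f = f'' ∘ₗ π) (hf' : IdxFin f') (hf'' : IdxFin f'') :
    IdxFin f ∧ idx f = idx f' + idx f'' := by
  have e1 : ∀ x, j (f' x) = f (i x) := fun x => LinearMap.congr_fun h₁ x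
  have e2 : ∀ x, q (f x) = f'' (π x) := fun x => LinearMap.congr_fun h₂ x
  let k₁ : LinearMap.ker f' →ₗ[R] LinearMap.ker f := i.restrict fun x hx => by
    rw [LinearMap.mem_ker, ← e1, LinearMap.mem_ker.mp hx, map_zero]
  let k₂ : LinearMap.ker f →ₗ[R] LinearMap.ker f'' := π.restrict fun x hx => by
    rw [LinearMap.mem_ker, ← e2, LinearMap.mem_ker.mp hx, map_zero]
  let c₁ : (N' ⧸ LinearMap.range f') →ₗ[R] (N ⧸ LinearMap.range f) := Submodule.mapQ _ _ j (by
    rintro _ ⟨y, rfl⟩; exact ⟨i y, (e1 y).symm⟩)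
  let c₂ : (N ⧸ LinearMap.range f) →ₗ[R] (N'' ⧸ LinearMap.range f'') := Submodule.mapQ _ _ q (by
    rintro _ ⟨y, rfl⟩; exact ⟨π y, (e2 y).symm⟩)
  have hexk : Function.Exact k₁ k₂ := by
    intro y
    constructor
    · intro hy
      obtain ⟨x, hx⟩ := (hex _).mp (congrArg Subtype.val hy)
      refine ⟨⟨x, ?_⟩, Subtype.ext hx⟩
      rw [LinearMap.mem_ker]
      apply hj
      rw [e1, hx, map_zero]
      exact y.2
    · rintro ⟨x, rfl⟩
      exact Subtype.ext (hex.apply_apply_eq_zero (x : M'))
  have hk₁ : Function.Injective k₁ := fun a b h => Subtype.ext (hi (congrArg Subtype.val h))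
  have hc₂ : Function.Surjective c₂ := fun z => by
    induction z using Submodule.Quotient.induction_on with
    | _ z =>
      obtain ⟨x, rfl⟩ := hq z
      exact ⟨Submodule.Quotient.mk x, rfl⟩
  have hexc : Function.Exact c₁ c₂ := by
    intro y
    induction y using Submodule.Quotient.induction_on with
    | _ y =>
      constructor
      · intro hy
        obtain ⟨z, hz⟩ := (Submodule.Quotient.mk_eq_zero _).mp hy
        obtain ⟨w, rfl⟩ := hπ z
        have h0 : q (y - f w) = 0 := by rw [map_sub, e2, hz, sub_self]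
        obtain ⟨x, hx⟩ := (hex' _).mp h0
        refine ⟨Submodule.Quotient.mk x, ?_⟩
        show Submodule.Quotient.mk (j x) = Submodule.Quotient.mk y
        rw [Submodule.Quotient.eq, hx]
        exact ⟨-w, by simp⟩
      · rintro ⟨x, hx⟩
        induction x using Submodule.Quotient.induction_on with
        | _ x =>
          rw [← hx]
          show Submodule.Quotient.mk (q (j x)) = 0
          rw [hex'.apply_apply_eq_zero, Submodule.Quotient.mk_zero]
  let d := SnakeLemma.δ' f' f f'' i π hex j q hex' h₁ h₂ (LinearMap.ker f'').subtype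
    (LinearMap.exact_subtype_ker_map f'') (LinearMap.range f').mkQ
    (LinearMap.exact_map_mkQ_range f') hπ hj
  have hd₁ : Function.Exact k₂ d := SnakeLemma.exact_δ'_right f' f f'' i π hex j q hex' h₁ h₂
    (LinearMap.ker f).subtype (LinearMap.exact_subtype_ker_map f) (LinearMap.ker f'').subtype
    (LinearMap.exact_subtype_ker_map f'') (LinearMap.range f').mkQ
    (LinearMap.exact_map_mkQ_range f') hπ hj k₂ (LinearMap.ext fun _ => rfl)
    (Submodule.injective_subtype _)
  have hd₂ : Function.Exact d c₁ := SnakeLemma.exact_δ'_left f' f f'' i π hex j q hex' h₁ h₂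
    (LinearMap.ker f'').subtype (LinearMap.exact_subtype_ker_map f'') (LinearMap.range f').mkQ
    (LinearMap.exact_map_mkQ_range f') (LinearMap.range f).mkQ
    (LinearMap.exact_map_mkQ_range f) hπ hj c₁ (LinearMap.ext fun _ => rfl)
    (Submodule.mkQ_surjective _)
  have l1 := IntThLib.length_eq_range_add_range hexk
  have l2 := IntThLib.length_eq_range_add_range hd₁
  have l3 := IntThLib.length_eq_range_add_range hd₂
  have l4 := IntThLib.length_eq_range_add_range hexc
  rw [← (LinearEquiv.ofInjective k₁ hk₁).length_eq] at l1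
  rw [LinearMap.range_eq_top.mpr hc₂, Module.length_top] at l4
  obtain ⟨K', C'⟩ := hf'
  obtain ⟨K'', C''⟩ := hf''
  obtain ⟨a1, a2⟩ := not_or.mp (mt ENat.add_eq_top.mpr (l2 ▸ K''))
  obtain ⟨b1, b2⟩ := not_or.mp (mt ENat.add_eq_top.mpr (l3 ▸ C'))
  have hk : Module.length R (LinearMap.ker f) ≠ ⊤ := by simp [l1, K', a1]
  have hc : Module.length R (N ⧸ LinearMap.range f) ≠ ⊤ := by simp [l4, C'', b2]
  refine ⟨⟨hk, hc⟩, ?_⟩
  rw [idx, idx, idx, l1, l2, l3, l4, ENat.toNat_add K' a1, ENat.toNat_add a1 a2,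
    ENat.toNat_add b1 b2, ENat.toNat_add b2 C'']
  push_cast
  ring

theorem idx_of_bijective {f : M →ₗ[R] N} (hf : Function.Bijective f) : IdxFin f ∧ idx f = 0 := by
  have hk : Module.length R (LinearMap.ker f) = 0 := by
    rw [LinearMap.ker_eq_bot.mpr hf.1, Module.length_bot]
  haveI : Subsingleton (N ⧸ LinearMap.range f) :=
    Submodule.Quotient.subsingleton_iff.2 (LinearMap.range_eq_top.mpr hf.2)
  have hc : Module.length R (N ⧸ LinearMap.range f) = 0 := Module.length_eq_zero
  exact ⟨⟨by simp [hk], by simp⟩, by simp [idx, hk]⟩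

theorem idx_prod_id (h : M →ₗ[R] N) (P : Type u) [AddCommGroup P] [Module R P] :
    (IdxFin (h.prodMap (LinearMap.id : P →ₗ[R] P)) ↔ IdxFin h) ∧
      idx (h.prodMap (LinearMap.id : P →ₗ[R] P)) = idx h := by
  let f := h.prodMap (LinearMap.id : P →ₗ[R] P)
  let k : LinearMap.ker h →ₗ[R] LinearMap.ker f :=
    ((LinearMap.inl R M P).restrict fun x hx => by
      rw [LinearMap.mem_ker] at hx ⊢
      ext <;> simp [f, hx])
  have hk : Function.Bijective k := by
    refine ⟨fun a b e => Subtype.ext (congrArg (fun z => z.1.1) e), fun ⟨⟨a, b⟩, hab⟩ => ?_⟩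
    have h1 : h a = 0 := congrArg Prod.fst hab
    have h2 : b = 0 := congrArg Prod.snd hab
    subst h2
    exact ⟨⟨a, h1⟩, rfl⟩
  let c : (N ⧸ LinearMap.range h) →ₗ[R] ((N × P) ⧸ LinearMap.range f) :=
    Submodule.mapQ _ _ (LinearMap.inl R N P) (by rintro _ ⟨y, rfl⟩; exact ⟨(y, 0), by simp [f]⟩)
  have hc : Function.Bijective c := by
    refine ⟨(injective_iff_map_eq_zero c).2 fun z hz => ?_, fun z => ?_⟩
    · induction z using Submodule.Quotient.induction_on with
      | _ z =>
        obtain ⟨⟨a, b⟩, hab⟩ := (Submodule.Quotient.mk_eq_zero _).mp hz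
        exact (Submodule.Quotient.mk_eq_zero _).mpr ⟨a, congrArg Prod.fst hab⟩
    · induction z using Submodule.Quotient.induction_on with
      | _ z =>
        obtain ⟨a, b⟩ := z
        refine ⟨Submodule.Quotient.mk a, ?_⟩
        show Submodule.Quotient.mk (a, (0 : P)) = Submodule.Quotient.mk (a, b)
        rw [Submodule.Quotient.eq]
        exact ⟨(0, -b), by simp [f]⟩
  have e1 := (LinearEquiv.ofBijective k hk).length_eq
  have e2 := (LinearEquiv.ofBijective c hc).length_eq
  exact ⟨by simp only [IdxFin]; rw [e1, e2], by simp only [idx]; rw [e1, e2]⟩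

/-- The index of a composite. -/
theorem idx_comp (f : M →ₗ[R] N) (g : N →ₗ[R] N'') (hf : IdxFin f) (hg : IdxFin g) :
    IdxFin (g ∘ₗ f) ∧ idx (g ∘ₗ f) = idx f + idx g := by
  have := idx_additive (f' := f) (f := (g ∘ₗ f).prodMap (LinearMap.id : N →ₗ[R] N)) (f'' := g)
    (i := LinearMap.prod LinearMap.id f) (π := f ∘ₗ LinearMap.fst R M N - LinearMap.snd R M N)
    (j := LinearMap.prod g LinearMap.id) (q := LinearMap.fst R N'' N - g ∘ₗ LinearMap.snd R N'' N)
    (fun a b h => congrArg Prod.fst h) (fun n => ⟨(0, -n), by simp⟩)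
    (fun z => by
      refine ⟨fun hz => ⟨z.1, ?_⟩, ?_⟩
      · have : f z.1 = z.2 := sub_eq_zero.1 hz
        ext <;> simp [this]
      · rintro ⟨a, rfl⟩; simp)
    (fun a b h => congrArg Prod.snd h) (fun p => ⟨(p, 0), by simp⟩)
    (fun z => by
      refine ⟨fun hz => ⟨z.2, ?_⟩, ?_⟩
      · have : z.1 = g z.2 := sub_eq_zero.1 hz
        ext <;> simp [this]
      · rintro ⟨a, rfl⟩; simp)
    (LinearMap.ext fun a => by simp) (LinearMap.ext fun a => by simp) hf hg
  obtain ⟨h1, h2⟩ := idx_prod_id (g ∘ₗ f) N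
  exact ⟨h1.1 this.1, h2.symm.trans this.2⟩

theorem idx_inclusion {W : Type u} [AddCommGroup W] [Module R W] {A B : Submodule R W} (h : A ≤ B) :
    idx (Submodule.inclusion h) = -((IntThLib.relLen R B A).toNat : ℤ) ∧
      (IntThLib.relLen R B A ≠ ⊤ → IdxFin (Submodule.inclusion h)) := by
  have hk : Module.length R (LinearMap.ker (Submodule.inclusion h)) = 0 := by
    rw [LinearMap.ker_eq_bot.mpr (Submodule.inclusion_injective h), Module.length_bot]
  have hr : LinearMap.range (Submodule.inclusion h) = A.submoduleOf B := Submodule.range_inclusion _ _ h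
  refine ⟨?_, fun hf => ⟨by simp [hk], ?_⟩⟩
  · rw [idx, hk, IntThLib.relLen, hr]; simp
  · rw [hr]; exact hf

/-- Lengths over a ring and over a quotient ring agree. -/
theorem relLen_restrictScalars {A : Type u} [CommRing A] [Algebra R A] {W : Type u} [AddCommGroup W]
    [Module R W] [Module A W] [IsScalarTower R A W] (hsurj : Function.Surjective (algebraMap R A))
    (P Q : Submodule A W) :
    IntThLib.relLen R (P.restrictScalars R) (Q.restrictScalars R) = IntThLib.relLen A P Q := by
  let S : Submodule A P := Q.submoduleOf P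
  have e : Module.length R ((P.restrictScalars R : Submodule R W) ⧸
      (Q.restrictScalars R).submoduleOf (P.restrictScalars R)) = Module.length R (↥P ⧸ S) :=
    (Submodule.Quotient.equiv _ (S.restrictScalars R)
      (LinearEquiv.refl R (↥P)) (Submodule.map_id _)).trans (Submodule.Quotient.restrictScalarsEquiv R S)
      |>.length_eq
  exact e.trans (Module.length_eq_of_surjective (S := R) (R := A) hsurj)

theorem length_quotient_pi {ι : Type u} [Fintype ι] {W : ι → Type u} [∀ i, AddCommGroup (W i)]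
    [∀ i, Module R (W i)] (P Q : ∀ i, Submodule R (W i)) :
    IntThLib.relLen R (Submodule.pi Set.univ P) (Submodule.pi Set.univ Q) =
      ∑ i, IntThLib.relLen R (P i) (Q i) := by
  classical
  let g : Submodule.pi Set.univ P →ₗ[R] (∀ i, ↥(P i) ⧸ (Q i).submoduleOf (P i)) :=
    LinearMap.pi fun i => ((Q i).submoduleOf (P i)).mkQ ∘ₗ
      LinearMap.codRestrict (P i) (LinearMap.proj i ∘ₗ (Submodule.pi Set.univ P).subtype)
        fun z => z.2 i (Set.mem_univ i)
  have hg : Function.Surjective g := fun v => by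
    choose w hw using fun i => Submodule.mkQ_surjective _ (v i)
    exact ⟨⟨fun i => (w i).1, fun i _ => (w i).2⟩, funext hw⟩
  have hker : LinearMap.ker g = (Submodule.pi Set.univ Q).submoduleOf (Submodule.pi Set.univ P) := by
    ext z
    rw [LinearMap.mem_ker]
    refine ⟨fun hz i _ => ?_, fun hz => funext fun i => ?_⟩
    · exact (Submodule.Quotient.mk_eq_zero ((Q i).submoduleOf (P i))
        (x := (⟨z.1 i, z.2 i (Set.mem_univ i)⟩ : P i))).1 (congrFun hz i)
    · exact (Submodule.Quotient.mk_eq_zero ((Q i).submoduleOf (P i))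
        (x := (⟨z.1 i, z.2 i (Set.mem_univ i)⟩ : P i))).2 (hz i (Set.mem_univ i))
  refine ((Submodule.quotEquivOfEq _ _ hker.symm).trans (g.quotKerEquivOfSurjective hg)).length_eq.trans ?_
  rw [Module.length_pi_of_fintype]
  rfl

theorem support_subset_closedPoint [IsLocalRing R] [Module.Finite R M]
    (h : ∀ q : Ideal R, q.IsPrime → q ≠ IsLocalRing.maximalIdeal R → ∀ m : M, ∃ s : R, s ∉ q ∧ s • m = 0) :
    Module.support R M ⊆ {IsLocalRing.closedPoint R} := by
  intro p hp
  by_contra hne
  obtain ⟨m, hm⟩ := Module.mem_support_iff'.1 hp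
  obtain ⟨s, hs, hsm⟩ := h p.asIdeal p.isPrime (fun e => hne (PrimeSpectrum.ext e)) m
  exact hm s hs hsm

end Groth.Agent.DevK
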