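import Groth.Agent.DevK.Cycle
import Groth.Agent.DevK.Idx
import Groth.Agent.DevK.Twist
import Groth.Agent.DevK.FinrankLen
import Groth.Agent.CurveCohLib.Skyscraper
import Groth.Agent.WeilLib.PointCount
import Groth.Agent.CycLib.CurveDeg
import Groth.Prelude.Def_ChowOps

/-! The Euler characteristic of a module of dimension zero is the degree of its cycle. -/

set_option autoImplicit false
set_option linter.style.haveILetI false
set_option backward.isDefEq.respectTransparency false
set_option backward.isDefEq.respectTransparency.types false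

universe u

open CategoryTheory CategoryTheory.Limits AlgebraicGeometry

namespace Groth.Agent.DevK

open Groth.Agent

variable {k : Type u} [Field k] {X : Scheme.{u}} [X.Over (Spec (CommRingCat.of k))]
  [IsProper (X ↘ Spec (CommRingCat.of k))] {δ : X → ℤ}

omit [IsProper (X ↘ Spec (CommRingCat.of k))] in
theorem delta_nonneg (hc : Cyc.DeltaCompat (X ↘ Spec (CommRingCat.of k)) δ (fun _ => 0)) (x : X) : 0 ≤ δ x := by
  obtain ⟨n, -, hn⟩ := hc x
  simp only at hn
  omega

omit [IsProper (X ↘ Spec (CommRingCat.of k))] in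
theorem isClosed_of_delta_zero (hd : Cyc.IsDimFun X δ)
    (hc : Cyc.DeltaCompat (X ↘ Spec (CommRingCat.of k)) δ (fun _ => 0)) {x : X} (hx : δ x = 0) :
    IsClosed ({x} : Set X) := by
  refine isClosed_of_closure_subset fun y hy => ?_
  exact (CycLib.eq_of_delta_le hd (specializes_iff_mem_closure.2 hy) (by
    rw [hx]; exact delta_nonneg hc y)).symm

theorem euler_eq_sum_residueDegree [IsLocallyNoetherian X] (hd : Cyc.IsDimFun X δ)
    (hc : Cyc.DeltaCompat (X ↘ Spec (CommRingCat.of k)) δ (fun _ => 0)) {F : X.Modules}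
    (hF : Cyc.CohLe δ 0 F) :
    Curv2.euler k X F =
      ∑ᶠ x : X, ((X ↘ Spec (CommRingCat.of k)).residueDegree x : ℤ) * Cyc.sheafFun δ 0 F x := by
  classical
  haveI := CurveCohLib.isNoetherian' (k := k) (X := X)
  have hsupp : ∀ {G : X.Modules}, Cyc.CohLe δ 0 G → ∀ x ∈ CohB1.support G, δ x = 0 := fun hG x hx =>
    le_antisymm (hG.2 x (not_subsingleton_iff_nontrivial.1 hx)) (delta_nonneg hc x)
  have hclosed : ∀ {G : X.Modules}, Cyc.CohLe δ 0 G → ∀ x ∈ CohB1.support G, IsClosed ({x} : Set X) :=
    fun hG x hx => isClosed_of_delta_zero hd hc (hsupp hG x hx)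
  have hfinite : ∀ {G : X.Modules}, Cyc.CohLe δ 0 G → (CohB1.support G).Finite := fun {G} hG => by
    have h1 := (locFinPts_gens hd hG).finite_of_isCompact (U := ⊤) (CompactSpace.isCompact_univ)
    refine (h1.image Subtype.val).subset fun x hx => ?_
    exact ⟨⟨x, hsupp hG x hx, not_subsingleton_iff_nontrivial.1 hx⟩, trivial, rfl⟩
  obtain ⟨e, efin⟩ := CurveCohLib.euler_eq_sum_stalks (k := k) hF.1 (hclosed hF) (hfinite hF).toFinset
    (by rw [Set.Finite.coe_toFinset])
  rw [e, finsum_eq_sum_of_support_subset _ (s := (hfinite hF).toFinset) (fun x hx => by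
    rw [Set.Finite.coe_toFinset]
    intro hs
    refine hx ?_
    have h0 : δ x = 0 → Cyc.sheafFun δ 0 F x = 0 := fun h => by
      haveI : Subsingleton (F.presheaf.stalk x) := hs
      unfold Cyc.sheafFun
      rw [if_pos h, Module.length_eq_zero]
      rfl
    show ((X ↘ Spec (CommRingCat.of k)).residueDegree x : ℤ) * Cyc.sheafFun δ 0 F x = 0
    by_cases h : δ x = 0
    · rw [h0 h, mul_zero]
    · unfold Cyc.sheafFun
      rw [if_neg h, mul_zero])]
  refine Finset.sum_congr rfl fun x hxS => ?_
  have hx := hsupp hF x ((hfinite hF).mem_toFinset.1 hxS)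
  unfold Cyc.sheafFun
  rw [if_pos hx, ← Nat.cast_mul, Nat.cast_inj]
  letI : Algebra k (X.presheaf.stalk x) := (Curv2.stalkMap k X x).toAlgebra
  have hG : Cyc.CohLe δ 0 (Cyc.closureStructureSheaf x) := ⟨isCoh_closure x, fun y hy =>
    (CycLib.delta_le hd (by_contra fun h => not_nz_closure x h hy)).trans hx.le⟩
  haveI hres : Module.Finite k (IsLocalRing.ResidueField (X.presheaf.stalk x)) := by
    obtain ⟨-, hf⟩ := CurveCohLib.euler_eq_sum_stalks (k := k) hG.1 (hclosed hG) (hfinite hG).toFinset
      (by rw [Set.Finite.coe_toFinset])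
    letI := CurveCohLib.stalkModuleK k (Cyc.closureStructureSheaf x) x
    haveI : IsScalarTower k (X.presheaf.stalk x) ((Cyc.closureStructureSheaf x).presheaf.stalk x) :=
      IsScalarTower.of_algebraMap_smul fun _ _ => rfl
    haveI : Module.Finite k ((Cyc.closureStructureSheaf x).presheaf.stalk x) :=
      hf x ((hfinite hG).mem_toFinset.2 (not_subsingleton_iff_nontrivial.2 (nz_closure x)))
    let φ := LinearMap.toSpanSingleton (X.presheaf.stalk x) _ (gen x x)
    have hk : LinearMap.ker φ = IsLocalRing.maximalIdeal (X.presheaf.stalk x) :=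
      Ideal.ext fun r => (smul_genξ_eq_zero_iff x r).trans (IsLocalRing.residue_eq_zero_iff r)
    let E : IsLocalRing.ResidueField (X.presheaf.stalk x) ≃ₗ[X.presheaf.stalk x]
        (Cyc.closureStructureSheaf x).presheaf.stalk x :=
      (Submodule.quotEquivOfEq _ _ hk.symm).trans (φ.quotKerEquivOfSurjective (exists_smul_gen x))
    exact Module.Finite.equiv (E.restrictScalars k).symm
  letI := CurveCohLib.stalkModuleK k F x
  haveI : IsScalarTower k (X.presheaf.stalk x) (F.presheaf.stalk x) :=
    IsScalarTower.of_algebraMap_smul fun _ _ => rfl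
  haveI := QCoh.finite_stalk_of_isFT hF.1.1 hF.1.2 x
  have hfl : Module.support (X.presheaf.stalk x) (F.presheaf.stalk x) ⊆
      {IsLocalRing.closedPoint (X.presheaf.stalk x)} :=
    support_subset_closedPoint fun q hq hqm m => by
      obtain ⟨r, hr, hrq⟩ := SetLike.not_le_iff_exists.1 fun hle : IsLocalRing.maximalIdeal _ ≤ q => hqm
        (le_antisymm (IsLocalRing.le_maximalIdeal hq.ne_top) hle)
      obtain ⟨n, hn⟩ := exists_pow_smul_eq_zero (length_lt_top_of_cohLe hd hF hx.ge) hr m
      exact ⟨r ^ n, fun h => hrq (hq.mem_of_pow_mem n h), hn⟩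
  rw [(finrank_eq_length_mul (k := k) hfl).2, mul_comm]
  refine congrArg (· * _) ?_
  exact (WeilLib.residueDegree_eq_finrank (X ↘ Spec (CommRingCat.of k)) x).symm

/-- The degree of a zero-cycle as a sum. -/
theorem deg_eq_finsum (α : AlgebraicCycle X ℤ) (hα : ∀ x, δ x ≠ 0 → α x = 0) :
    ChowOps.deg (X ↘ Spec (CommRingCat.of k)) δ α =
      ∑ᶠ x : X, ((X ↘ Spec (CommRingCat.of k)).residueDegree x : ℤ) * α x := by
  classical
  show AlgebraicCycle.map _ δ (fun _ => (0 : ℤ)) α _ = _
  rw [CycLib.map_apply', CycLib.preimage_pt, finsum_mem_univ]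
  refine finsum_congr fun x => ?_
  rw [CycLib.mapCoeff_point]
  split_ifs with h
  · rw [mul_comm]
  · rw [hα x h, zero_mul, mul_zero]

end Groth.Agent.DevK
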