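import Groth.Agent.KFlatLib.Scheme.Exact
import Groth.Agent.QCoh.DevissageSum
import Groth.Agent.QCoh.Tilde
import Groth.Agent.CycLib.StalkSES
import Mathlib.Algebra.Category.ModuleCat.Products
import Mathlib.Algebra.BigOperators.Finprod

/-! Locally finite direct sums of coherent modules. -/

set_option autoImplicit false
set_option linter.style.haveILetI false

universe u

open CategoryTheory CategoryTheory.Limits AlgebraicGeometry TopologicalSpace Opposite

namespace Groth.Agent.DevK

open Groth.Agent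

variable {X : Scheme.{u}}

/-- The stalk is nonzero. -/
abbrev NZ (M : X.Modules) (x : X) : Prop := Nontrivial (M.presheaf.stalk x)

theorem stalk_injective {A B : X.Modules} (f : A ⟶ B) [Mono f] (x : X) :
    Function.Injective ((DerSch.stalkFunctor X x).map f).hom :=
  (ModuleCat.mono_iff_injective _).1 inferInstance

theorem stalk_surjective {A B : X.Modules} (f : A ⟶ B) [Epi f] (x : X) :
    Function.Surjective ((DerSch.stalkFunctor X x).map f).hom :=
  (ModuleCat.epi_iff_surjective _).1 inferInstance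

theorem NZ.of_mono {A B : X.Modules} (f : A ⟶ B) [Mono f] {x : X} (h : NZ A x) : NZ B x := by
  haveI : Nontrivial ((DerSch.stalkFunctor X x).obj A) := h
  exact (stalk_injective f x).nontrivial

theorem NZ.of_epi {A B : X.Modules} (f : A ⟶ B) [Epi f] {x : X} (h : NZ B x) : NZ A x := by
  haveI : Nontrivial ((DerSch.stalkFunctor X x).obj B) := h
  exact (stalk_surjective f x).nontrivial

theorem NZ.of_iso {A B : X.Modules} (e : A ≅ B) {x : X} (h : NZ A x) : NZ B x := h.of_mono e.hom

theorem not_nz_of_isZero {A : X.Modules} (h : IsZero A) (x : X) : ¬ NZ A x :=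
  not_nontrivial_iff_subsingleton.2 (ModuleCat.subsingleton_of_isZero ((DerSch.stalkFunctor X x).map_isZero h))

theorem nz_of_shortExact {S : ShortComplex X.Modules} (hS : S.ShortExact) {x : X} (h : NZ S.X₂ x) :
    NZ S.X₁ x ∨ NZ S.X₃ x := by
  by_contra hc
  push Not at hc
  have h' := (KFlatLib.shortExact_iff_stalk S).1 hS x
  exact not_nontrivial_iff_subsingleton.2 (ModuleCat.subsingleton_of_isZero (h'.exact.isZero_of_both_zeros
    ((ModuleCat.isZero_of_iff_subsingleton.2 hc.1).eq_of_src _ _)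
    ((ModuleCat.isZero_of_iff_subsingleton.2 hc.2).eq_of_tgt _ _))) h

variable {ι : Type u}

/-- Locally, only finitely many members are nonzero. -/
def LocFin (G : ι → X.Modules) : Prop :=
  ∀ x : X, ∃ U : X.Opens, x ∈ U ∧ {i | ∃ y ∈ U, NZ (G i) y}.Finite

theorem LocFin.mono {G H : ι → X.Modules} (h : LocFin G) (hGH : ∀ i x, NZ (H i) x → NZ (G i) x) :
    LocFin H := fun x => by
  obtain ⟨U, hx, hf⟩ := h x
  exact ⟨U, hx, hf.subset fun i ⟨y, hy, hn⟩ => ⟨y, hy, hGH i y hn⟩⟩

theorem LocFin.comp {κ : Type u} {G : ι → X.Modules} (h : LocFin G) {e : κ → ι}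
    (he : Function.Injective e) : LocFin (G ∘ e) := fun x => by
  obtain ⟨U, hx, hf⟩ := h x
  exact ⟨U, hx, hf.preimage (f := e) he.injOn⟩

theorem locFin_of_finite [Finite ι] (G : ι → X.Modules) : LocFin G :=
  fun _ => ⟨⊤, trivial, Set.toFinite _⟩

theorem LocFin.sumElim {κ : Type u} {G : ι → X.Modules} {H : κ → X.Modules} (hG : LocFin G)
    (hH : LocFin H) : LocFin (Sum.elim G H) := fun x => by
  obtain ⟨U, hxU, hU⟩ := hG x
  obtain ⟨V, hxV, hV⟩ := hH x
  refine ⟨U ⊓ V, ⟨hxU, hxV⟩, ((hU.image Sum.inl).union (hV.image Sum.inr)).subset ?_⟩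
  rintro (i | j) ⟨y, ⟨hyU, hyV⟩, hn⟩
  · exact Or.inl ⟨i, ⟨y, hyU, hn⟩, rfl⟩
  · exact Or.inr ⟨j, ⟨y, hyV, hn⟩, rfl⟩

theorem LocFin.finite_at {G : ι → X.Modules} (h : LocFin G) (x : X) : {i | NZ (G i) x}.Finite := by
  obtain ⟨U, hx, hf⟩ := h x
  exact hf.subset fun i hi => ⟨x, hx, hi⟩

theorem not_nz_sigma {G : ι → X.Modules} {x : X} (h : ∀ i, ¬ NZ (G i) x) : ¬ NZ (∐ G) x := by
  refine not_nontrivial_iff_subsingleton.2 (ModuleCat.subsingleton_of_isZero (M := (DerSch.stalkFunctor X x).obj (∐ G)) ?_)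
  refine IsZero.of_iso ?_ (PreservesCoproduct.iso (DerSch.stalkFunctor X x) G)
  rw [IsZero.iff_id_eq_zero]
  refine Sigma.hom_ext _ _ fun i => ?_
  exact (ModuleCat.isZero_of_iff_subsingleton.2 (not_nontrivial_iff_subsingleton.1 (h i))).eq_of_src _ _

theorem exists_nz_of_sigma {G : ι → X.Modules} {x : X} (h : NZ (∐ G) x) : ∃ i, NZ (G i) x :=
  by_contra fun hc => not_nz_sigma (not_exists.1 hc) h

instance mono_sigma_ι (G : ι → X.Modules) (i : ι) : Mono (Sigma.ι G i) := by
  classical
  refine (SplitMono.mono (f := Sigma.ι G i) ⟨Sigma.desc fun j => if h : j = i then eqToHom (by rw [h]) else 0, ?_⟩)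
  rw [Sigma.ι_desc, dif_pos rfl, eqToHom_refl]

theorem nz_sigma_iff {G : ι → X.Modules} {x : X} : NZ (∐ G) x ↔ ∃ i, NZ (G i) x :=
  ⟨exists_nz_of_sigma, fun ⟨i, hi⟩ => hi.of_mono (Sigma.ι G i)⟩

theorem isQCoh_sigma {G : ι → X.Modules} (h : ∀ i, Coh.IsQCoh (G i)) : Coh.IsQCoh (∐ G) :=
  QCoh.isQCoh_colimit (Discrete.functor G) fun i => h i.as

/-- A locally finite sum of coherent modules is coherent. -/
theorem isCoh_sigma {G : ι → X.Modules} (hl : LocFin G) (h : ∀ i, Coh.IsCoh (G i)) : Coh.IsCoh (∐ G) := by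
  classical
  haveI : HasFiniteBiproducts X.Modules := QCoh.hasFiniteBiproducts X
  have hq := isQCoh_sigma fun i => (h i).1
  refine ⟨hq, ?_⟩
  choose W hW hfin using hl
  choose V hV hxV hVW using fun x : X => exists_isAffineOpen_mem_and_subset (x := x) (U := W x) (hW x)
  refine QCoh.isFT_of_finite hq (fun x : X => V x) (top_unique fun x _ => Opens.mem_iSup.2
    ⟨x, hxV x⟩) hV fun x => ?_
  let T := (hfin x).toFinset
  let GT : {i // i ∈ T} → X.Modules := fun i => G i.1
  let f : ∐ GT ⟶ ∐ G := Sigma.map' Subtype.val fun i => 𝟙 (G i.1)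
  let p : ∐ G ⟶ ∐ GT := Sigma.desc fun i => if h : i ∈ T then Sigma.ι GT ⟨i, h⟩ else 0
  haveI hfin' : Module.Finite Γ(X, V x) Γ(∐ GT, V x) := by
    have hB := QCoh.isCoh_biproduct GT fun i => h i.1
    exact QCoh.finite_sections (QCoh.isCoh_of_epi (biproduct.isoCoproduct GT).hom hB
      (isQCoh_sigma fun i => (h i.1).1)) (hV x)
  have hs : ∀ (y : X) (hy : y ∈ V x), ∀ m : Γ(∐ G, V x),
      (∐ G).presheaf.germ (V x) y hy ((p ≫ f).app (V x) m) = (∐ G).presheaf.germ (V x) y hy m := by
    intro y hy m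
    have hpf : (DerSch.stalkFunctor X y).map (p ≫ f) = (DerSch.stalkFunctor X y).map (𝟙 (∐ G)) := by
      refine Cofan.IsColimit.hom_ext (isColimitCofanMkObjOfIsColimit (DerSch.stalkFunctor X y) G
        (Sigma.ι G) (coproductIsCoproduct G)) _ _ fun i => ?_
      simp only [Cofan.inj, Cofan.mk_ι_app, ← Functor.map_comp]
      by_cases hi : i ∈ T
      · congr 1
        simp only [p, f, Sigma.ι_desc_assoc, dif_pos hi, Category.comp_id, Sigma.ι_comp_map']
        exact Category.id_comp _
      · have : ¬ NZ (G i) y := fun hn => hi ((hfin x).mem_toFinset.2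
          ⟨y, hVW x hy, hn⟩)
        exact (ModuleCat.isZero_of_iff_subsingleton.2 (not_nontrivial_iff_subsingleton.1 this)).eq_of_src _ _
    have := congrArg (fun φ => φ.hom ((∐ G).presheaf.germ (V x) y hy m)) hpf
    rw [CategoryTheory.Functor.map_id] at this
    refine Eq.trans ?_ this
    exact (CycLib.stalkAdd_germ (p ≫ f) y hy m).symm
  refine Module.Finite.of_surjective
    ({ toFun := f.app (V x), map_add' := map_add _, map_smul' := Scheme.Modules.Hom.app_smul _ } :
      Γ(∐ GT, V x) →ₗ[Γ(X, V x)] Γ(∐ G, V x)) fun m => ⟨p.app (V x) m, ?_⟩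
  exact TopCat.Presheaf.section_ext (show TopCat.Sheaf AddCommGrpCat.{u} X.toPresheafedSpace.carrier from
    ⟨(∐ G).presheaf, (∐ G).isSheaf⟩) (V x) _ m fun y hy => hs y hy m

theorem length_directSum {R : Type u} [CommRing R] (M : ι → Type u) [∀ i, AddCommGroup (M i)]
    [∀ i, Module R (M i)] (T : Finset ι) (hT : ∀ i, i ∉ T → Subsingleton (M i)) :
    Module.length R (DirectSum ι M) = ∑ i ∈ T, Module.length R (M i) := by
  classical
  let e : DirectSum ι M →ₗ[R] (∀ t : T, M t.1) := LinearMap.pi fun t => DirectSum.component R ι M t.1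
  have he : Function.Bijective e := by
    refine ⟨fun a b hab => DFinsupp.ext fun i => ?_, fun v => ⟨DirectSum.mk M T v, funext fun t => ?_⟩⟩
    · by_cases hi : i ∈ T
      · exact congrFun hab ⟨i, hi⟩
      · exact (hT i hi).elim _ _
    · exact DFinsupp.mk_of_mem (s := T) (x := v) t.2
  rw [(LinearEquiv.ofBijective e he).length_eq, Module.length_pi_of_fintype]
  exact Finset.sum_coe_sort T fun i => Module.length R (M i)

theorem length_stalk_sigma {G : ι → X.Modules} (hl : LocFin G) (x : X) :
    Module.length (X.presheaf.stalk x) ((∐ G).presheaf.stalk x) =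
      ∑ i ∈ (hl.finite_at x).toFinset, Module.length (X.presheaf.stalk x) ((G i).presheaf.stalk x) := by
  classical
  let Z : ι → ModuleCat.{u} (X.presheaf.stalk x) := fun i => (DerSch.stalkFunctor X x).obj (G i)
  refine ((PreservesCoproduct.iso (DerSch.stalkFunctor X x) G ≪≫
    ModuleCat.coprodIsoDirectSum Z).toLinearEquiv.length_eq).trans ?_
  exact length_directSum (fun i => (Z i : Type u)) _ fun i hi =>
    not_nontrivial_iff_subsingleton.1 fun hn => hi ((hl.finite_at x).mem_toFinset.2 hn)

/-- A sum of short exact sequences. -/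
noncomputable def sigmaSeq (S : ι → ShortComplex X.Modules) : ShortComplex X.Modules :=
  ShortComplex.mk (Limits.Sigma.map fun i => (S i).f) (Limits.Sigma.map fun i => (S i).g)
    (Sigma.hom_ext _ _ fun i => by simp)

theorem sigmaSeq_shortExact (S : ι → ShortComplex X.Modules) (h : ∀ i, (S i).ShortExact) :
    (sigmaSeq S).ShortExact := by
  let T : ShortComplex (Discrete ι ⥤ X.Modules) :=
    ShortComplex.mk (Discrete.natTrans fun i => (S i.as).f :
        Discrete.functor (fun i => (S i).X₁) ⟶ Discrete.functor fun i => (S i).X₂)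
      (Discrete.natTrans fun i => (S i.as).g :
        Discrete.functor (fun i => (S i).X₂) ⟶ Discrete.functor fun i => (S i).X₃)
      (NatTrans.ext (funext fun i => (S i.as).zero))
  have hT : T.ShortExact := by
    haveI : ∀ j, Mono (T.f.app j) := fun j => (h j.as).mono_f
    haveI : ∀ j, Epi (T.g.app j) := fun j => (h j.as).epi_g
    refine ShortComplex.ShortExact.mk' ?_ (NatTrans.mono_of_mono_app _) (NatTrans.epi_of_epi_app _)
    rw [ShortComplex.exact_iff_isZero_homology]
    refine Functor.isZero _ fun j => ?_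
    exact IsZero.of_iso ((ShortComplex.exact_iff_isZero_homology _).1 (h j.as).exact)
      (T.mapHomologyIso ((evaluation (Discrete ι) X.Modules).obj j)).symm
  exact hT.map_of_exact colim

section Sum

variable {κ : Type u} (K : ι ⊕ κ → X.Modules)

/-- The inclusion of the left part of a sum indexed by a disjoint union. -/
noncomputable def inlMap : (∐ fun i => K (Sum.inl i)) ⟶ ∐ K :=
  Sigma.desc fun i => Sigma.ι K (Sum.inl i)

/-- The inclusion of the right part of a sum indexed by a disjoint union. -/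
noncomputable def inrMap : (∐ fun j => K (Sum.inr j)) ⟶ ∐ K :=
  Sigma.desc fun j => Sigma.ι K (Sum.inr j)

/-- The projection to the left part of a sum indexed by a disjoint union. -/
noncomputable def fstMap : ∐ K ⟶ ∐ fun i => K (Sum.inl i) :=
  Sigma.desc fun t => match t with
    | .inl i => Sigma.ι (fun i => K (Sum.inl i)) i
    | .inr _ => 0

/-- The projection to the right part of a sum indexed by a disjoint union. -/
noncomputable def sndMap : ∐ K ⟶ ∐ fun j => K (Sum.inr j) :=
  Sigma.desc fun t => match t with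
    | .inl _ => 0
    | .inr j => Sigma.ι (fun j => K (Sum.inr j)) j

theorem inlMap_sndMap : inlMap K ≫ sndMap K = 0 :=
  Sigma.hom_ext _ _ fun i => by simp [inlMap, sndMap]

theorem shortExact_of_sum :
    (ShortComplex.mk (inlMap K) (sndMap K) (inlMap_sndMap K)).ShortExact :=
  ShortComplex.Splitting.shortExact
    { r := fstMap K
      s := inrMap K
      f_r := Sigma.hom_ext _ _ fun i => by simp [inlMap, fstMap]
      s_g := Sigma.hom_ext _ _ fun i => by simp [inrMap, sndMap]
      id := Sigma.hom_ext _ _ fun t => by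
        rcases t with i | j <;> simp [inlMap, inrMap, fstMap, sndMap] }

end Sum

end Groth.Agent.DevK
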