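import Groth.Prelude.Def_ChowK
import Groth.Agent.DevK.Sigma
import Groth.Agent.QCoh.ClosedPush

/-! The structure sheaf of the reduced closure of a point. -/

set_option autoImplicit false
set_option linter.style.haveILetI false
set_option backward.isDefEq.respectTransparency false
set_option backward.isDefEq.respectTransparency.types false

universe u

open CategoryTheory CategoryTheory.Limits AlgebraicGeometry TopologicalSpace Opposite

namespace Groth.Agent.DevK

open Groth.Agent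

variable {X : Scheme.{u}} (ζ : X)

theorem mem_ptIdeal {W : X.affineOpens} (hζ : ζ ∈ W.1) (a : Γ(X, W.1)) :
    a ∈ (IntMult.ptIdeal ζ).ideal W ↔ ζ ∉ X.basicOpen a := by
  rw [IntMult.ptIdeal, Scheme.IdealSheafData.vanishingIdeal_ideal, PrimeSpectrum.mem_vanishingIdeal]
  constructor
  · intro h hb
    refine (QCoh.mem_basicOpen_iff_notMem W.2 hζ a).1 hb (h _ ?_)
    rw [Set.mem_preimage, W.2.fromSpec_primeIdealOf]
    exact subset_closure rfl
  · intro h p hp
    obtain ⟨y, hy, rfl⟩ := QCoh.exists_point W.2 p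
    rw [Set.mem_preimage, W.2.fromSpec_primeIdealOf] at hp
    by_contra hn
    exact h ((specializes_iff_mem_closure.2 hp).mem_open (X.basicOpen a).2
      ((QCoh.mem_basicOpen_iff_notMem W.2 hy a).2 hn))

theorem isCoh_closure [IsLocallyNoetherian X] : Coh.IsCoh (Cyc.closureStructureSheaf ζ) :=
  haveI := LocallyOfFiniteType.isLocallyNoetherian (IntMult.ptIdeal ζ).subschemeι
  QCoh.isCoh_pushforward_finite _ QCoh.isCoh_structureModule'

/-- The unit section. -/
noncomputable def one (U : X.Opens) : Γ(Cyc.closureStructureSheaf ζ, U) :=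
  (1 : Γ((IntMult.ptIdeal ζ).subscheme, (IntMult.ptIdeal ζ).subschemeι ⁻¹ᵁ U))

theorem one_res {U W : X.Opens} (h : W ≤ U) :
    (Cyc.closureStructureSheaf ζ).presheaf.map (homOfLE h).op (one ζ U) = one ζ W :=
  map_one ((IntMult.ptIdeal ζ).subscheme.presheaf.map
    ((Opens.map (IntMult.ptIdeal ζ).subschemeι.base).map (homOfLE h)).op).hom

theorem smul_one_eq {U : X.Opens} (a : Γ(X, U)) :
    a • one ζ U = ((IntMult.ptIdeal ζ).subschemeι.app U a :
      Γ((IntMult.ptIdeal ζ).subscheme, (IntMult.ptIdeal ζ).subschemeι ⁻¹ᵁ U)) :=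
  (QCoh.pushforward_smul _ U a (one ζ U)).trans
    (mul_one (M := Γ((IntMult.ptIdeal ζ).subscheme, (IntMult.ptIdeal ζ).subschemeι ⁻¹ᵁ U)) _)

theorem smul_one_eq_zero_iff {W : X.affineOpens} (hζ : ζ ∈ W.1) (a : Γ(X, W.1)) :
    a • one ζ W.1 = 0 ↔ ζ ∉ X.basicOpen a := by
  have hk := Scheme.IdealSheafData.ker_subschemeι (IntMult.ptIdeal ζ)
  have hm := mem_ptIdeal ζ hζ a
  rw [← hk, Scheme.Hom.ker_apply, RingHom.mem_ker] at hm
  rw [smul_one_eq]
  exact hm

/-- The generator of a stalk. -/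
noncomputable def gen (x : X) : (Cyc.closureStructureSheaf ζ).presheaf.stalk x :=
  (Cyc.closureStructureSheaf ζ).presheaf.germ ⊤ x trivial (one ζ ⊤)

theorem germ_one {x : X} (W : X.Opens) (hx : x ∈ W) :
    (Cyc.closureStructureSheaf ζ).presheaf.germ W x hx (one ζ W) = gen ζ x := by
  rw [← one_res ζ (le_top : W ≤ ⊤), TopCat.Presheaf.germ_res_apply]
  rfl

theorem exists_smul_gen {x : X} (t : (Cyc.closureStructureSheaf ζ).presheaf.stalk x) :
    ∃ r : X.presheaf.stalk x, r • gen ζ x = t := by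
  obtain ⟨V, hxV, n, rfl⟩ := (Cyc.closureStructureSheaf ζ).presheaf.exists_germ_eq t
  obtain ⟨W, hW, hxW, hle⟩ := exists_isAffineOpen_mem_and_subset (x := x) (U := V) hxV
  obtain ⟨a, ha⟩ := (IntMult.ptIdeal ζ).subschemeι.app_surjective W hW
    ((Cyc.closureStructureSheaf ζ).presheaf.map (homOfLE (show W ≤ V from hle)).op n)
  refine ⟨X.presheaf.germ W x hxW a, ?_⟩
  rw [← germ_one ζ W hxW, ← QCoh.germ_smul', smul_one_eq, ha, TopCat.Presheaf.germ_res_apply]

theorem stalkSpecializes_gen {x y : X} (h : y ⤳ x) :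
    (Cyc.closureStructureSheaf ζ).presheaf.stalkSpecializes h (gen ζ x) = gen ζ y :=
  TopCat.Presheaf.germ_stalkSpecializes_apply (F := (Cyc.closureStructureSheaf ζ).presheaf) _ h _

theorem gen_ne_zero [IsLocallyNoetherian X] : gen ζ ζ ≠ 0 := by
  intro h
  obtain ⟨W, hW, hζ, -⟩ := exists_isAffineOpen_mem_and_subset (x := ζ) (U := ⊤) trivial
  rw [← germ_one ζ W hζ] at h
  obtain ⟨f, hf, h0⟩ := (QCoh.germ_eq_zero_iff (isCoh_closure ζ).1 hW hζ _).1 h
  exact (smul_one_eq_zero_iff ζ (W := ⟨W, hW⟩) hζ f).1 h0 hf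

/-- The annihilator of the generator is the prime of the closure. -/
theorem smul_gen_eq_zero_iff [IsLocallyNoetherian X] {x : X} (h : ζ ⤳ x) (r : X.presheaf.stalk x) :
    r • gen ζ x = 0 ↔ Cyc.specMap x ζ h r = 0 := by
  obtain ⟨V, hxV, a, rfl⟩ := X.presheaf.exists_germ_eq r
  obtain ⟨W, hW, hxW, hle⟩ := exists_isAffineOpen_mem_and_subset (x := x) (U := V) hxV
  have hWV : W ≤ V := hle
  have hζ : ζ ∈ W := h.mem_open W.2 hxW
  rw [← X.presheaf.germ_res_apply (homOfLE hWV) x hxW a]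
  generalize X.presheaf.map (homOfLE hWV).op a = b
  have hspec : Cyc.specMap x ζ h (X.presheaf.germ W x hxW b) = 0 ↔ ζ ∉ X.basicOpen b := by
    rw [X.mem_basicOpen b ζ hζ, ← mem_nonunits_iff, ← IsLocalRing.mem_maximalIdeal,
      ← IsLocalRing.residue_eq_zero_iff]
    show X.residue ζ ((X.presheaf.stalkSpecializes h) (X.presheaf.germ W x hxW b)) = 0 ↔ _
    rw [TopCat.Presheaf.germ_stalkSpecializes_apply]
    rfl
  rw [hspec, ← germ_one ζ W hxW, ← QCoh.germ_smul']
  refine ⟨fun h0 hb => gen_ne_zero ζ ?_, fun hb => ?_⟩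
  · have h1 : (Cyc.closureStructureSheaf ζ).presheaf.germ W ζ hζ (b • one ζ W) = 0 := by
      rw [← TopCat.Presheaf.germ_stalkSpecializes_apply (F := (Cyc.closureStructureSheaf ζ).presheaf) hxW h]
      exact (congrArg _ h0).trans (map_zero _)
    rw [QCoh.germ_smul', germ_one, (((X.mem_basicOpen b ζ hζ).1 hb)).smul_eq_zero] at h1
    exact h1
  · rw [(smul_one_eq_zero_iff ζ (W := ⟨W, hW⟩) hζ b).2 hb, map_zero]

theorem not_nz_closure [IsLocallyNoetherian X] {x : X} (h : ¬ ζ ⤳ x) :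
    ¬ NZ (Cyc.closureStructureSheaf ζ) x := fun hn => by
  haveI := LocallyOfFiniteType.isLocallyNoetherian (IntMult.ptIdeal ζ).subschemeι
  obtain ⟨z, hz, -⟩ := CycLib.cohLe_push_finite (IntMult.ptIdeal ζ).subschemeι QCoh.isCoh_structureModule' hn
  refine h (specializes_iff_mem_closure.2 ?_)
  have hr : x ∈ Set.range (IntMult.ptIdeal ζ).subschemeι := ⟨z, hz⟩
  rw [IntMult.ptIdeal, Scheme.IdealSheafData.range_subschemeι,
    Scheme.IdealSheafData.coe_support_vanishingIdeal] at hr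
  exact hr

theorem nz_closure [IsLocallyNoetherian X] : NZ (Cyc.closureStructureSheaf ζ) ζ :=
  ⟨gen ζ ζ, 0, gen_ne_zero ζ⟩

theorem length_closure [IsLocallyNoetherian X] :
    Module.length (X.presheaf.stalk ζ) ((Cyc.closureStructureSheaf ζ).presheaf.stalk ζ) = 1 := by
  let L := LinearMap.toSpanSingleton (X.presheaf.stalk ζ) _ (gen ζ ζ)
  have hsurj : Function.Surjective L := exists_smul_gen ζ
  have hker : LinearMap.ker L = IsLocalRing.maximalIdeal (X.presheaf.stalk ζ) := by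
    ext r
    rw [LinearMap.mem_ker, ← IsLocalRing.residue_eq_zero_iff]
    refine (smul_gen_eq_zero_iff ζ specializes_rfl r).trans ?_
    show X.residue ζ ((X.presheaf.stalkSpecializes (specializes_refl ζ)) r) = 0 ↔ _
    rw [TopCat.Presheaf.stalkSpecializes_refl]
    rfl
  exact Module.length_eq_one_iff.2 (isSimpleModule_iff_quot_maximal.2
    ⟨LinearMap.ker L, hker ▸ IsLocalRing.maximalIdeal.isMaximal _,
      ⟨(L.quotKerEquivOfSurjective hsurj).symm⟩⟩)

end Groth.Agent.DevK
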