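import Groth.Agent.DevK.Stroke

/-! Sheaves attached to cycles, and `K₀(Coh_{≤k}/Coh_{≤k-1}) ≅ Z_k`. -/

set_option autoImplicit false
set_option linter.style.haveILetI false
set_option backward.isDefEq.respectTransparency false
set_option backward.isDefEq.respectTransparency.types false

universe u

open CategoryTheory CategoryTheory.Limits AlgebraicGeometry TopologicalSpace Opposite

namespace Groth.Agent.DevK

open Groth.Agent

variable {X : Scheme.{u}} {δ : X → ℤ}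

/-- A coefficient function of a `k`-cycle. -/
def IsCoef (δ : X → ℤ) (k : ℤ) (a : X → ℤ) : Prop :=
  (∀ x, a x ≠ 0 → δ x = k) ∧ ∀ x : X, ∃ U : X.Opens, x ∈ U ∧ {ζ : X | ζ ∈ U ∧ a ζ ≠ 0}.Finite

theorem isCoef_of_mem_Zk {k : ℤ} {α : AlgebraicCycle X ℤ} (hα : α ∈ Cyc.Zk X δ k) : IsCoef δ k ⇑α := by
  refine ⟨fun x hx => by_contra fun h => hx (hα x h), fun x => ?_⟩
  obtain ⟨U, hU, hf⟩ := α.supportLocallyFiniteWithinDomain' x (Set.mem_univ x)
  obtain ⟨W, hWU, hW, hxW⟩ := mem_nhds_iff.1 hU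
  exact ⟨⟨W, hW⟩, hxW, hf.subset fun ζ hζ => ⟨hWU hζ.1, hζ.2⟩⟩

theorem IsCoef.neg {k : ℤ} {a : X → ℤ} (h : IsCoef δ k a) : IsCoef δ k (-a) :=
  ⟨fun x hx => h.1 x fun h0 => hx (by simp [h0]), fun x =>
    let ⟨U, hx, hf⟩ := h.2 x
    ⟨U, hx, hf.subset fun ζ hζ => ⟨hζ.1, fun h0 => hζ.2 (by simp [h0])⟩⟩⟩

/-- The cycle with a given coefficient function. -/
noncomputable def IsCoef.cycle {k : ℤ} {a : X → ℤ} (h : IsCoef δ k a) : AlgebraicCycle X ℤ where
  toFun := a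
  supportWithinDomain' := fun _ _ => trivial
  supportLocallyFiniteWithinDomain' := fun z _ => by
    obtain ⟨U, hz, hf⟩ := h.2 z
    exact ⟨(U : Set X), U.2.mem_nhds hz, hf.subset fun ζ hζ => ⟨hζ.1, hζ.2⟩⟩

theorem IsCoef.cycle_mem {k : ℤ} {a : X → ℤ} (h : IsCoef δ k a) : h.cycle ∈ Cyc.Zk X δ k :=
  fun x hx => by_contra fun h0 => hx (h.1 x h0)

variable [IsLocallyNoetherian X] (hd : Cyc.IsDimFun X δ) {k : ℤ}

include hd in
theorem isCoef_sheafFun {F : X.Modules} (hF : Cyc.CohLe δ k F) : IsCoef δ k (Cyc.sheafFun δ k F) := by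
  have hne : ∀ x, Cyc.sheafFun δ k F x ≠ 0 → δ x = k ∧ NZ F x := fun x hx => by
    unfold Cyc.sheafFun at hx
    split_ifs at hx with hk
    · refine ⟨hk, not_subsingleton_iff_nontrivial.1 fun hs => hx ?_⟩
      haveI := hs
      rw [Module.length_eq_zero]
      rfl
    · exact absurd rfl hx
  refine ⟨fun x hx => (hne x hx).1, fun z => ?_⟩
  obtain ⟨U, hz, hf⟩ := locFinPts_gens hd hF z
  exact ⟨U, hz, (hf.image Subtype.val).subset fun ζ hζ => ⟨⟨ζ, hne ζ hζ.2⟩, hζ.1, rfl⟩⟩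

variable {a : X → ℤ}

omit [IsLocallyNoetherian X] in
theorem IsCoef.pos_point (ha : IsCoef δ k a) (i : Σ ζ : {ζ : X // 0 < a ζ}, Fin (a ζ.1).toNat) :
    δ i.1.1 = k := ha.1 _ i.1.2.ne'

theorem locFin_pos (ha : IsCoef δ k a) :
    LocFin fun i : (Σ ζ : {ζ : X // 0 < a ζ}, Fin (a ζ.1).toNat) => Cyc.closureStructureSheaf i.1.1 := by
  intro x
  obtain ⟨U, hx, hf⟩ := ha.2 x
  refine ⟨U, hx, ?_⟩
  haveI : Finite {ζ : {ζ : X // 0 < a ζ} // ζ.1 ∈ U} :=
    haveI := hf.to_subtype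
    Finite.of_injective (fun ζ => (⟨ζ.1.1, ζ.2, ζ.1.2.ne'⟩ : {ζ : X | ζ ∈ U ∧ a ζ ≠ 0}))
      fun p q h => Subtype.ext (Subtype.ext (congrArg (fun z : {ζ : X | ζ ∈ U ∧ a ζ ≠ 0} => z.1) h))
  refine (Set.finite_range fun p : (Σ ζ : {ζ : {ζ : X // 0 < a ζ} // ζ.1 ∈ U}, Fin (a ζ.1.1).toNat) =>
    (⟨p.1.1, p.2⟩ : Σ ζ : {ζ : X // 0 < a ζ}, Fin (a ζ.1).toNat)).subset ?_
  rintro ⟨ζ, j⟩ ⟨y, hy, hn⟩
  have hsp : ζ.1 ⤳ y := by_contra fun hc => not_nz_closure ζ.1 hc hn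
  exact ⟨⟨⟨ζ, hsp.mem_open U.2 hy⟩, j⟩, rfl⟩

include hd in
theorem cohLe_pos (ha : IsCoef δ k a) : Cyc.CohLe δ k (Cyc.cycleSheafPos a) := by
  refine ⟨isCoh_sigma (locFin_pos ha) fun i => isCoh_closure _, fun x hx => ?_⟩
  obtain ⟨i, hi⟩ := exists_nz_of_sigma hx
  exact (CycLib.delta_le hd (by_contra fun hc => not_nz_closure _ hc hi)).trans (ha.pos_point i).le

include hd in
theorem length_pos (ha : IsCoef δ k a) {x : X} (hx : δ x = k) :
    Module.length (X.presheaf.stalk x) ((Cyc.cycleSheafPos a).presheaf.stalk x) = (a x).toNat := by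
  classical
  refine (length_stalk_sigma (locFin_pos ha) x).trans ?_
  have hmem : ∀ i : (Σ ζ : {ζ : X // 0 < a ζ}, Fin (a ζ.1).toNat),
      i ∈ ((locFin_pos ha).finite_at x).toFinset ↔ i.1.1 = x := fun i => by
    rw [Set.Finite.mem_toFinset]
    refine ⟨fun h => CycLib.eq_of_delta_le hd (by_contra fun hc => not_nz_closure _ hc h)
      ((ha.pos_point i).le.trans hx.ge), fun h => h ▸ nz_closure i.1.1⟩
  rw [Finset.sum_congr rfl fun i hi => (show _ = (1 : ℕ∞) by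
    have := (hmem i).1 hi
    subst this
    exact length_closure _)]
  rw [Finset.sum_const, nsmul_one, Nat.cast_inj]
  by_cases hpos : 0 < a x
  · rw [show ((locFin_pos ha).finite_at x).toFinset =
      (Finset.univ : Finset (Fin (a x).toNat)).image (Sigma.mk (⟨x, hpos⟩ : {ζ : X // 0 < a ζ})) from
      Finset.ext fun i => by
        rw [hmem, Finset.mem_image]
        refine ⟨fun h => ?_, fun ⟨j, _, hj⟩ => hj ▸ rfl⟩
        obtain ⟨⟨ζ, hζ⟩, j⟩ := i
        subst h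
        exact ⟨j, Finset.mem_univ _, rfl⟩,
      Finset.card_image_of_injective _ sigma_mk_injective, Finset.card_univ, Fintype.card_fin]
  · rw [Int.toNat_eq_zero.2 (not_lt.1 hpos), Finset.card_eq_zero, Finset.eq_empty_iff_forall_notMem]
    intro i hi
    exact hpos ((hmem i).1 hi ▸ i.1.2)

include hd in
theorem sheafFun_pos (ha : IsCoef δ k a) :
    Cyc.sheafFun δ k (Cyc.cycleSheafPos a) = fun x => if δ x = k then ((a x).toNat : ℤ) else 0 := by
  funext x
  unfold Cyc.sheafFun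
  split_ifs with hx
  · rw [length_pos hd ha hx]; rfl
  · rfl

include hd in
theorem sheafFun_pos_sub_neg (ha : IsCoef δ k a) :
    Cyc.sheafFun δ k (Cyc.cycleSheafPos a) - Cyc.sheafFun δ k (Cyc.cycleSheafNeg a) = a := by
  unfold Cyc.cycleSheafNeg
  rw [sheafFun_pos hd ha, sheafFun_pos hd ha.neg]
  funext x
  simp only [Pi.sub_apply, Pi.neg_apply]
  split_ifs with hx
  · omega
  · rw [sub_zero]
    by_contra h0
    exact hx (ha.1 x (Ne.symm h0))

include hd in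
theorem ss_pos (ha : IsCoef δ k a) : SS δ k (Cyc.cycleSheafPos a) := by
  intro x hx r hr t
  let S := DerSch.stalkFunctor X x
  let G := fun i : (Σ ζ : {ζ : X // 0 < a ζ}, Fin (a ζ.1).toNat) => Cyc.closureStructureSheaf i.1.1
  have e : (ModuleCat.ofHom (r • LinearMap.id) : S.obj (∐ G) ⟶ S.obj (∐ G)) = 0 := by
    refine Cofan.IsColimit.hom_ext (isColimitCofanMkObjOfIsColimit S G (Sigma.ι G) (coproductIsCoproduct G))
      _ _ fun i => ModuleCat.hom_ext (LinearMap.ext fun s => ?_)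
    refine ((S.map (Sigma.ι G i)).hom.map_smul r s).symm.trans ((congrArg _ ?_).trans (map_zero _))
    by_cases hsp : i.1.1 ⤳ x
    · have := CycLib.eq_of_delta_le hd hsp ((ha.pos_point i).le.trans hx.ge)
      subst this
      obtain ⟨c, rfl⟩ := exists_smul_gen i.1.1 (x := i.1.1) s
      have h0 : r • gen i.1.1 i.1.1 = 0 := by
        rw [smul_gen_eq_zero_iff i.1.1 specializes_rfl]
        show X.residue i.1.1 ((X.presheaf.stalkSpecializes (specializes_refl i.1.1)) r) = 0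
        rw [TopCat.Presheaf.stalkSpecializes_refl]
        exact (IsLocalRing.residue_eq_zero_iff r).2 hr
      rw [smul_comm, h0, smul_zero]
    · haveI : Subsingleton (S.obj (G i)) := not_nontrivial_iff_subsingleton.1 (not_nz_closure _ hsp)
      exact Subsingleton.elim _ _
  exact congrArg (fun φ => φ.hom t) e

include hd in
/-- The class of a module modulo smaller dimension is the class of the sheaf of its cycle. -/
theorem toQ_eq_pos {F : X.Modules} (hF : Cyc.CohLe δ k F) :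
    Cyc.toK0CohQuot δ k (k - 1) F = Cyc.toK0CohQuot δ k (k - 1) (Cyc.cycleSheafPos (Cyc.sheafFun δ k F)) := by
  obtain ⟨A, hA⟩ := exists_fil_cohSS hd hF
  have hP := cls_cohLe δ k
  have h1 : Cyc.toK0CohQuot δ k (k - 1) A.tot = Cyc.toK0CohQuot δ k (k - 1) F :=
    toQ_congr (A.clSub_tot hP hF)
  have hT : cohSS δ k A.tot := (cls_cohSS δ k).sigma _ A.locFin_gr hA
  rw [← h1]
  have hs : Cyc.sheafFun δ k A.tot = Cyc.sheafFun δ k F := by
    obtain ⟨f, hf⟩ := KZ.exists_liftSub (Cyc.CohLe δ k) (fun G => Cyc.sheafFun δ k G) fun S hS a b c =>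
      CycLib.sheafFun_shortExact hd hS a.1 b.1 c.1 b.2
    have := congrArg f (A.clSub_tot hP hF)
    rwa [hf _ hT.1, hf _ hF] at this
  have ha := isCoef_sheafFun hd hF
  refine toQ_eq_of_equiv hd (fun y h1 h2 => by omega) hT.1 (cohLe_pos hd ha) fun x hx => ?_
  refine nonempty_equiv_of_length (hT.2 x hx) (ss_pos hd ha x hx) ?_ (length_lt_top_of_cohLe hd hT.1 hx.ge)
  rw [length_pos hd ha hx, ← hs]
  unfold Cyc.sheafFun
  rw [if_pos hx, Int.toNat_natCast]
  exact (ENat.natCast_toNat (length_lt_top_of_cohLe hd hT.1 hx.ge).ne).symm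

include hd in
/-- The map to coefficient functions is defined on the quotient and injective. -/
theorem exists_psi (k : ℤ) : ∃ ψ : Cyc.K0CohQuot δ k (k - 1) →+ (X → ℤ),
    (∀ F : X.Modules, Cyc.CohLe δ k F → ψ (Cyc.toK0CohQuot δ k (k - 1) F) = Cyc.sheafFun δ k F) ∧
      Function.Injective ψ := by
  obtain ⟨f, hf⟩ := KZ.exists_liftSub (Cyc.CohLe δ k) (fun G => Cyc.sheafFun δ k G) fun S hS a b c =>
    CycLib.sheafFun_shortExact hd hS a.1 b.1 c.1 b.2
  let ψ : Cyc.K0CohQuot δ k (k - 1) →+ (X → ℤ) := QuotientAddGroup.lift _ f (by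
    rw [AddSubgroup.closure_le]
    rintro c ⟨F, hF, rfl⟩
    have hFk : Cyc.CohLe δ k F := ⟨hF.1, fun x hx => (hF.2 x hx).trans (by omega)⟩
    rw [SetLike.mem_coe, AddMonoidHom.mem_ker, hf F hFk]
    funext x
    unfold Cyc.sheafFun
    split_ifs with hx
    · haveI : Subsingleton (F.presheaf.stalk x) := not_nontrivial_iff_subsingleton.1 fun h => by
        have := hF.2 x h; omega
      rw [Module.length_eq_zero]
      rfl
    · rfl)
  have hψ : ∀ F : X.Modules, Cyc.CohLe δ k F → ψ (Cyc.toK0CohQuot δ k (k - 1) F) = Cyc.sheafFun δ k F :=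
    fun F hF => hf F hF
  refine ⟨ψ, hψ, (injective_iff_map_eq_zero ψ).2 fun z hz => ?_⟩
  have hgen : ∀ w : Cyc.K0CohQuot δ k (k - 1), ∃ A B, Cyc.CohLe δ k A ∧ Cyc.CohLe δ k B ∧
      w = Cyc.toK0CohQuot δ k (k - 1) A - Cyc.toK0CohQuot δ k (k - 1) B := by
    intro w
    obtain ⟨c, rfl⟩ := QuotientAddGroup.mk_surjective w
    obtain ⟨d, rfl⟩ := QuotientAddGroup.mk_surjective c
    have hP := cls_cohLe (X := X) δ k
    have h0 := hP.prop_empty
    have hq : ∀ G : X.Modules, IsZero G → Cyc.toK0CohQuot δ k (k - 1) G = 0 := fun G hG => by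
      rw [Cyc.toK0CohQuot, KZ.clSub_isZero _ hG]; rfl
    induction d using FreeAbelianGroup.induction_on with
    | zero => exact ⟨_, _, h0, h0, (sub_self _).symm⟩
    | of F =>
      refine ⟨F.1, _, F.2, h0, ?_⟩
      rw [hq _ isZero_empty, sub_zero, Cyc.toK0CohQuot, KZ.clSub_of_prop _ F.2]
    | neg F _ =>
      refine ⟨_, F.1, h0, F.2, ?_⟩
      rw [hq _ isZero_empty, zero_sub, Cyc.toK0CohQuot, KZ.clSub_of_prop _ F.2]
      rfl
    | add p q hp hq' =>
      obtain ⟨A, B, hA, hB, e⟩ := hp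
      obtain ⟨A', B', hA', hB', e'⟩ := hq'
      haveI : HasFiniteBiproducts X.Modules := QCoh.hasFiniteBiproducts X
      have hsum : ∀ U V : X.Modules, Cyc.CohLe δ k U → Cyc.CohLe δ k V → Cyc.CohLe δ k (U ⊞ V) ∧
          Cyc.toK0CohQuot δ k (k - 1) (U ⊞ V) =
            Cyc.toK0CohQuot δ k (k - 1) U + Cyc.toK0CohQuot δ k (k - 1) V := fun U V hU hV => by
        have hs := (ShortComplex.Splitting.ofHasBinaryBiproduct U V).shortExact
        have hUV : Cyc.CohLe δ k (U ⊞ V) :=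
          ⟨KZ.isCoh_X₂ hs hU.1 hV.1, fun x hx => (nz_of_shortExact hs hx).elim (hU.2 x) (hV.2 x)⟩
        exact ⟨hUV, toQ_ses hs hU hUV hV⟩
      obtain ⟨h1, e1⟩ := hsum A A' hA hA'
      obtain ⟨h2, e2⟩ := hsum B B' hB hB'
      refine ⟨A ⊞ A', B ⊞ B', h1, h2, ?_⟩
      rw [e1, e2, add_sub_add_comm, ← e, ← e']
      rfl
  obtain ⟨A, B, hA, hB, rfl⟩ := hgen z
  rw [map_sub, hψ A hA, hψ B hB, sub_eq_zero] at hz
  rw [toQ_eq_pos hd hA, toQ_eq_pos hd hB, hz, sub_self]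

end Groth.Agent.DevK
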