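import Groth.Agent.DevK.Subs

/-! Dévissage for `K₀` with locally finite filtrations (an Eilenberg swindle inside locally finite sums). -/

set_option autoImplicit false
set_option linter.style.haveILetI false

universe u

open CategoryTheory CategoryTheory.Limits AlgebraicGeometry TopologicalSpace Opposite

namespace Groth.Agent.DevK

open Groth.Agent SubLat

variable {X : Scheme.{u}}

/-- A class of coherent modules closed under coherent submodules, quotients and locally finite sums. -/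
structure Cls (P : ObjectProperty X.Modules) : Prop where
  coh : ∀ {A : X.Modules}, P A → Coh.IsCoh A
  sub : ∀ {A B : X.Modules} (f : A ⟶ B), Mono f → Coh.IsCoh A → P B → P A
  quot : ∀ {A B : X.Modules} (f : A ⟶ B), Epi f → Coh.IsCoh B → P A → P B
  sigma : ∀ {ι : Type u} (G : ι → X.Modules), LocFin G → (∀ i, P (G i)) → P (∐ G)

variable {P Q : ObjectProperty X.Modules}

theorem Cls.iso (hP : Cls P) {A B : X.Modules} (e : A ≅ B) (h : P A) : P B :=
  hP.quot e.hom inferInstance ((KZ.isClosedUnderIsomorphisms_isCoh (X := X)).of_iso e (hP.coh h)) h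

/-- The zero module of the empty sum. -/
theorem Cls.prop_empty (hP : Cls P) : P (∐ fun i : PEmpty.{u + 1} => i.elim) :=
  hP.sigma _ (locFin_of_finite _) fun i => i.elim

theorem isZero_empty : IsZero (∐ fun i : PEmpty.{u + 1} => (i.elim : X.Modules)) :=
  (IsZero.iff_id_eq_zero _).2 (Sigma.hom_ext _ _ fun i => i.elim)

theorem Cls.clSub_iso (hP : Cls P) {A B : X.Modules} (e : A ≅ B) (h : P A) :
    KZero.clSub P A = KZero.clSub P B :=
  KZ.clSub_iso P e h (hP.iso e h) isZero_empty hP.prop_empty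

theorem Cls.clSub_sigma_congr (hP : Cls P) {ι κ : Type u} {G : ι → X.Modules} {H : κ → X.Modules}
    (e : ι ≃ κ) (w : ∀ i, H (e i) ≅ G i) (hl : LocFin G) (h : ∀ i, P (G i)) :
    KZero.clSub P (∐ G) = KZero.clSub P (∐ H) :=
  hP.clSub_iso (Sigma.whiskerEquiv e w) (hP.sigma G hl h)

theorem Cls.clSub_sum (hP : Cls P) {ι κ : Type u} (K : ι ⊕ κ → X.Modules) (hl : LocFin K)
    (h : ∀ t, P (K t)) :
    KZero.clSub P (∐ K) = KZero.clSub P (∐ fun i => K (Sum.inl i)) + KZero.clSub P (∐ fun j => K (Sum.inr j)) :=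
  KZ.clSub_ses P (shortExact_of_sum K) (hP.sigma _ (hl.comp Sum.inl_injective) fun i => h _)
    (hP.sigma K hl h) (hP.sigma _ (hl.comp Sum.inr_injective) fun j => h _)

theorem Cls.clSub_unique (hP : Cls P) {ι : Type u} [Unique ι] (G : ι → X.Modules) (h : P (G default)) :
    KZero.clSub P (∐ G) = KZero.clSub P (G default) := by
  let e : ∐ G ≅ G default :=
    { hom := Sigma.desc fun i => eqToHom (by rw [Unique.eq_default i])
      inv := Sigma.ι G default
      hom_inv_id := Sigma.hom_ext _ _ fun i => by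
        obtain rfl := Unique.eq_default i
        rw [Sigma.ι_desc_assoc, eqToHom_refl, Category.id_comp, Category.comp_id]
      inv_hom_id := by rw [Sigma.ι_desc, eqToHom_refl] }
  exact (hP.clSub_iso e.symm h).symm

/-- The successor on lifted natural numbers. -/
def up1 (n : ULift.{u} ℕ) : ULift.{u} ℕ := ⟨n.down + 1⟩

/-- Splitting off the zeroth layer. -/
def natSplit (ι : Type u) : ι ⊕ ι × ULift.{u} ℕ ≃ ι × ULift.{u} ℕ where
  toFun t := match t with
    | .inl i => (i, ⟨0⟩)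
    | .inr (i, n) => (i, up1 n)
  invFun t := match t with
    | (i, ⟨0⟩) => .inl i
    | (i, ⟨n + 1⟩) => .inr (i, ⟨n⟩)
  left_inv := by rintro (i | ⟨i, ⟨n⟩⟩) <;> rfl
  right_inv := by rintro ⟨i, ⟨_ | n⟩⟩ <;> rfl

/-- The swindle: a family of locally finite filtrations. -/
theorem Cls.swindle (hP : Cls P) {ι : Type u} (S : ι × ULift.{u} ℕ → ShortComplex X.Modules)
    (hS : ∀ t, (S t).ShortExact) (hl : LocFin fun t => (S t).X₂) (h₁ : ∀ t, Coh.IsCoh (S t).X₁)
    (h₂ : ∀ t, P (S t).X₂) (h₃ : ∀ t, Coh.IsCoh (S t).X₃)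
    (e : ∀ i n, (S (i, n)).X₁ ≅ (S (i, up1 n)).X₂) :
    KZero.clSub P (∐ fun t => (S t).X₃) = KZero.clSub P (∐ fun i => (S (i, ⟨0⟩)).X₂) := by
  have hl1 : LocFin fun t => (S t).X₁ := hl.mono fun t x h => by
    haveI := (hS t).mono_f
    exact h.of_mono (S t).f
  have hl3 : LocFin fun t => (S t).X₃ := hl.mono fun t x h => by
    haveI := (hS t).epi_g
    exact h.of_epi (S t).g
  have p1 : ∀ t, P (S t).X₁ := fun t => hP.sub _ (hS t).mono_f (h₁ t) (h₂ t)
  have p3 : ∀ t, P (S t).X₃ := fun t => hP.quot _ (hS t).epi_g (h₃ t) (h₂ t)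
  have E1 : KZero.clSub P (∐ fun t => (S t).X₂) =
      KZero.clSub P (∐ fun t => (S t).X₁) + KZero.clSub P (∐ fun t => (S t).X₃) :=
    KZ.clSub_ses P (sigmaSeq_shortExact S hS) (hP.sigma _ hl1 p1) (hP.sigma _ hl h₂) (hP.sigma _ hl3 p3)
  let K : ι ⊕ ι × ULift.{u} ℕ → X.Modules := fun s => (S (natSplit ι s)).X₂
  have E2 : KZero.clSub P (∐ K) = KZero.clSub P (∐ fun t => (S t).X₂) :=
    hP.clSub_sigma_congr (natSplit ι) (fun _ => Iso.refl _) (hl.comp (natSplit ι).injective) fun _ => h₂ _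
  have E3 := hP.clSub_sum K (hl.comp (natSplit ι).injective) fun _ => h₂ _
  have E4 : KZero.clSub P (∐ fun t => (S t).X₁) = KZero.clSub P (∐ fun t => K (Sum.inr t)) :=
    hP.clSub_sigma_congr (Equiv.refl _) (fun t => (e t.1 t.2).symm) hl1 p1
  rw [E2, E1, ← E4] at E3
  rw [add_comm] at E3
  exact add_right_cancel E3

/-- A locally finite filtration by coherent submodules. -/
structure Fil (M : X.Modules) where
  /-- the terms -/
  F : ℕ → Subobject M
  anti : ∀ n, F (n + 1) ≤ F n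
  top : F 0 = ⊤
  coh : ∀ n, CSub (F n)
  fin : ∀ x : X, ∃ U : X.Opens, x ∈ U ∧ ∃ N, ∀ n ≥ N, ∀ y ∈ U, ¬ NZ (F n : X.Modules) y

namespace Fil

variable {M : X.Modules} (A : Fil M)

/-- The factors. -/
noncomputable def gr (n : ULift.{u} ℕ) : X.Modules := qt (A.F n.down) (A.F (n.down + 1))

/-- The sum of all factors. -/
noncomputable def tot : X.Modules := ∐ A.gr

/-- The factors lie in `Q`. -/
def In (Q : ObjectProperty X.Modules) : Prop := ∀ n, Q (A.gr n)

theorem locFin_F : LocFin fun n : ULift.{u} ℕ => (A.F n.down : X.Modules) := fun x => by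
  obtain ⟨U, hx, N, hN⟩ := A.fin x
  refine ⟨U, hx, ((Finset.range N).finite_toSet.image ULift.up).subset ?_⟩
  rintro ⟨n⟩ ⟨y, hy, hn⟩
  exact ⟨n, Finset.mem_range.2 (by_contra fun hc => hN n (not_lt.1 hc) y hy hn), rfl⟩

theorem locFin_gr : LocFin A.gr := A.locFin_F.mono fun _ _ h => h.of_epi (qtπ _ _)

variable [IsLocallyNoetherian X]

theorem isCoh_gr (hM : Coh.IsCoh M) (n : ULift.{u} ℕ) : Coh.IsCoh (A.gr n) :=
  isCoh_qt hM (A.coh _) (A.coh _)

theorem prop_gr (hP : Cls P) (hM : P M) (n : ULift.{u} ℕ) : P (A.gr n) :=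
  hP.quot (qtπ _ _) (epi_qtπ _ _) (A.isCoh_gr (hP.coh hM) n)
    (hP.sub (A.F n.down).arrow inferInstance (A.coh _) hM)

/-- A module and its graded module have the same class. -/
theorem clSub_tot (hP : Cls P) (hM : P M) : KZero.clSub P A.tot = KZero.clSub P M := by
  have hMc := hP.coh hM
  let S : PUnit.{u + 1} × ULift.{u} ℕ → ShortComplex X.Modules :=
    fun t => subSeq (A.F t.2.down) (A.F (t.2.down + 1))
  have h := hP.swindle S (fun t => subSeq_shortExact _ _)
    (A.locFin_F.comp (e := fun t : PUnit.{u + 1} × ULift.{u} ℕ => t.2) fun a b h => Prod.ext rfl h)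
    (fun t => cSub_inf hMc (A.coh _) (A.coh _))
    (fun t => hP.sub (A.F t.2.down).arrow (Subobject.arrow_mono _) (A.coh _) hM)
    (fun t => A.isCoh_gr hMc t.2)
    (fun _ n => Subobject.isoOfEq _ _ (inf_eq_right.2 (A.anti n.down)))
  have e1 : KZero.clSub P A.tot = KZero.clSub P (∐ fun t => (S t).X₃) :=
    hP.clSub_sigma_congr (Equiv.punitProd _).symm (fun n => Iso.refl _) A.locFin_gr (A.prop_gr hP hM)
  have e2 : KZero.clSub P (∐ fun i : PUnit.{u + 1} => (S (i, ⟨0⟩)).X₂) = KZero.clSub P M := by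
    refine (hP.clSub_unique (fun i : PUnit.{u + 1} => (S (i, ⟨0⟩)).X₂)
      (hP.sub (A.F 0).arrow (Subobject.arrow_mono _) (A.coh _) hM)).trans (hP.clSub_iso ?_ (hP.sub (A.F 0).arrow (Subobject.arrow_mono _) (A.coh _) hM))
    exact Subobject.isoOfEq _ _ A.top ≪≫ asIso (⊤ : Subobject M).arrow
  rw [e1, h, e2]

variable {A} (B : Fil M)

omit [IsLocallyNoetherian X] in
/-- The butterfly piece. -/
noncomputable def piece (A B : Fil M) (t : ULift.{u} ℕ × ULift.{u} ℕ) : X.Modules :=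
  qt (A.F t.1.down ⊓ B.F t.2.down)
    (A.F (t.1.down + 1) ⊓ B.F t.2.down ⊔ A.F t.1.down ⊓ B.F (t.2.down + 1))

omit [IsLocallyNoetherian X] in
theorem piece_symm (A B : Fil M) (i j : ULift.{u} ℕ) : piece A B (i, j) = piece B A (j, i) := by
  simp only [piece, inf_comm (A.F i.down), inf_comm (A.F (i.down + 1)), sup_comm (B.F j.down ⊓ A.F (i.down + 1))]

/-- Refining `A` by `B`. -/
theorem clSub_tot_eq_pieces (hQ : Cls Q) (hM : Coh.IsCoh M) (hA : A.In Q) :
    KZero.clSub Q A.tot = KZero.clSub Q (∐ piece A B) ∧ LocFin (piece A B) ∧ ∀ t, Q (piece A B t) := by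
  let S : ULift.{u} ℕ × ULift.{u} ℕ → ShortComplex X.Modules := fun t =>
    qtSeq (inf_le_inf_left (A.F t.1.down) (B.anti t.2.down)) (A.F (t.1.down + 1))
  have hS : ∀ t, (S t).ShortExact := fun t => qtSeq_shortExact _ _
  have cij : ∀ i j, CSub (A.F i ⊓ B.F j) := fun i j => cSub_inf hM (A.coh i) (B.coh j)
  have c1 : ∀ t, Coh.IsCoh (S t).X₁ := fun t => isCoh_qt hM (cij _ _) (A.coh _)
  have c3 : ∀ t, Coh.IsCoh (S t).X₃ := fun t =>
    isCoh_qt hM (cij _ _) (cSub_sup hM (cSub_inf hM (cij _ _) (A.coh _)) (cij _ _))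
  have q2 : ∀ t, Q (S t).X₂ := fun t =>
    hQ.sub (qtIn (inf_le_left : A.F t.1.down ⊓ B.F t.2.down ≤ A.F t.1.down) _) (mono_qtIn _ _)
      (isCoh_qt hM (cij _ _) (A.coh _)) (hA t.1)
  have hl : LocFin fun t => (S t).X₂ := fun x => by
    obtain ⟨U, hxU, hU⟩ := A.locFin_F x
    obtain ⟨V, hxV, hV⟩ := B.locFin_F x
    refine ⟨U ⊓ V, ⟨hxU, hxV⟩, (hU.prod hV).subset ?_⟩
    rintro ⟨i, j⟩ ⟨y, ⟨hyU, hyV⟩, hn⟩
    have hn' := hn.of_epi (qtπ _ _)
    exact ⟨⟨y, hyU, hn'.of_mono (Subobject.ofLE _ _ inf_le_left)⟩,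
      ⟨y, hyV, hn'.of_mono (Subobject.ofLE _ _ inf_le_right)⟩⟩
  have e3 : ∀ t, piece A B t = (S t).X₃ := fun t => by
    show qt _ _ = qt _ _
    rw [inf_right_comm (A.F t.1.down) (B.F t.2.down) (A.F (t.1.down + 1)),
      inf_eq_right.2 (A.anti t.1.down)]
  have h := hQ.swindle S hS hl c1 q2 c3 (fun _ _ => Iso.refl _)
  have hl' : LocFin (piece A B) := hl.mono fun t x h' => by
    haveI := (hS t).epi_g
    rw [e3 t] at h'
    exact h'.of_epi (S t).g
  have q3 : ∀ t, Q (piece A B t) := fun t => e3 t ▸ hQ.quot _ (hS t).epi_g (c3 t) (q2 t)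
  refine ⟨?_, hl', q3⟩
  have e4 : KZero.clSub Q (∐ piece A B) = KZero.clSub Q (∐ fun t => (S t).X₃) :=
    hQ.clSub_sigma_congr (Equiv.refl _) (fun t => eqToIso (e3 t).symm) hl' q3
  rw [e4, h]
  refine hQ.clSub_sigma_congr (Equiv.refl _) (fun i => eqToIso ?_) A.locFin_gr hA
  show qt (A.F i.down ⊓ B.F 0) _ = qt (A.F i.down) _
  rw [B.top, inf_top_eq]
  rfl

/-- Independence of the filtration. -/
theorem clSub_tot_eq (hQ : Cls Q) (hM : Coh.IsCoh M) (hA : A.In Q) (hB : B.In Q) :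
    KZero.clSub Q A.tot = KZero.clSub Q B.tot := by
  obtain ⟨e, hl, hq⟩ := clSub_tot_eq_pieces B hQ hM hA
  obtain ⟨e', -, -⟩ := clSub_tot_eq_pieces A hQ hM hB
  rw [e, e']
  exact hQ.clSub_sigma_congr (Equiv.prodComm _ _) (fun t => eqToIso (piece_symm A B t.1 t.2).symm) hl hq

/-- The trivial filtration. -/
noncomputable def triv (hM : Coh.IsCoh M) : Fil M where
  F n := if n = 0 then ⊤ else ⊥
  anti n := by simp
  top := rfl
  coh n := by
    split_ifs
    · exact cSub_top hM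
    · exact (KZ.isClosedUnderIsomorphisms_isCoh (X := X)).of_iso
        ((isZero_zero _).iso (IsZero.of_iso (isZero_zero _) Subobject.botCoeIsoZero)) KZ.isCoh_zero
  fin x := ⟨⊤, trivial, 1, fun n hn y _ => by
    rw [if_neg (by omega)]
    exact not_nz_of_isZero (IsZero.of_iso (isZero_zero _) Subobject.botCoeIsoZero) y⟩

theorem in_triv (hQ : Cls Q) (hM : Q M) : (triv (hQ.coh hM)).In Q := fun n =>
  (triv (hQ.coh hM)).prop_gr hQ hM n

end Fil

section Add

variable [IsLocallyNoetherian X] {T : ShortComplex X.Modules}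

/-- The induced filtration on the submodule. -/
noncomputable def Fil.res (A : Fil T.X₂) (hT : T.ShortExact) (h₁ : Coh.IsCoh T.X₁) (h₂ : Coh.IsCoh T.X₂) :
    Fil T.X₁ where
  F n := pull T.f (A.F n)
  anti n := (gc T.f).monotone_u (A.anti n)
  top := by rw [A.top]; exact (gc T.f).u_top
  coh n := cSub_pull h₁ h₂ T.f (A.coh n)
  fin x := by
    obtain ⟨U, hx, N, hN⟩ := A.fin x
    refine ⟨U, hx, N, fun n hn y hy h => hN n hn y hy ?_⟩
    have hf : (A.F n).Factors ((pull T.f (A.F n)).arrow ≫ T.f) :=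
      (pull_factors_iff _).1 (Subobject.factors_self _)
    haveI := hT.mono_f
    haveI : Mono ((A.F n).factorThru _ hf) := mono_of_mono_fac ((A.F n).factorThru_arrow _ hf)
    exact h.of_mono ((A.F n).factorThru _ hf)

/-- The induced filtration on the quotient. -/
noncomputable def Fil.img (A : Fil T.X₂) (hT : T.ShortExact) (h₃ : Coh.IsCoh T.X₃) : Fil T.X₃ where
  F n := push T.g (A.F n)
  anti n := (gc T.g).monotone_l (A.anti n)
  top := by
    rw [A.top]
    refine top_unique (le_iff_factors.2 fun B x _ => (push_factors_iff x).2 ?_)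
    haveI := hT.epi_g
    obtain ⟨B', π, hπ, y, hy⟩ := surjective_up_to_refinements_of_epi T.g x
    exact ⟨B', π, hπ, y, Subobject.top_factors _, hy⟩
  coh n := cSub_push h₃ T.g (A.coh n)
  fin x := by
    obtain ⟨U, hx, N, hN⟩ := A.fin x
    exact ⟨U, hx, N, fun n hn y hy h => hN n hn y hy (h.of_epi (pushMap T.g (A.F n)))⟩

theorem Fil.res_img_spec (hQ : Cls Q) (A : Fil T.X₂) (hT : T.ShortExact) (h₁ : Coh.IsCoh T.X₁)
    (h₂ : Coh.IsCoh T.X₂) (h₃ : Coh.IsCoh T.X₃) (hA : A.In Q) :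
    (A.res hT h₁ h₂).In Q ∧ (A.img hT h₃).In Q ∧
      KZero.clSub Q A.tot = KZero.clSub Q (A.res hT h₁ h₂).tot + KZero.clSub Q (A.img hT h₃).tot := by
  haveI := hT.mono_f
  haveI := hT.epi_g
  let k : Subobject T.X₂ := push T.f ⊤
  let S : ULift.{u} ℕ → ShortComplex X.Modules := fun n =>
    qtSeq (inf_le_left : A.F n.down ⊓ k ≤ A.F n.down) (A.F (n.down + 1))
  have hS : ∀ n, (S n).ShortExact := fun n => qtSeq_shortExact _ _
  have hkill : push T.g k = ⊥ := by
    refine bot_unique ((gc T.g).l_le ((gc T.f).l_le (le_iff_factors.2 fun B x _ => ?_)))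
    rw [pull_factors_iff, pull_factors_iff, Category.assoc, T.zero, comp_zero]
    exact (Subobject.bot_factors_iff_zero _).2 rfl
  have hker : ∀ {W : X.Modules} (x : W ⟶ T.X₂), x ≫ T.g = 0 → k.Factors x := fun {W} x hx =>
    (push_factors_iff x).2 ⟨W, 𝟙 W, inferInstance, hT.exact.lift x hx, Subobject.top_factors _,
      (Category.id_comp x).trans (hT.exact.lift_f x hx).symm⟩
  have e1 : ∀ n, (A.res hT h₁ h₂).gr n ≅ (S n).X₁ := fun n => by
    have hI := isIso_qtMap T.f ((A.res hT h₁ h₂).anti n.down) fun {W} x _ hx => by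
      rw [zero_of_comp_mono T.f hx]
      exact Subobject.factors_zero
    refine (@asIso _ _ _ _ (qtMap T.f ((A.res hT h₁ h₂).F n.down) ((A.res hT h₁ h₂).F (n.down + 1))) hI) ≪≫
      eqToIso ?_
    refine qt_congr (push_pull T.f (A.F n.down)) ?_
    rw [show push T.f ((A.res hT h₁ h₂).F n.down) = A.F n.down ⊓ k from push_pull T.f (A.F n.down),
      show push T.f ((A.res hT h₁ h₂).F (n.down + 1)) = A.F (n.down + 1) ⊓ k from push_pull T.f _,
      inf_assoc (A.F n.down) k, inf_assoc (A.F n.down) k, ← inf_assoc k, inf_comm k (A.F (n.down + 1)),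
      inf_assoc (A.F (n.down + 1)) k k, inf_idem]
  have e3 : ∀ n, (S n).X₃ ≅ (A.img hT h₃).gr n := fun n => by
    have hb : A.F (n.down + 1) ⊔ A.F n.down ⊓ k ≤ A.F n.down := sup_le (A.anti _) inf_le_left
    haveI := isIso_qtMap T.g hb fun {W} x hxa hx =>
      Subobject.factors_of_le _ le_sup_right ((Subobject.inf_factors _).2 ⟨hxa, hker x hx⟩)
    refine eqToIso ?_ ≪≫ asIso (qtMap T.g (A.F n.down) (A.F (n.down + 1) ⊔ A.F n.down ⊓ k)) ≪≫ eqToIso ?_
    · show qt _ _ = qt _ _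
      rw [inf_eq_right.2 (A.anti n.down)]
    · show qt _ _ = qt (push T.g (A.F n.down)) (push T.g (A.F (n.down + 1)))
      rw [(gc T.g).l_sup, sup_eq_left.2 (((gc T.g).monotone_l inf_le_right).trans (hkill.le.trans bot_le))]
  have hl : LocFin fun n => (S n).X₂ := A.locFin_gr
  have q1 : ∀ n, Q (S n).X₁ := fun n => hQ.sub _ (hS n).mono_f
    ((KZ.isClosedUnderIsomorphisms_isCoh (X := X)).of_iso (e1 n) ((A.res hT h₁ h₂).isCoh_gr h₁ n)) (hA n)
  have q3 : ∀ n, Q (S n).X₃ := fun n => hQ.quot _ (hS n).epi_g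
    ((KZ.isClosedUnderIsomorphisms_isCoh (X := X)).of_iso (e3 n).symm ((A.img hT h₃).isCoh_gr h₃ n)) (hA n)
  have hr : (A.res hT h₁ h₂).In Q := fun n => hQ.iso (e1 n).symm (q1 n)
  have hi : (A.img hT h₃).In Q := fun n => hQ.iso (e3 n) (q3 n)
  refine ⟨hr, hi, ?_⟩
  have hl1 : LocFin fun n => (S n).X₁ := hl.mono fun n x h => by
    haveI := (hS n).mono_f
    exact h.of_mono (S n).f
  have hl3 : LocFin fun n => (S n).X₃ := hl.mono fun n x h => by
    haveI := (hS n).epi_g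
    exact h.of_epi (S n).g
  have E := KZ.clSub_ses Q (sigmaSeq_shortExact S hS) (hQ.sigma _ hl1 q1) (hQ.sigma _ hl hA)
    (hQ.sigma _ hl3 q3)
  have E1 : KZero.clSub Q (∐ fun n => (S n).X₁) = KZero.clSub Q (A.res hT h₁ h₂).tot :=
    hQ.clSub_sigma_congr (Equiv.refl _) e1 hl1 q1
  have E3 : KZero.clSub Q (∐ fun n => (S n).X₃) = KZero.clSub Q (A.img hT h₃).tot :=
    hQ.clSub_sigma_congr (Equiv.refl _) (fun n => (e3 n).symm) hl3 q3
  rw [← E1, ← E3]
  exact E

/-- Dévissage. -/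
theorem devissage (hP : Cls P) (hQ : Cls Q) (hle : ∀ M, Q M → P M)
    (hfil : ∀ M, P M → ∃ A : Fil M, A.In Q) :
    ∃ φ : KZero.K0sub Q ≃+ KZero.K0sub P, (∀ M, Q M → φ (KZero.clSub Q M) = KZero.clSub P M) ∧
      ∀ M, P M → ∀ A : Fil M, A.In Q → φ.symm (KZero.clSub P M) = KZero.clSub Q A.tot := by
  classical
  obtain ⟨f, hf⟩ := KZ.exists_liftSub Q (fun M => KZero.clSub P M) fun S hS a b c =>
    KZ.clSub_ses P hS (hle _ a) (hle _ b) (hle _ c)
  have hex : ∀ M, ∃ c, P M → ∀ A : Fil M, A.In Q → KZero.clSub Q A.tot = c := fun M => by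
    by_cases h : P M
    · obtain ⟨A, hA⟩ := hfil M h
      exact ⟨_, fun _ B hB => (Fil.clSub_tot_eq A hQ (hP.coh h) hB hA)⟩
    · exact ⟨0, fun h' => absurd h' h⟩
  choose G hG using hex
  obtain ⟨g, hg⟩ := KZ.exists_liftSub P G fun S hS a b c => by
    obtain ⟨A, hA⟩ := hfil _ b
    obtain ⟨hr, hi, e⟩ := Fil.res_img_spec hQ A hS (hP.coh a) (hP.coh b) (hP.coh c) hA
    rw [← hG _ b A hA, e, hG _ a _ hr, hG _ c _ hi]
  refine ⟨AddMonoidHom.toAddEquiv f g (KZ.K0sub_hom_ext Q fun M hM => ?_) (KZ.K0sub_hom_ext P fun M hM => ?_),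
    fun M hM => hf M hM, fun M hM A hA => (hg M hM).trans (hG M hM A hA).symm⟩
  · rw [AddMonoidHom.comp_apply, hf M hM, hg M (hle _ hM), AddMonoidHom.id_apply,
      ← hG M (hle _ hM) _ (Fil.in_triv hQ hM)]
    exact (Fil.triv (hQ.coh hM)).clSub_tot hQ hM
  · obtain ⟨A, hA⟩ := hfil M hM
    rw [AddMonoidHom.comp_apply, hg M hM, ← hG M hM A hA, AddMonoidHom.id_apply,
      hf A.tot (hQ.sigma _ A.locFin_gr hA)]
    exact A.clSub_tot hP hM

end Add

end Groth.Agent.DevK
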