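import Groth.Agent.DevK.Idx

/-! The invariant `length ker - length coker` relative to lattices in the generic values. -/

set_option autoImplicit false
set_option linter.style.haveILetI false

universe u

namespace Groth.Agent.DevK

open Groth.Agent IntThLib

/-- The one-dimensional situation: finitely many primes below the closed point, with residue fields. -/
structure Branches (R : Type u) [CommRing R] [IsLocalRing R] {J : Type u} (K : J → Type u)
    [∀ j, Field (K j)] [∀ j, Algebra R (K j)] : Prop where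
  frac : ∀ j (z : K j), ∃ a b : R, algebraMap R (K j) b ≠ 0 ∧ z * algebraMap R (K j) b = algebraMap R (K j) a
  dim : ∀ j (q : Ideal R), q.IsPrime → q ≠ IsLocalRing.maximalIdeal R →
    RingHom.ker (algebraMap R (K j)) ≤ q → q = RingHom.ker (algebraMap R (K j))
  distinct : ∀ i j, RingHom.ker (algebraMap R (K i)) ≤ RingHom.ker (algebraMap R (K j)) → i = j

section Lat

variable {R : Type u} [CommRing R] {K : Type u} [Field K] [Algebra R K] {W : Type u} [AddCommGroup W]
  [Module R W] [Module K W] [IsScalarTower R K W]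

theorem smul_eq_zero_of_mem_ker {b : R} (hb : algebraMap R K b = 0) (w : W) : b • w = 0 := by
  rw [← algebraMap_smul K b w, hb, zero_smul]

theorem exists_smul_mem_of_span (hfrac : ∀ z : K, ∃ a b : R, algebraMap R K b ≠ 0 ∧
      z * algebraMap R K b = algebraMap R K a) (N : Submodule R W) (hN : Submodule.span K (N : Set W) = ⊤)
    (v : W) : ∃ b : R, algebraMap R K b ≠ 0 ∧ b • v ∈ N := by
  have hv : v ∈ Submodule.span K (N : Set W) := hN ▸ Submodule.mem_top
  induction hv using Submodule.span_induction with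
  | mem x hx => exact ⟨1, by simp, by rwa [one_smul]⟩
  | zero => exact ⟨1, by simp, by simp⟩
  | add x y _ _ hx hy =>
    obtain ⟨a, ha, hax⟩ := hx
    obtain ⟨b, hb, hby⟩ := hy
    refine ⟨a * b, by rw [map_mul]; exact mul_ne_zero ha hb, ?_⟩
    rw [smul_add]
    refine N.add_mem ?_ ?_
    · rw [mul_comm, mul_smul]; exact N.smul_mem b hax
    · rw [mul_smul]; exact N.smul_mem a hby
  | smul c x _ hx =>
    obtain ⟨a, ha, hax⟩ := hx
    obtain ⟨r, s, hs, hrs⟩ := hfrac c
    refine ⟨s * a, by rw [map_mul]; exact mul_ne_zero hs ha, ?_⟩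
    have : (s * a) • c • x = r • (a • x) := by
      rw [← algebraMap_smul K (s * a), smul_smul, map_mul, mul_right_comm, mul_comm _ c, hrs,
        mul_smul, algebraMap_smul, algebraMap_smul]
    rw [this]
    exact N.smul_mem r hax

/-- A finitely generated submodule spanning over the field. -/
def IsLat (K : Type u) [Field K] [Module K W] (N : Submodule R W) : Prop :=
  N.FG ∧ Submodule.span K (N : Set W) = ⊤

omit [Algebra R K] [IsScalarTower R K W] in
theorem IsLat.sup {N N' : Submodule R W} (h : IsLat K N) (h' : N'.FG) : IsLat K (N ⊔ N') :=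
  ⟨h.1.sup h', top_unique (h.2 ▸ Submodule.span_mono (SetLike.coe_subset_coe.2 le_sup_left))⟩

end Lat

variable {R : Type u} [CommRing R] [IsLocalRing R] [IsNoetherianRing R] {J : Type u} [Fintype J]
  {K : J → Type u} [∀ j, Field (K j)] [∀ j, Algebra R (K j)]
  {W : J → Type u} [∀ j, AddCommGroup (W j)] [∀ j, Module R (W j)] [∀ j, Module (K j) (W j)]
  [∀ j, IsScalarTower R (K j) (W j)]

/-- Families of maps to the generic values, bijective after localising at each branch. -/
structure GenMap (K : J → Type u) [∀ j, Field (K j)] [∀ j, Algebra R (K j)] [∀ j, Module (K j) (W j)]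
    (M : Type u) [AddCommGroup M] [Module R M] (φ : ∀ j, M →ₗ[R] W j) : Prop where
  fin : Module.Finite R M
  span : ∀ j, Submodule.span (K j) (Set.range (φ j)) = ⊤
  ker : ∀ j t, φ j t = 0 → ∃ s : R, algebraMap R (K j) s ≠ 0 ∧ s • t = 0
  supp : ∀ q : Ideal R, q.IsPrime → q ≠ IsLocalRing.maximalIdeal R →
    (∀ j, q ≠ RingHom.ker (algebraMap R (K j))) → ∀ t : M, ∃ s : R, s ∉ q ∧ s • t = 0

omit [IsNoetherianRing R] [Fintype J] in
theorem Branches.exists_not_mem (hB : Branches R K) (q : Ideal R) (hq : q.IsPrime)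
    (hqm : q ≠ IsLocalRing.maximalIdeal R) (i : J) (hi : q ≠ RingHom.ker (algebraMap R (K i))) :
    ∃ b : R, algebraMap R (K i) b = 0 ∧ b ∉ q := by
  by_contra hc
  push Not at hc
  exact hi (hB.dim i q hq hqm fun b hb => hc b hb)

omit [Fintype J] in
theorem Branches.relLen_ne_top (hB : Branches R K) (j : J) {L N : Submodule R (W j)}
    (hL : IsLat (K j) L) (hN : N.FG) : relLen R N L ≠ ⊤ := by
  haveI : Module.Finite R N := Module.Finite.iff_fg.mpr hN
  refine CycLib.length_ne_top_of_support (support_subset_closedPoint fun q hq hqm z => ?_)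
  induction z using Submodule.Quotient.induction_on with
  | _ z =>
    by_cases hqj : q = RingHom.ker (algebraMap R (K j))
    · obtain ⟨b, hb, hbz⟩ := exists_smul_mem_of_span (hB.frac j) L hL.2 (z : W j)
      refine ⟨b, fun h => hb (RingHom.mem_ker.1 (hqj ▸ h : b ∈ RingHom.ker (algebraMap R (K j)))), ?_⟩
      rw [← Submodule.Quotient.mk_smul, Submodule.Quotient.mk_eq_zero]
      exact hbz
    · obtain ⟨b, hb, hbq⟩ := hB.exists_not_mem q hq hqm j hqj
      refine ⟨b, hbq, ?_⟩
      rw [← Submodule.Quotient.mk_smul, show b • z = 0 from Subtype.ext (smul_eq_zero_of_mem_ker hb _)]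
      exact Submodule.Quotient.mk_zero _

/-- The combined map to a product of lattices. -/
def toPi {M : Type u} [AddCommGroup M] [Module R M] (φ : ∀ j, M →ₗ[R] W j) (N : ∀ j, Submodule R (W j))
    (h : ∀ j, LinearMap.range (φ j) ≤ N j) : M →ₗ[R] Submodule.pi Set.univ N :=
  LinearMap.codRestrict _ (LinearMap.pi φ) fun m j _ => h j ⟨m, rfl⟩

omit [IsLocalRing R] [IsNoetherianRing R] [Fintype J] [∀ j, Field (K j)] in
theorem toPi_apply {M : Type u} [AddCommGroup M] [Module R M] (φ : ∀ j, M →ₗ[R] W j)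
    (N : ∀ j, Submodule R (W j)) (h : ∀ j, LinearMap.range (φ j) ≤ N j) (m : M) (j : J) :
    (toPi φ N h m).1 j = φ j m := rfl

theorem GenMap.idxFin (hB : Branches R K) {M : Type u} [AddCommGroup M] [Module R M]
    {φ : ∀ j, M →ₗ[R] W j} (hφ : GenMap K M φ) (N : ∀ j, Submodule R (W j)) (hN : ∀ j, (N j).FG)
    (h : ∀ j, LinearMap.range (φ j) ≤ N j) : IdxFin (toPi φ N h) := by
  classical
  haveI := hφ.fin
  haveI : IsNoetherian R M := isNoetherian_of_isNoetherianRing_of_finite R M
  haveI : Module.Finite R (Submodule.pi Set.univ N) := by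
    haveI := fun j => Module.Finite.iff_fg.mpr (hN j)
    exact Module.Finite.of_surjective
      (LinearMap.codRestrict (Submodule.pi Set.univ N)
        (LinearMap.pi fun j => (N j).subtype ∘ₗ LinearMap.proj j) fun v j _ => (v j).2)
      fun z => ⟨fun j => ⟨z.1 j, z.2 j (Set.mem_univ j)⟩, rfl⟩
  refine ⟨CycLib.length_ne_top_of_support (support_subset_closedPoint fun q hq hqm t => ?_),
    CycLib.length_ne_top_of_support (support_subset_closedPoint fun q hq hqm z => ?_)⟩
  · by_cases hj : ∀ j, q ≠ RingHom.ker (algebraMap R (K j))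
    · obtain ⟨s, hs, hst⟩ := hφ.supp q hq hqm hj t.1
      exact ⟨s, hs, Subtype.ext hst⟩
    · push Not at hj
      obtain ⟨j, rfl⟩ := hj
      obtain ⟨s, hs, hst⟩ := hφ.ker j t.1 (congrArg (fun z => z.1 j) t.2)
      exact ⟨s, hs, Subtype.ext hst⟩
  · induction z using Submodule.Quotient.induction_on with
    | _ z =>
      have hb : ∀ i, q ≠ RingHom.ker (algebraMap R (K i)) → ∃ b : R, algebraMap R (K i) b = 0 ∧ b ∉ q :=
        fun i => hB.exists_not_mem q hq hqm i
      choose b hb0 hbq using hb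
      let B : R := ∏ i, if h : q ≠ RingHom.ker (algebraMap R (K i)) then b i h else 1
      have hBq : B ∉ q := fun hm => by
        obtain ⟨i, -, hi⟩ := (Ideal.IsPrime.prod_mem_iff (hp := hq)).1 hm
        by_cases h : q ≠ RingHom.ker (algebraMap R (K i))
        · rw [dif_pos h] at hi; exact hbq i h hi
        · rw [dif_neg h] at hi; exact hq.ne_top ((Ideal.eq_top_iff_one q).2 hi)
      have hB0 : ∀ i, q ≠ RingHom.ker (algebraMap R (K i)) → ∀ w : W i, B • w = 0 := fun i hi w => by
        refine smul_eq_zero_of_mem_ker (K := K i) ?_ w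
        rw [map_prod]
        exact Finset.prod_eq_zero (Finset.mem_univ i) (by rw [dif_pos hi]; exact hb0 i hi)
      by_cases hj : ∀ j, q ≠ RingHom.ker (algebraMap R (K j))
      · refine ⟨B, hBq, ?_⟩
        rw [← Submodule.Quotient.mk_smul, Submodule.Quotient.mk_eq_zero]
        exact ⟨0, Subtype.ext (funext fun i => by
          rw [toPi_apply, map_zero]; exact (hB0 i (hj i) _).symm)⟩
      · push Not at hj
        obtain ⟨j, rfl⟩ := hj
        have hspan : Submodule.span (K j) ((LinearMap.range (φ j) : Submodule R (W j)) : Set (W j)) = ⊤ := by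
          rw [LinearMap.coe_range]; exact hφ.span j
        obtain ⟨a, ha, hav⟩ := exists_smul_mem_of_span (hB.frac j) _ hspan (z.1 j)
        obtain ⟨t, ht⟩ := hav
        refine ⟨B * a, fun hm => (hq.mem_or_mem hm).elim hBq ha, ?_⟩
        rw [← Submodule.Quotient.mk_smul, Submodule.Quotient.mk_eq_zero]
        refine ⟨B • t, Subtype.ext (funext fun i => ?_)⟩
        rw [toPi_apply, map_smul]
        show B • φ i t = (B * a) • z.1 i
        by_cases hij : i = j
        · subst hij; rw [ht, mul_smul]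
        · have hne : RingHom.ker (algebraMap R (K j)) ≠ RingHom.ker (algebraMap R (K i)) :=
            fun e => hij (hB.distinct i j e.ge)
          rw [hB0 i hne, mul_smul, hB0 i hne]

/-- The invariant. -/
noncomputable def evl {M : Type u} [AddCommGroup M] [Module R M] (φ : ∀ j, M →ₗ[R] W j)
    (L : ∀ j, Submodule R (W j)) : ℤ :=
  idx (toPi φ (fun j => LinearMap.range (φ j) ⊔ L j) fun _ => le_sup_left) +
    ∑ j, ((relLen R (LinearMap.range (φ j) ⊔ L j) (L j)).toNat : ℤ)

theorem piIncl_spec (hB : Branches R K) {L N : ∀ j, Submodule R (W j)} (h : ∀ j, L j ≤ N j)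
    (hL : ∀ j, IsLat (K j) (L j)) (hN : ∀ j, (N j).FG) :
    IdxFin (Submodule.inclusion (Submodule.pi_mono fun j _ => h j :
        Submodule.pi Set.univ L ≤ Submodule.pi Set.univ N)) ∧
      idx (Submodule.inclusion (Submodule.pi_mono fun j _ => h j :
        Submodule.pi Set.univ L ≤ Submodule.pi Set.univ N)) = -∑ j, ((relLen R (N j) (L j)).toNat : ℤ) := by
  classical
  have hf : ∀ j, relLen R (N j) (L j) ≠ ⊤ := fun j => hB.relLen_ne_top j (hL j) (hN j)
  have e := length_quotient_pi N L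
  have hsum : (∑ j, relLen R (N j) (L j)) ≠ ⊤ := by simp [hf]
  obtain ⟨e1, e2⟩ := idx_inclusion (Submodule.pi_mono fun j _ => h j :
    Submodule.pi Set.univ L ≤ Submodule.pi Set.univ N)
  refine ⟨e2 (e ▸ hsum), ?_⟩
  rw [e1, e, ENat.toNat_sum fun j _ => hf j]
  push_cast
  rfl

/-- The invariant may be computed with any larger lattices. -/
theorem ev_eq (hB : Branches R K) {M : Type u} [AddCommGroup M] [Module R M] {φ : ∀ j, M →ₗ[R] W j}
    (hφ : GenMap K M φ) {L N : ∀ j, Submodule R (W j)} (hL : ∀ j, IsLat (K j) (L j))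
    (hN : ∀ j, (N j).FG) (h : ∀ j, LinearMap.range (φ j) ≤ N j) (hLN : ∀ j, L j ≤ N j) :
    evl φ L = idx (toPi φ N h) + ∑ j, ((relLen R (N j) (L j)).toNat : ℤ) := by
  haveI := hφ.fin
  let N₀ : ∀ j, Submodule R (W j) := fun j => LinearMap.range (φ j) ⊔ L j
  have hrange : ∀ j, (LinearMap.range (φ j)).FG := fun j => by
    rw [LinearMap.range_eq_map]; exact Module.Finite.fg_top.map _
  have hN₀ : ∀ j, (N₀ j).FG := fun j => (hrange j).sup (hL j).1
  have hN₀lat : ∀ j, IsLat (K j) (N₀ j) := fun j => by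
    show IsLat (K j) (LinearMap.range (φ j) ⊔ L j)
    rw [sup_comm]; exact (hL j).sup (hrange j)
  have hle : ∀ j, N₀ j ≤ N j := fun j => sup_le (h j) (hLN j)
  obtain ⟨hf, he⟩ := piIncl_spec hB hle hN₀lat hN
  have hc := idx_comp (toPi φ N₀ fun _ => le_sup_left) _ (hφ.idxFin hB N₀ hN₀ fun _ => le_sup_left) hf
  have heq : idx (toPi φ N h) = idx (toPi φ N₀ fun _ => le_sup_left) - ∑ j, ((relLen R (N j) (N₀ j)).toNat : ℤ) := by
    have := hc.2
    rw [he] at this
    rw [sub_eq_add_neg, ← this]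
    rfl
  have hrel : ∀ j, ((relLen R (N j) (L j)).toNat : ℤ) =
      ((relLen R (N₀ j) (L j)).toNat : ℤ) + ((relLen R (N j) (N₀ j)).toNat : ℤ) := fun j => by
    rw [relLen_add (le_sup_right : L j ≤ N₀ j) (hle j),
      ENat.toNat_add (hB.relLen_ne_top j (hL j) (hN₀ j)) (hB.relLen_ne_top j (hN₀lat j) (hN j))]
    push_cast
    rfl
  rw [evl, heq, Finset.sum_congr rfl fun j _ => hrel j, Finset.sum_add_distrib]
  ring

/-- The change of the invariant with the lattices. -/
theorem ev_sub (hB : Branches R K) {M : Type u} [AddCommGroup M] [Module R M] {φ : ∀ j, M →ₗ[R] W j}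
    (hφ : GenMap K M φ) {L L' : ∀ j, Submodule R (W j)} (hL : ∀ j, IsLat (K j) (L j))
    (hL' : ∀ j, IsLat (K j) (L' j)) : evl φ L - evl φ L' = ∑ j, IntThLib.dist (L' j) (L j) := by
  haveI := hφ.fin
  let N : ∀ j, Submodule R (W j) := fun j => LinearMap.range (φ j) ⊔ (L j ⊔ L' j)
  have hrange : ∀ j, (LinearMap.range (φ j)).FG := fun j => by
    rw [LinearMap.range_eq_map]; exact Module.Finite.fg_top.map _
  have hN : ∀ j, (N j).FG := fun j => (hrange j).sup ((hL j).1.sup (hL' j).1)
  have h : ∀ j, LinearMap.range (φ j) ≤ N j := fun j => le_sup_left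
  rw [ev_eq hB hφ hL hN h fun j => le_sup_left.trans le_sup_right,
    ev_eq hB hφ hL' hN h fun j => le_sup_right.trans le_sup_right, add_sub_add_left_eq_sub,
    ← Finset.sum_sub_distrib]
  refine Finset.sum_congr rfl fun j _ => ?_
  have hm : L j ⊔ L' j ≤ N j := le_sup_right
  have hfm : ∀ {A : Submodule R (W j)}, IsLat (K j) A → A ≤ L j ⊔ L' j →
      ((relLen R (N j) A).toNat : ℤ) = ((relLen R (L j ⊔ L' j) A).toNat : ℤ) +
        ((relLen R (N j) (L j ⊔ L' j)).toNat : ℤ) := fun {A} hA hAle => by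
    rw [relLen_add hAle hm, ENat.toNat_add (hB.relLen_ne_top j hA ((hL j).1.sup (hL' j).1))
      (hB.relLen_ne_top j ((hL j).sup (hL' j).1) (hN j))]
    push_cast
    rfl
  rw [hfm (hL j) le_sup_left, hfm (hL' j) le_sup_right, IntThLib.dist]
  have q1 : relLen R (L j ⊔ L' j) (L j) = relLen R (L' j) (L' j ⊓ L j) := by
    have e := (LinearMap.quotientInfEquivSupQuotient (L' j) (L j)).length_eq
    rw [sup_comm (L j)]
    exact e.symm
  have q2 : relLen R (L j ⊔ L' j) (L' j) = relLen R (L j) (L' j ⊓ L j) := by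
    rw [inf_comm]
    exact ((LinearMap.quotientInfEquivSupQuotient (L j) (L' j)).length_eq).symm
  rw [q1, q2]
  ring

section Add

variable {W' W'' : J → Type u} [∀ j, AddCommGroup (W' j)] [∀ j, Module R (W' j)] [∀ j, Module (K j) (W' j)]
  [∀ j, IsScalarTower R (K j) (W' j)] [∀ j, AddCommGroup (W'' j)] [∀ j, Module R (W'' j)]
  [∀ j, Module (K j) (W'' j)] [∀ j, IsScalarTower R (K j) (W'' j)]

/-- Additivity. -/
theorem ev_additive (hB : Branches R K) {M' M M'' : Type u} [AddCommGroup M'] [Module R M'] [AddCommGroup M]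
    [Module R M] [AddCommGroup M''] [Module R M''] {i : M' →ₗ[R] M} {π : M →ₗ[R] M''}
    (hi : Function.Injective i) (hπ : Function.Surjective π) (hex : Function.Exact i π)
    {a : ∀ j, W' j →ₗ[R] W j} {b : ∀ j, W j →ₗ[R] W'' j} (ha : ∀ j, Function.Injective (a j))
    (hab : ∀ j, Function.Exact (a j) (b j))
    {φ' : ∀ j, M' →ₗ[R] W' j} {φ : ∀ j, M →ₗ[R] W j} {φ'' : ∀ j, M'' →ₗ[R] W'' j}
    (h₁ : ∀ j, a j ∘ₗ φ' j = φ j ∘ₗ i) (h₂ : ∀ j, b j ∘ₗ φ j = φ'' j ∘ₗ π)
    (hφ' : GenMap K M' φ') (hφ : GenMap K M φ) (hφ'' : GenMap K M'' φ'')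
    {L' : ∀ j, Submodule R (W' j)} {L : ∀ j, Submodule R (W j)} {L'' : ∀ j, Submodule R (W'' j)}
    (hL' : ∀ j, IsLat (K j) (L' j)) (hL : ∀ j, IsLat (K j) (L j)) (hL'' : ∀ j, IsLat (K j) (L'' j))
    (hLa : ∀ j, (L j).comap (a j) = L' j) (hLb : ∀ j, (L j).map (b j) = L'' j) :
    evl φ L = evl φ' L' + evl φ'' L'' := by
  classical
  haveI := hφ.fin
  let N : ∀ j, Submodule R (W j) := fun j => LinearMap.range (φ j) ⊔ L j
  let N' : ∀ j, Submodule R (W' j) := fun j => (N j).comap (a j)
  let N'' : ∀ j, Submodule R (W'' j) := fun j => (N j).map (b j)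
  have hrange : ∀ j, (LinearMap.range (φ j)).FG := fun j => by
    rw [LinearMap.range_eq_map]; exact Module.Finite.fg_top.map _
  have hN : ∀ j, (N j).FG := fun j => (hrange j).sup (hL j).1
  have hN' : ∀ j, (N' j).FG := fun j => by
    haveI := Module.Finite.iff_fg.mpr (hN j)
    haveI : IsNoetherian R (N j) := isNoetherian_of_isNoetherianRing_of_finite R (N j)
    have hle : (N' j).map (a j) ≤ N j := Submodule.map_comap_le _ _
    refine Submodule.fg_of_fg_map_injective (a j) (ha j) ?_
    rw [← Module.Finite.iff_fg]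
    exact Module.Finite.of_injective (Submodule.inclusion hle) (Submodule.inclusion_injective hle)
  have hN'' : ∀ j, (N'' j).FG := fun j => (hN j).map _
  have hr : ∀ j, LinearMap.range (φ j) ≤ N j := fun j => le_sup_left
  have hr' : ∀ j, LinearMap.range (φ' j) ≤ N' j := fun j => by
    rintro _ ⟨m, rfl⟩
    exact hr j ⟨i m, (LinearMap.congr_fun (h₁ j) m).symm⟩
  have hr'' : ∀ j, LinearMap.range (φ'' j) ≤ N'' j := fun j => by
    rintro _ ⟨m, rfl⟩
    obtain ⟨m, rfl⟩ := hπ m
    exact ⟨φ j m, hr j ⟨m, rfl⟩, LinearMap.congr_fun (h₂ j) m⟩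
  have hl : ∀ j, L j ≤ N j := fun j => le_sup_right
  have hl' : ∀ j, L' j ≤ N' j := fun j => hLa j ▸ Submodule.comap_mono (hl j)
  have hl'' : ∀ j, L'' j ≤ N'' j := fun j => hLb j ▸ Submodule.map_mono (hl j)
  rw [ev_eq hB hφ hL hN hr hl, ev_eq hB hφ' hL' hN' hr' hl', ev_eq hB hφ'' hL'' hN'' hr'' hl'']
  have mem' : ∀ {P : ∀ j, Submodule R (W j)}, ∀ z : Submodule.pi Set.univ (fun j => (P j).comap (a j)),
      LinearMap.pi (fun j => a j ∘ₗ LinearMap.proj j) z.1 ∈ Submodule.pi Set.univ P :=
    fun {P} z j hj => z.2 j hj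
  let A : ∀ P : ∀ j, Submodule R (W j),
      Submodule.pi Set.univ (fun j => (P j).comap (a j)) →ₗ[R] Submodule.pi Set.univ P :=
    fun P => LinearMap.codRestrict _ ((LinearMap.pi fun j => a j ∘ₗ LinearMap.proj j) ∘ₗ Submodule.subtype _) mem'
  let B : ∀ P : ∀ j, Submodule R (W j),
      Submodule.pi Set.univ P →ₗ[R] Submodule.pi Set.univ (fun j => (P j).map (b j)) :=
    fun P => LinearMap.codRestrict _ ((LinearMap.pi fun j => b j ∘ₗ LinearMap.proj j) ∘ₗ Submodule.subtype _)
      fun z j hj => ⟨z.1 j, z.2 j hj, rfl⟩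
  have hA : ∀ P, Function.Injective (A P) := fun P y z e =>
    Subtype.ext (funext fun j => ha j (congrArg (fun w => w.1 j) e))
  have hBs : ∀ P, Function.Surjective (B P) := fun P z => by
    choose w hw hwz using fun j => z.2 j (Set.mem_univ j)
    exact ⟨⟨w, fun j _ => hw j⟩, Subtype.ext (funext hwz)⟩
  have hAB : ∀ P, Function.Exact (A P) (B P) := fun P z => by
    refine ⟨fun hz => ?_, ?_⟩
    · choose w hw using fun j => (hab j (z.1 j)).1 (congrArg (fun v => v.1 j) hz)
      exact ⟨⟨w, fun j hj => show a j (w j) ∈ P j by rw [hw j]; exact z.2 j hj⟩, Subtype.ext (funext hw)⟩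
    · rintro ⟨y, rfl⟩
      exact Subtype.ext (funext fun j => (hab j).apply_apply_eq_zero (y.1 j))
  have E1 := (idx_additive (f' := toPi φ' N' hr') (f := toPi φ N hr) (f'' := toPi φ'' N'' hr'')
    hi hπ hex (hA N) (hBs N) (hAB N)
    (LinearMap.ext fun m => Subtype.ext (funext fun j => LinearMap.congr_fun (h₁ j) m))
    (LinearMap.ext fun m => Subtype.ext (funext fun j => LinearMap.congr_fun (h₂ j) m))
    (hφ'.idxFin hB N' hN' hr') (hφ''.idxFin hB N'' hN'' hr'')).2
  obtain ⟨fl, el⟩ := piIncl_spec hB hl hL hN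
  have hla : ∀ j, (L j).comap (a j) ≤ N' j := fun j => Submodule.comap_mono (hl j)
  have hlb : ∀ j, (L j).map (b j) ≤ N'' j := fun j => Submodule.map_mono (hl j)
  obtain ⟨fl', el'⟩ := piIncl_spec hB hla (fun j => (hLa j).symm ▸ hL' j) hN'
  obtain ⟨fl'', el''⟩ := piIncl_spec hB hlb (fun j => (hLb j).symm ▸ hL'' j) hN''
  have E2 := (idx_additive (f' := Submodule.inclusion (Submodule.pi_mono fun j _ => hla j))
    (f := Submodule.inclusion (Submodule.pi_mono fun j _ => hl j))
    (f'' := Submodule.inclusion (Submodule.pi_mono fun j _ => hlb j))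
    (hA L) (hBs L) (hAB L) (hA N) (hBs N) (hAB N)
    (LinearMap.ext fun m => rfl) (LinearMap.ext fun m => rfl) fl' fl'').2
  have E2' := (el.symm.trans E2).trans (congrArg₂ (· + ·) el' el'')
  simp only [hLa, hLb] at E2'
  linarith

end Add

/-- Branches carrying no values may be dropped. -/
theorem ev_subtype (hB : Branches R K) {M : Type u} [AddCommGroup M] [Module R M] {φ : ∀ j, M →ₗ[R] W j}
    (hφ : GenMap K M φ) {L : ∀ j, Submodule R (W j)} (hL : ∀ j, IsLat (K j) (L j)) {J' : Type u} [Fintype J']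
    (e : J' → J) (he : Function.Injective e) (hout : ∀ j, (∀ k, e k ≠ j) → Subsingleton (W j)) :
    evl φ L = evl (fun k => φ (e k)) (fun k => L (e k)) := by
  classical
  let N : ∀ j, Submodule R (W j) := fun j => LinearMap.range (φ j) ⊔ L j
  let p : Submodule.pi Set.univ N →ₗ[R] Submodule.pi Set.univ (fun k => N (e k)) :=
    LinearMap.codRestrict _ ((LinearMap.pi fun k => LinearMap.proj (e k)) ∘ₗ Submodule.subtype _)
      fun z k _ => z.2 (e k) (Set.mem_univ _)
  have hp : Function.Bijective p := by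
    refine ⟨fun y z h => Subtype.ext (funext fun j => ?_), fun z => ?_⟩
    · by_cases hj : ∃ k, e k = j
      · obtain ⟨k, rfl⟩ := hj
        exact congrArg (fun w => w.1 k) h
      · exact (hout j fun k hk => hj ⟨k, hk⟩).elim _ _
    · let v : ∀ j, W j := fun j => if h : ∃ k, e k = j then h.choose_spec ▸ z.1 h.choose else 0
      have hv : ∀ k, v (e k) = z.1 k := fun k => by
        have h : ∃ k', e k' = e k := ⟨k, rfl⟩
        simp only [v, dif_pos h]
        have hk : h.choose = k := he h.choose_spec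
        revert hk
        generalize h.choose_spec = q
        revert q
        generalize h.choose = c
        intro q hk
        subst hk
        rfl
      refine ⟨⟨v, fun j _ => ?_⟩, Subtype.ext (funext hv)⟩
      by_cases hj : ∃ k, e k = j
      · obtain ⟨k, rfl⟩ := hj
        rw [hv]
        exact z.2 k (Set.mem_univ k)
      · haveI := hout j fun k hk => hj ⟨k, hk⟩
        rw [Subsingleton.elim (v j) 0]
        exact zero_mem _
  have hN : ∀ j, (N j).FG := fun j => by
    haveI := hφ.fin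
    exact (LinearMap.range_eq_map (φ j) ▸ Module.Finite.fg_top.map _ : (LinearMap.range (φ j)).FG).sup (hL j).1
  obtain ⟨pf, pe⟩ := idx_of_bijective hp
  have hc := (idx_comp (toPi φ N fun _ => le_sup_left) p (hφ.idxFin hB N hN fun _ => le_sup_left) pf).2
  rw [pe, add_zero] at hc
  rw [evl, evl, ← hc]
  congr 1
  rw [← Finset.sum_image (f := fun j => ((relLen R (LinearMap.range (φ j) ⊔ L j) (L j)).toNat : ℤ))
    (fun a _ b _ h => he h)]
  symm
  refine Finset.sum_subset (Finset.subset_univ _) fun j _ hj => ?_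
  haveI := hout j fun k hk => hj (Finset.mem_image.2 ⟨k, Finset.mem_univ k, hk⟩)
  rw [Subsingleton.elim (LinearMap.range (φ j) ⊔ L j) (L j), relLen_self]
  rfl

end Groth.Agent.DevK
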