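import Groth.Agent.DevK.Dev
import Groth.Agent.QCoh.SubCompare
import Groth.Agent.QCoh.AnnIdeal

/-! The filtration by powers of an ideal sheaf. -/

set_option autoImplicit false
set_option linter.style.haveILetI false
set_option backward.isDefEq.respectTransparency false
set_option backward.isDefEq.respectTransparency.types false

universe u

open CategoryTheory CategoryTheory.Limits AlgebraicGeometry TopologicalSpace Opposite

namespace Groth.Agent.DevK

open Groth.Agent

variable {X : Scheme.{u}}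

/-- All stalks are killed by the ideal sheaf. -/
def KilledBy (J : X.IdealSheafData) (G : X.Modules) : Prop :=
  ∀ (U : X.affineOpens) (y : X) (hy : y ∈ U.1), ∀ a ∈ J.ideal U, ∀ t : G.presheaf.stalk y,
    X.presheaf.germ U.1 y hy a • t = 0

theorem KilledBy.of_sections {J : X.IdealSheafData} {G : X.Modules}
    (h : ∀ (U : X.affineOpens), ∀ a ∈ J.ideal U, ∀ s : Γ(G, U.1), a • s = 0) : KilledBy J G := by
  intro U y hy a ha t
  obtain ⟨V, hyV, n, rfl⟩ := G.presheaf.exists_germ_eq t
  obtain ⟨W, hW, hyW, hle⟩ := exists_isAffineOpen_mem_and_subset (x := y) (U := U.1 ⊓ V) ⟨hy, hyV⟩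
  have hWU : W ≤ U.1 := fun z hz => (hle hz).1
  have hWV : W ≤ V := fun z hz => (hle hz).2
  have ha' : X.presheaf.map (homOfLE hWU).op a ∈ J.ideal ⟨W, hW⟩ := by
    rw [← J.map_ideal (U := ⟨W, hW⟩) (V := U) hWU]
    exact Ideal.mem_map_of_mem _ ha
  rw [← X.presheaf.germ_res_apply (homOfLE hWU) y hyW a,
    ← TopCat.Presheaf.germ_res_apply (F := G.presheaf) (homOfLE hWV) y hyW n, ← QCoh.germ_smul',
    h ⟨W, hW⟩ _ ha', map_zero]

theorem KilledBy.sections {J : X.IdealSheafData} {G : X.Modules} (h : KilledBy J G) (U : X.affineOpens)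
    {a : Γ(X, U.1)} (ha : a ∈ J.ideal U) (s : Γ(G, U.1)) : a • s = 0 := by
  refine TopCat.Presheaf.section_ext (show TopCat.Sheaf AddCommGrpCat.{u} X.toPresheafedSpace.carrier
    from ⟨G.presheaf, G.isSheaf⟩) U.1 (a • s) 0 fun y hy => ?_
  show G.presheaf.germ U.1 y hy (a • s) = G.presheaf.germ U.1 y hy 0
  rw [map_zero, QCoh.germ_smul']
  exact h U y hy a ha _

theorem KilledBy.of_mono {J : X.IdealSheafData} {A B : X.Modules} (f : A ⟶ B) [Mono f]
    (h : KilledBy J B) : KilledBy J A := fun U y hy a ha t =>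
  stalk_injective f y (((DerSch.stalkFunctor X y).map f).hom.map_smul _ t |>.trans
    ((h U y hy a ha _).trans (map_zero _).symm))

theorem KilledBy.of_epi {J : X.IdealSheafData} {A B : X.Modules} (f : A ⟶ B) [Epi f]
    (h : KilledBy J A) : KilledBy J B := fun U y hy a ha t => by
  obtain ⟨s, rfl⟩ := stalk_surjective f y t
  exact (((DerSch.stalkFunctor X y).map f).hom.map_smul _ s).symm.trans
    ((congrArg _ (h U y hy a ha s)).trans (map_zero _))

theorem KilledBy.sigma {J : X.IdealSheafData} {ι : Type u} {G : ι → X.Modules}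
    (h : ∀ i, KilledBy J (G i)) : KilledBy J (∐ G) := fun U y hy a ha t => by
  let S := DerSch.stalkFunctor X y
  have e : (ModuleCat.ofHom (X.presheaf.germ U.1 y hy a • LinearMap.id) : S.obj (∐ G) ⟶ S.obj (∐ G)) = 0 := by
    refine Cofan.IsColimit.hom_ext (isColimitCofanMkObjOfIsColimit S G (Sigma.ι G) (coproductIsCoproduct G))
      _ _ fun i => ?_
    refine ModuleCat.hom_ext (LinearMap.ext fun s => ?_)
    exact ((S.map (Sigma.ι G i)).hom.map_smul _ s).symm.trans ((congrArg _ (h i U y hy a ha s)).trans (map_zero _))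
  exact congrArg (fun φ => φ.hom t) e

/-- Coherent modules supported in a set. -/
def supp (T : Set X) : ObjectProperty X.Modules :=
  fun G => Coh.IsCoh G ∧ ∀ x : X, NZ G x → x ∈ T

/-- Coherent modules supported in a set and killed by an ideal sheaf. -/
def suppKilled (T : Set X) (J : X.IdealSheafData) : ObjectProperty X.Modules :=
  fun G => supp T G ∧ KilledBy J G

theorem cls_supp (T : Set X) : Cls (supp T) where
  coh h := h.1
  sub f _ hA h := ⟨hA, fun x hx => h.2 x (hx.of_mono f)⟩
  quot f _ hB h := ⟨hB, fun x hx => h.2 x (hx.of_epi f)⟩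
  sigma _ hl h := ⟨isCoh_sigma hl fun i => (h i).1, fun x hx =>
    let ⟨i, hi⟩ := exists_nz_of_sigma hx; (h i).2 x hi⟩

theorem cls_suppKilled (T : Set X) (J : X.IdealSheafData) : Cls (suppKilled T J) where
  coh h := h.1.1
  sub f hf hA h := ⟨(cls_supp T).sub f hf hA h.1, h.2.of_mono f⟩
  quot f hf hB h := ⟨(cls_supp T).quot f hf hB h.1, h.2.of_epi f⟩
  sigma G hl h := ⟨(cls_supp T).sigma G hl fun i => (h i).1, KilledBy.sigma fun i => (h i).2⟩

variable [IsLocallyNoetherian X] (J : X.IdealSheafData) (M : X.Modules)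

/-- The submodules `J ^ n • M`. -/
noncomputable def powSub : ℕ → Subobject M
  | 0 => ⊤
  | n + 1 =>
    haveI : Mono (Dual3.idealMulι J (powSub n : X.Modules)) := by unfold Dual3.idealMulι; infer_instance
    Subobject.mk (Dual3.idealMulι J (powSub n : X.Modules) ≫ (powSub n).arrow)

instance mono_idealMulι (N : X.Modules) : Mono (Dual3.idealMulι J N) := by
  unfold Dual3.idealMulι; infer_instance

theorem powSub_succ (n : ℕ) : powSub J M (n + 1) =
    Subobject.mk (Dual3.idealMulι J (powSub J M n : X.Modules) ≫ (powSub J M n).arrow) := rfl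

theorem powSub_anti (n : ℕ) : powSub J M (n + 1) ≤ powSub J M n := by
  rw [powSub_succ]
  exact Subobject.mk_le_of_comm _ rfl

variable {M}

theorem cSub_powSub (hM : Coh.IsCoh M) : ∀ n, CSub (powSub J M n)
  | 0 => cSub_top hM
  | n + 1 => by
    rw [powSub_succ]
    have h := cSub_powSub hM n
    exact (KZ.isClosedUnderIsomorphisms_isCoh (X := X)).of_iso (Subobject.underlyingIso _).symm
      (QCoh.isCoh_of_mono (Dual3.idealMulι J _) h (QCoh.isQCoh_idealMul J h.1))

theorem range_mk_arrow {A : X.Modules} (a : A ⟶ M) [Mono a] (U : X.Opens) :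
    LinearMap.range (QCoh.appLin (Subobject.mk a).arrow U) = LinearMap.range (QCoh.appLin a U) := by
  refine le_antisymm ?_ ?_
  · rw [← Subobject.underlyingIso_hom_comp_eq_mk a, QCoh.appLin_comp]
    exact LinearMap.range_comp_le_range _ _
  · conv_lhs => rw [← Subobject.underlyingIso_arrow a, QCoh.appLin_comp]
    exact LinearMap.range_comp_le_range _ _

theorem range_powSub (hM : Coh.IsCoh M) (U : X.affineOpens) : ∀ n,
    LinearMap.range (QCoh.appLin (powSub J M n).arrow U.1) = J.ideal U ^ n • (⊤ : Submodule Γ(X, U.1) Γ(M, U.1))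
  | 0 => by
    rw [pow_zero, Ideal.one_eq_top, Submodule.top_smul]
    refine LinearMap.range_eq_top.2 fun x => ⟨(inv (⊤ : Subobject M).arrow).app U.1 x, ?_⟩
    exact congr(($(IsIso.inv_hom_id (⊤ : Subobject M).arrow)).app U.1 x)
  | n + 1 => by
    rw [powSub_succ, range_mk_arrow, QCoh.range_idealMul_comp J (cSub_powSub J hM n).1 _ U.2,
      range_powSub hM U n, pow_succ', Submodule.mul_smul]

omit [IsLocallyNoetherian X] in
theorem ideal_le_radical_annihilator {G : X.Modules} (hG : Coh.IsCoh G)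
    (hs : ∀ x : X, NZ G x → x ∈ J.support) (U : X.affineOpens) :
    J.ideal U ≤ (Module.annihilator Γ(X, U.1) Γ(G, U.1)).radical := by
  haveI := QCoh.finite_sections hG U.2
  rw [← PrimeSpectrum.zeroLocus_subset_zeroLocus_iff, ← Module.support_eq_zeroLocus]
  intro p hp
  obtain ⟨y, hy, hyp⟩ := QCoh.exists_point U.2 p
  rw [← hyp, QCoh.mem_moduleSupport_iff hG.1 U.2 hy] at hp
  have hmem : y ∈ J.support := hs y (not_subsingleton_iff_nontrivial.1 hp)
  rw [← hyp, PrimeSpectrum.mem_zeroLocus]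
  intro a ha
  rw [SetLike.mem_coe]
  by_contra hn
  have := (Scheme.IdealSheafData.mem_support_iff_of_mem (I := J) (U := U) hy).1 hmem
  rw [Scheme.mem_zeroLocus_iff] at this
  exact this a ha ((QCoh.mem_basicOpen_iff_notMem U.2 hy a).2 hn)

theorem exists_pow_eq_bot (hM : Coh.IsCoh M) (hs : ∀ x : X, NZ M x → x ∈ J.support) (U : X.affineOpens) :
    ∃ N, ∀ n ≥ N, ∀ y ∈ U.1, ¬ NZ (powSub J M n : X.Modules) y := by
  haveI := IsLocallyNoetherian.component_noetherian U
  obtain ⟨N, hN⟩ := Ideal.exists_pow_le_of_le_radical_of_fg (ideal_le_radical_annihilator J hM hs U)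
    (IsNoetherian.noetherian _)
  refine ⟨N, fun n hn y hy => not_nontrivial_iff_subsingleton.2
    ((QCoh.subsingleton_stalk_iff (cSub_powSub J hM n).1 U.2 hy).2 fun m => ⟨1, ?_, ?_⟩)⟩
  · rw [X.mem_basicOpen _ y hy, map_one]
    exact isUnit_one
  · rw [one_smul]
    refine QCoh.app_injective (powSub J M n).arrow U.1 ?_
    rw [map_zero]
    have h0 : (J.ideal U ^ n • (⊤ : Submodule Γ(X, U.1) Γ(M, U.1))) = ⊥ := by
      rw [eq_bot_iff, Submodule.smul_le]
      intro r hr v _
      exact Submodule.mem_bot _ |>.2 (Module.mem_annihilator.1 (hN (Ideal.pow_le_pow_right hn hr)) v)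
    have hmem : QCoh.appLin (powSub J M n).arrow U.1 m ∈ LinearMap.range (QCoh.appLin (powSub J M n).arrow U.1) :=
      ⟨m, rfl⟩
    rw [range_powSub J hM U n, h0] at hmem
    exact (Submodule.mem_bot _).1 hmem

/-- The filtration by powers of `J`. -/
noncomputable def powFil (hM : Coh.IsCoh M) (hs : ∀ x : X, NZ M x → x ∈ J.support) : Fil M where
  F := powSub J M
  anti := powSub_anti J M
  top := rfl
  coh := cSub_powSub J hM
  fin x := by
    obtain ⟨U, hU, hx, -⟩ := exists_isAffineOpen_mem_and_subset (x := x) (U := ⊤) trivial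
    obtain ⟨N, hN⟩ := exists_pow_eq_bot J hM hs ⟨U, hU⟩
    exact ⟨U, hx, N, hN⟩

theorem powFil_in {T : Set X} (hM : supp T M) (hs : ∀ x : X, NZ M x → x ∈ J.support) :
    (powFil J hM.1 hs).In (suppKilled T J) := fun n => by
  refine ⟨(powFil J hM.1 hs).prop_gr (cls_supp T) hM n, KilledBy.of_sections fun U a ha s => ?_⟩
  let F := powSub J M
  have hc := cSub_powSub J hM.1
  obtain ⟨t, rfl⟩ := QCoh.app_surjective_of_epi (hc n.down).1 (isCoh_qt hM.1 (hc _) (hc _)).1
    (qtπ (F n.down) (F (n.down + 1))) U.2 s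
  refine (Scheme.Modules.Hom.app_smul _ a t).symm.trans ?_
  have hmem : (F n.down).arrow.app U.1 (a • t) ∈ LinearMap.range (QCoh.appLin (F (n.down + 1)).arrow U.1) := by
    rw [range_powSub J hM.1 U, pow_succ', Submodule.mul_smul, ← range_powSub J hM.1 U,
      show (F n.down).arrow.app U.1 (a • t) = a • QCoh.appLin (F n.down).arrow U.1 t from
        (QCoh.appLin (F n.down).arrow U.1).map_smul a t]
    exact Submodule.smul_mem_smul ha ⟨t, rfl⟩
  obtain ⟨w, hw⟩ := hmem
  let j : (F (n.down + 1) : X.Modules) ⟶ (F n.down ⊓ F (n.down + 1) : Subobject M) :=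
    Subobject.ofLE _ _ (le_inf (powSub_anti J M n.down) le_rfl)
  have e : a • t = (Subobject.ofLE (F n.down ⊓ F (n.down + 1)) (F n.down) inf_le_left).app U.1 (j.app U.1 w) := by
    refine QCoh.app_injective (F n.down).arrow U.1 ?_
    rw [← hw]
    exact (congr(($(show (j ≫ Subobject.ofLE (F n.down ⊓ F (n.down + 1)) (F n.down) inf_le_left) ≫
      (F n.down).arrow = (F (n.down + 1)).arrow by simp [j])).app U.1 w) : _).symm
  rw [e]
  exact congr(($(show Subobject.ofLE (F n.down ⊓ F (n.down + 1)) (F n.down) inf_le_left ≫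
    qtπ (F n.down) (F (n.down + 1)) = 0 from cokernel.condition _)).app U.1 (j.app U.1 w))

theorem devissage_supp (T : Set X) (hT : T ⊆ (J.support : Set X)) :
    ∃ φ : KZero.K0sub (suppKilled T J) ≃+ KZero.K0sub (supp T),
      (∀ G, suppKilled T J G → φ (KZero.clSub (suppKilled T J) G) = KZero.clSub (supp T) G) ∧
      ∀ G, supp T G → ∀ A : Fil G, A.In (suppKilled T J) →
        φ.symm (KZero.clSub (supp T) G) = KZero.clSub (suppKilled T J) A.tot :=
  devissage (cls_supp T) (cls_suppKilled T J) (fun _ h => h.1) fun _ hG =>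
    ⟨powFil J hG.1 fun x hx => hT (hG.2 x hx), powFil_in J hG _⟩

end Groth.Agent.DevK
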