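import Groth.Agent.DevK.GenVal

/-! Frames, their lattices and the dependence of the local invariant on them. -/

set_option autoImplicit false
set_option linter.style.haveILetI false
set_option backward.isDefEq.respectTransparency false
set_option backward.isDefEq.respectTransparency.types false

universe u

open CategoryTheory AlgebraicGeometry

namespace Groth.Agent.DevK

open Groth.Agent

variable {X : Scheme.{u}}

/-- A tuple of elements of a stalk. -/
abbrev Fr (F : X.Modules) (ξ : X) : Type u := Σ n : ℕ, Fin n → F.presheaf.stalk ξ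

/-- A minimal generating tuple. -/
def IsFr (F : X.Modules) (ξ : X) (v : Fr F ξ) : Prop :=
  Submodule.span (X.presheaf.stalk ξ) (Set.range v.2) = ⊤ ∧
    (v.1 : ℕ∞) = Module.length (X.presheaf.stalk ξ) (F.presheaf.stalk ξ)

variable {F : X.Modules} {x ξ : X} (h : ξ ⤳ x) (hs : KillAt F ξ)

/-- An element of the stalk as a generic value. -/
def toGV (t : F.presheaf.stalk ξ) : GV F h hs := t

/-- A tuple as generic values. -/
def frVal (v : Fr F ξ) (i : Fin v.1) : GV F h hs := toGV h hs (v.2 i)

/-- The lattice spanned by a tuple. -/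
noncomputable def frLat (v : Fr F ξ) : Submodule (X.presheaf.stalk x) (GV F h hs) :=
  Submodule.span (X.presheaf.stalk x) (Set.range (frVal h hs v))

theorem length_GV : Module.length (RK h) (GV F h hs) =
    Module.length (X.presheaf.stalk ξ) (F.presheaf.stalk ξ) := by
  letI : Algebra (X.presheaf.stalk ξ) (RK h) := (X.residue ξ).hom.toAlgebra
  haveI : IsScalarTower (X.presheaf.stalk ξ) (RK h) (GV F h hs) :=
    IsScalarTower.of_algebraMap_smul fun _ _ => rfl
  exact (Module.length_eq_of_surjective (S := X.presheaf.stalk ξ) (R := RK h) (M := GV F h hs)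
    (X.residue_surjective ξ)).symm

theorem frSpan {v : Fr F ξ} (hv : IsFr F ξ v) :
    Submodule.span (RK h) (Set.range (frVal h hs v)) = ⊤ := by
  rw [eq_top_iff]
  intro t _
  have key : ∀ y : F.presheaf.stalk ξ, y ∈ Submodule.span (X.presheaf.stalk ξ) (Set.range v.2) →
      toGV h hs y ∈ Submodule.span (RK h) (Set.range (frVal h hs v)) := by
    intro y hy
    induction hy using Submodule.span_induction with
    | mem y hy =>
      obtain ⟨i, rfl⟩ := hy
      exact Submodule.subset_span ⟨i, rfl⟩
    | zero => exact zero_mem (Submodule.span (RK h) (Set.range (frVal h hs v)))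
    | add _ _ _ _ a b => exact add_mem a b
    | smul r y _ a => exact Submodule.smul_mem _ (show RK h from X.residue ξ r) a
  exact key t (hv.1 ▸ Submodule.mem_top)

/-- The basis given by a frame. -/
noncomputable def frBasis {v : Fr F ξ} (hv : IsFr F ξ v) : Module.Basis (Fin v.1) (RK h) (GV F h hs) :=
  basisOfTopLeSpanOfCardEqFinrank (frVal h hs v) (frSpan h hs hv).ge (by
    haveI : Module.Finite (RK h) (GV F h hs) :=
      Module.Finite.of_fg_top (frSpan h hs hv ▸ Submodule.fg_span (Set.finite_range _))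
    rw [Fintype.card_fin]
    exact Nat.cast_inj.1 ((hv.2.trans (length_GV h hs).symm).trans (Module.length_eq_finrank (RK h) (GV F h hs))))

theorem frBasis_apply {v : Fr F ξ} (hv : IsFr F ξ v) (i : Fin v.1) : frBasis h hs hv i = frVal h hs v i := by
  rw [frBasis, coe_basisOfTopLeSpanOfCardEqFinrank]

theorem isLat_frLat {v : Fr F ξ} (hv : IsFr F ξ v) : IsLat (RK h) (frLat h hs v) := by
  refine ⟨Submodule.fg_span (Set.finite_range _), ?_⟩
  rw [eq_top_iff, ← frSpan h hs hv]
  exact Submodule.span_mono Submodule.subset_span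

theorem exists_isFr [IsLocallyNoetherian X] (hs : KillAt F ξ)
    (hfin : Module.length (X.presheaf.stalk ξ) (F.presheaf.stalk ξ) < ⊤) : ∃ v : Fr F ξ, IsFr F ξ v := by
  have h := specializes_refl ξ
  have e := length_GV h hs
  have hne : Module.length (RK h) (GV F h hs) ≠ ⊤ := e ▸ hfin.ne
  haveI : IsNoetherian (RK h) (GV F h hs) :=
    (isFiniteLength_iff_isNoetherian_isArtinian.1 (Module.length_ne_top_iff.1 hne)).1
  let b := Module.finBasis (RK h) (GV F h hs)
  let v : Fr F ξ := ⟨_, fun i => (show F.presheaf.stalk ξ from b i)⟩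
  refine ⟨v, eq_top_iff.2 fun t _ => ?_, ?_⟩
  · have key : ∀ y : GV F h hs, y ∈ Submodule.span (RK h) (Set.range b) →
        (show F.presheaf.stalk ξ from y) ∈ Submodule.span (X.presheaf.stalk ξ) (Set.range v.2) := by
      intro y hy
      induction hy using Submodule.span_induction with
      | mem y hy =>
        obtain ⟨i, rfl⟩ := hy
        exact Submodule.subset_span ⟨i, rfl⟩
      | zero => exact zero_mem (Submodule.span (X.presheaf.stalk ξ) (Set.range v.2))
      | add _ _ _ _ a c => exact add_mem a c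
      | smul r y _ a =>
        obtain ⟨r, rfl⟩ := X.residue_surjective ξ r
        exact Submodule.smul_mem _ r a
    exact key (toGV h hs t) (b.span_eq ▸ Submodule.mem_top)
  · rw [← e, Module.length_eq_finrank]

theorem toGV_sum {ι : Type} [Fintype ι] (c : ι → X.presheaf.stalk ξ) (t : ι → F.presheaf.stalk ξ) :
    toGV h hs (∑ j, c j • t j) = ∑ j, (show RK h from X.residue ξ (c j)) • toGV h hs (t j) := rfl

/-- The matrix of residues of a matrix over the local ring. -/
noncomputable def resMat {n : ℕ} (C : Matrix (Fin n) (Fin n) (X.presheaf.stalk ξ)) :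
    Matrix (Fin n) (Fin n) (RK h) :=
  C.map fun r => (show RK h from X.residue ξ r)

theorem det_resMat {n : ℕ} (C : Matrix (Fin n) (Fin n) (X.presheaf.stalk ξ)) :
    (resMat h C).det = (show RK h from X.residue ξ C.det) :=
  (RingHom.map_det (X.residue ξ).hom C).symm

set_option maxHeartbeats 800000 in
/-- The lattice over the local ring of the closure. -/
theorem dist_frLat [IsLocallyNoetherian X] {δ : X → ℤ} (hd : Cyc.IsDimFun X δ) (hx : δ x + 1 = δ ξ)
    {v v' : Fr F ξ} (hv' : IsFr F ξ v') (ψ : GV F h hs →ₗ[RK h] GV F h hs) (e : Fin v'.1 ≃ Fin v.1)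
    (hψ : ∀ i, ψ (frVal h hs v' i) = frVal h hs v (e i)) (hdet : LinearMap.det ψ ≠ 0) :
    IntThLib.dist (frLat h hs v') (frLat h hs v) = Cyc.ordAt x ξ h (show RK h from LinearMap.det ψ) := by
  letI : Algebra (Cyc.LocQuot x ξ h) (RK h) :=
    (Ideal.Quotient.lift (RingHom.ker (Cyc.specMap x ξ h)) (Cyc.specMap x ξ h)
      (fun _ ha => RingHom.mem_ker.mp ha) : Cyc.LocQuot x ξ h →+* RK h).toAlgebra
  haveI : IsFractionRing (Cyc.LocQuot x ξ h) (RK h) := CycLib.isFractionRing_locQuot h
  haveI := CycLib.krullDimLE_locQuot hd h hx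
  letI : Module (Cyc.LocQuot x ξ h) (GV F h hs) := Module.compHom _ (algebraMap (Cyc.LocQuot x ξ h) (RK h))
  haveI : IsScalarTower (Cyc.LocQuot x ξ h) (RK h) (GV F h hs) :=
    IsScalarTower.of_algebraMap_smul fun _ _ => rfl
  haveI : IsScalarTower (X.presheaf.stalk x) (Cyc.LocQuot x ξ h) (GV F h hs) :=
    IsScalarTower.of_algebraMap_smul fun r t => IsScalarTower.algebraMap_smul (RK h) r t
  haveI : Module.Finite (RK h) (GV F h hs) := Module.Finite.of_basis (frBasis h hs hv')
  let L : Submodule (Cyc.LocQuot x ξ h) (GV F h hs) := Submodule.span _ (Set.range (frVal h hs v))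
  let L' : Submodule (Cyc.LocQuot x ξ h) (GV F h hs) := Submodule.span _ (Set.range (frVal h hs v'))
  haveI : Submodule.IsLattice (RK h) L' :=
    ⟨Submodule.fg_span (Set.finite_range _),
      top_unique ((frSpan h hs hv').ge.trans (Submodule.span_mono Submodule.subset_span))⟩
  have hmap : L'.map (ψ.restrictScalars (Cyc.LocQuot x ξ h)) = L := by
    rw [Submodule.map_span]
    congr 1
    ext y
    constructor
    · rintro ⟨_, ⟨i, rfl⟩, rfl⟩
      exact ⟨e i, (hψ i).symm⟩
    · rintro ⟨i, rfl⟩
      refine ⟨_, ⟨e.symm i, rfl⟩, ?_⟩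
      rw [LinearMap.restrictScalars_apply, hψ, Equiv.apply_symm_apply]
  have key := IntThLib.dist_map_eq_ordFrac_det (A := Cyc.LocQuot x ξ h) (K := RK h) L' ψ hdet
  rw [hmap] at key
  refine Eq.trans ?_ key
  have hsurj : Function.Surjective (algebraMap (X.presheaf.stalk x) (Cyc.LocQuot x ξ h)) :=
    Ideal.Quotient.mk_surjective
  have e1 : frLat h hs v = L.restrictScalars (X.presheaf.stalk x) :=
    (Submodule.restrictScalars_span (X.presheaf.stalk x) (Cyc.LocQuot x ξ h) hsurj _).symm
  have e2 : frLat h hs v' = L'.restrictScalars (X.presheaf.stalk x) :=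
    (Submodule.restrictScalars_span (X.presheaf.stalk x) (Cyc.LocQuot x ξ h) hsurj _).symm
  rw [e1, e2, IntThLib.dist, IntThLib.dist, ← relLen_restrictScalars hsurj L' (L' ⊓ L),
    ← relLen_restrictScalars hsurj L (L' ⊓ L)]
  rfl

/-- The change of lattice between two frames is the order of a determinant independent of the point. -/
theorem exists_det [IsLocallyNoetherian X] {δ : X → ℤ} (hd : Cyc.IsDimFun X δ) {ξ : X} (hs : KillAt F ξ)
    {v v' : Fr F ξ} (hv : IsFr F ξ v) (hv' : IsFr F ξ v') :
    ∃ f : X.residueField ξ, f ≠ 0 ∧ ∀ (x : X) (h : ξ ⤳ x), δ x + 1 = δ ξ →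
      IntThLib.dist (frLat h hs v') (frLat h hs v) = Cyc.ordAt x ξ h f := by
  classical
  have hn : v'.1 = v.1 := by exact_mod_cast hv'.2.trans hv.2.symm
  have hc : ∀ i, ∃ c : Fin v'.1 → X.presheaf.stalk ξ, ∑ j, c j • v'.2 j = v.2 (finCongr hn i) :=
    fun i => (Submodule.mem_span_range_iff_exists_fun _).1 (hv'.1 ▸ Submodule.mem_top)
  choose c hc using hc
  let C : Matrix (Fin v'.1) (Fin v'.1) (X.presheaf.stalk ξ) := Matrix.of c
  have main : ∀ (x : X) (h : ξ ⤳ x), ∃ ψ : GV F h hs →ₗ[RK h] GV F h hs,
      (∀ i, ψ (frVal h hs v' i) = frVal h hs v (finCongr hn i)) ∧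
        LinearMap.det ψ = (show RK h from X.residue ξ C.det) ∧ LinearMap.det ψ ≠ 0 := by
    intro x h
    let b := frBasis h hs hv
    let b' := frBasis h hs hv'
    let φ := b'.equiv b (finCongr hn)
    have hφ : ∀ i, φ.toLinearMap (frVal h hs v' i) = frVal h hs v (finCongr hn i) := fun i => by
      rw [← frBasis_apply h hs hv' i, LinearEquiv.coe_coe, Module.Basis.equiv_apply]
      exact frBasis_apply h hs hv _
    have hM : LinearMap.toMatrix b' b' φ.toLinearMap = (resMat h C).transpose := by
      ext i j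
      rw [LinearMap.toMatrix_apply, frBasis_apply, hφ, Matrix.transpose_apply]
      have : frVal h hs v (finCongr hn j) = ∑ k, resMat h C j k • b' k := by
        show toGV h hs (v.2 (finCongr hn j)) = _
        rw [← hc j, toGV_sum]
        exact Finset.sum_congr rfl fun k _ => by rw [frBasis_apply]; rfl
      rw [this, map_sum, Finset.sum_apply']
      simp [Finsupp.single_apply]
    refine ⟨φ.toLinearMap, hφ, ?_, (LinearEquiv.isUnit_det' φ).ne_zero⟩
    rw [← LinearMap.det_toMatrix b', hM, Matrix.det_transpose, det_resMat]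
  refine ⟨X.residue ξ C.det, ?_, fun x h hx => ?_⟩
  · obtain ⟨ψ, -, e, hne⟩ := main ξ (specializes_refl ξ)
    rw [e] at hne
    exact hne
  · obtain ⟨ψ, hψ, e, hne⟩ := main x h
    rw [dist_frLat h hs hd hx hv' ψ (finCongr hn) hψ hne, e]

end Groth.Agent.DevK
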