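import Groth.Agent.DevK.Sigma
import Groth.Agent.QCoh.God
import Groth.Agent.QCoh.Qcqs

/-! The sheaf of families of elements attached to a locally finite family of points. -/

set_option autoImplicit false
set_option linter.style.haveILetI false

universe u

open CategoryTheory CategoryTheory.Limits AlgebraicGeometry TopologicalSpace Opposite

namespace Groth.Agent.DevK

open Groth.Agent

variable {X : Scheme.{u}} {ι : Type u} {ξ : ι → X} (M : ∀ i, ModuleCat.{u} (X.presheaf.stalk (ξ i)))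

/-- A summand as a module over sections. -/
noncomputable abbrev vFiber (U : (X.Opens)ᵒᵖ) (i : {i // ξ i ∈ U.unop}) :
    ModuleCat.{u} ((X.sheaf.obj ⋙ forget₂ CommRingCat RingCat.{u}).obj U) :=
  (ModuleCat.restrictScalars (X.presheaf.germ U.unop (ξ i.1) i.2).hom).obj (M i.1)

/-- Families indexed by the points lying in an open. -/
noncomputable abbrev vObj (U : (X.Opens)ᵒᵖ) :
    ModuleCat.{u} ((X.sheaf.obj ⋙ forget₂ CommRingCat RingCat.{u}).obj U) :=
  ModuleCat.of _ (∀ i : {i // ξ i ∈ U.unop}, vFiber M U i)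

/-- The presheaf of families. -/
noncomputable def vP : CohB1.PMod X where
  obj := vObj M
  map {U V} j := ModuleCat.ofHom
    (Y := (ModuleCat.restrictScalars
      ((X.sheaf.obj ⋙ forget₂ CommRingCat RingCat.{u}).map j).hom).obj (vObj M V))
    { toFun := fun s i => (s ⟨i.1, j.unop.le i.2⟩ : M i.1)
      map_add' := fun _ _ => rfl
      map_smul' := fun r s => by
        funext i
        change X.presheaf.germ U.unop (ξ i.1) (j.unop.le i.2) r • (s ⟨i.1, j.unop.le i.2⟩ : M i.1) =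
          X.presheaf.germ V.unop (ξ i.1) i.2 (X.presheaf.map j r) • (s ⟨i.1, j.unop.le i.2⟩ : M i.1)
        exact congrArg (fun t => t • (s ⟨i.1, j.unop.le i.2⟩ : M i.1))
          (TopCat.Presheaf.germ_res_apply X.presheaf j.unop (ξ i.1) i.2 r).symm }
  map_id U := ModuleCat.hom_ext (LinearMap.ext fun _ => rfl)
  map_comp i j := ModuleCat.hom_ext (LinearMap.ext fun _ => rfl)

theorem isSheaf_vP : Presheaf.IsSheaf (Opens.grothendieckTopology X) (vP M).presheaf := by
  refine (TopCat.Presheaf.isSheaf_iff_isSheafUniqueGluing (X := X.toPresheafedSpace.carrier)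
    ((vP M).presheaf)).2 fun κ U sf hsf => ?_
  have hc : ∀ i : {i // ξ i ∈ iSup U}, ∃ k, ξ i.1 ∈ U k := fun i => Opens.mem_iSup.1 i.2
  choose k hk using hc
  refine ⟨(fun i => (sf (k i) ⟨i.1, hk i⟩ : M i.1) : ∀ i : {i // ξ i ∈ iSup U}, M i.1),
    fun a => funext fun i => ?_, fun t ht => funext fun i => ?_⟩
  · exact congrFun (hsf (k ⟨i.1, Opens.mem_iSup.2 ⟨a, i.2⟩⟩) a) ⟨i.1, ⟨hk _, i.2⟩⟩
  · exact congrFun (ht (k i)) ⟨i.1, hk i⟩

/-- The sheaf of families. -/
noncomputable def V : X.Modules where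
  val := vP M
  isSheaf := isSheaf_vP M

variable {M}

/-- The value of a section at an index. -/
noncomputable def vVal {U : X.Opens} (s : Γ(V M, U)) (i : ι) (h : ξ i ∈ U) : M i :=
  (show ∀ i : {i // ξ i ∈ U}, M i.1 from s) ⟨i, h⟩

theorem v_ext {U : X.Opens} {s t : Γ(V M, U)} (h : ∀ i (hi : ξ i ∈ U), vVal s i hi = vVal t i hi) : s = t :=
  funext fun i : {i // ξ i ∈ U} => h i.1 i.2

theorem vVal_res {U W : X.Opens} (j : W ⟶ U) (s : Γ(V M, U)) (i : ι) (h : ξ i ∈ W) :
    vVal ((V M).presheaf.map j.op s) i h = vVal s i (j.le h) := rfl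

theorem vVal_add {U : X.Opens} (s t : Γ(V M, U)) (i : ι) (h : ξ i ∈ U) :
    vVal (s + t) i h = vVal s i h + vVal t i h := rfl

theorem vVal_smul {U : X.Opens} (r : Γ(X, U)) (s : Γ(V M, U)) (i : ι) (h : ξ i ∈ U) :
    vVal (r • s) i h = X.presheaf.germ U (ξ i) h r • vVal s i h := rfl

theorem vVal_zero {U : X.Opens} (i : ι) (h : ξ i ∈ U) : vVal (0 : Γ(V M, U)) i h = 0 := rfl

/-- A section with prescribed values. -/
noncomputable def vMk {U : X.Opens} (v : ∀ i : {i // ξ i ∈ U}, M i.1) : Γ(V M, U) := v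

theorem vVal_vMk {U : X.Opens} (v : ∀ i : {i // ξ i ∈ U}, M i.1) (i : ι) (h : ξ i ∈ U) :
    vVal (vMk v) i h = v ⟨i, h⟩ := rfl

variable (M) in
/-- The morphism to the sheaf of families given by maps on stalks. -/
noncomputable def toV (H : X.Modules) (g : ∀ i, H.presheaf.stalk (ξ i) →ₗ[X.presheaf.stalk (ξ i)] M i) :
    H ⟶ V M :=
  ⟨PresheafOfModules.homMk
    { app := fun U => AddCommGrpCat.ofHom
        (AddMonoidHom.mk' (fun s : Γ(H, U.unop) =>
          (vMk (M := M) (fun i => g i.1 (H.presheaf.germ U.unop (ξ i.1) i.2 s)) : Γ(V M, U.unop)))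
          fun s t => v_ext (M := M) fun i hi => by
            exact (congrArg (g i) (map_add (H.presheaf.germ U.unop (ξ i) hi).hom s t)).trans (map_add _ _ _))
      naturality := fun {U W} j => AddCommGrpCat.hom_ext (AddMonoidHom.ext fun s =>
        v_ext (M := M) (U := W.unop) fun i hi =>
          congrArg (g i) (TopCat.Presheaf.germ_res_apply (F := H.presheaf) j.unop (ξ i) hi s)) }
    fun U r s => v_ext (M := M) (U := U.unop) fun i hi =>
      (congrArg (g i) (QCoh.germ_smul' H hi r s)).trans ((g i).map_smul _ _)⟩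

theorem vVal_toV {H : X.Modules} (g : ∀ i, H.presheaf.stalk (ξ i) →ₗ[X.presheaf.stalk (ξ i)] M i)
    {U : X.Opens} (s : Γ(H, U)) (i : ι) (hi : ξ i ∈ U) :
    vVal ((toV M H g).app U s) i hi = g i (H.presheaf.germ U (ξ i) hi s) := rfl

/-- The value at an index, on germs at any specialisation. -/
theorem exists_ev (i : ι) {x : X} (h : ξ i ⤳ x) :
    ∃ e : (V M).presheaf.stalk x →+ M i,
      (∀ (U : X.Opens) (hx : x ∈ U) (s : Γ(V M, U)),
        e ((V M).presheaf.germ U x hx s) = vVal s i (h.mem_open U.2 hx)) ∧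
      ∀ (r : X.presheaf.stalk x) (t : (V M).presheaf.stalk x),
        e (r • t) = X.presheaf.stalkSpecializes h r • e t := by
  have key : ∀ t : (V M).presheaf.stalk x, ∃! v : M i, ∃ (U : X.Opens) (hx : x ∈ U) (s : Γ(V M, U)),
      (V M).presheaf.germ U x hx s = t ∧ vVal s i (h.mem_open U.2 hx) = v := by
    intro t
    obtain ⟨U, hx, s, rfl⟩ := (V M).presheaf.exists_germ_eq t
    refine ⟨_, ⟨U, hx, s, rfl, rfl⟩, ?_⟩
    rintro v ⟨U', hx', s', e, rfl⟩
    obtain ⟨W, hxW, a, b, hW⟩ := (V M).presheaf.germ_eq x hx' hx s' s e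
    rw [← vVal_res a s' i (h.mem_open W.2 hxW), hW, vVal_res]
  choose e he huniq using key
  have hg : ∀ (U : X.Opens) (hx : x ∈ U) (s : Γ(V M, U)),
      e ((V M).presheaf.germ U x hx s) = vVal s i (h.mem_open U.2 hx) :=
    fun U hx s => (huniq _ _ ⟨U, hx, s, rfl, rfl⟩).symm
  have hadd : ∀ a b, e (a + b) = e a + e b := fun a b => by
    obtain ⟨U, hxU, s, rfl⟩ := (V M).presheaf.exists_germ_eq a
    obtain ⟨W, hxW, t, rfl⟩ := (V M).presheaf.exists_germ_eq b
    have hx : x ∈ U ⊓ W := ⟨hxU, hxW⟩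
    rw [← TopCat.Presheaf.germ_res_apply (F := (V M).presheaf) (homOfLE (inf_le_left : U ⊓ W ≤ U)) x hx s,
      ← TopCat.Presheaf.germ_res_apply (F := (V M).presheaf) (homOfLE (inf_le_right : U ⊓ W ≤ W)) x hx t,
      ← map_add, hg, hg, hg, vVal_add]
  refine ⟨AddMonoidHom.mk' e hadd, hg, fun r t => ?_⟩
  obtain ⟨U, hxU, s, rfl⟩ := (V M).presheaf.exists_germ_eq t
  obtain ⟨W, hxW, a, rfl⟩ := X.presheaf.exists_germ_eq r
  have hx : x ∈ U ⊓ W := ⟨hxU, hxW⟩
  show e _ = _ • e _
  rw [← TopCat.Presheaf.germ_res_apply (F := (V M).presheaf) (homOfLE (inf_le_left : U ⊓ W ≤ U)) x hx s,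
    ← X.presheaf.germ_res_apply (homOfLE (inf_le_right : U ⊓ W ≤ W)) x hx a, ← QCoh.germ_smul', hg, hg,
    vVal_smul, TopCat.Presheaf.germ_stalkSpecializes_apply]

/-- The value at an index, on germs at any specialisation. -/
noncomputable def ev (i : ι) {x : X} (h : ξ i ⤳ x) : (V M).presheaf.stalk x →+ M i :=
  (exists_ev i h).choose

theorem ev_germ (i : ι) {x : X} (h : ξ i ⤳ x) (U : X.Opens) (hx : x ∈ U) (s : Γ(V M, U)) :
    ev i h ((V M).presheaf.germ U x hx s) = vVal s i (h.mem_open U.2 hx) :=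
  (exists_ev i h).choose_spec.1 U hx s

theorem ev_smul (i : ι) {x : X} (h : ξ i ⤳ x) (r : X.presheaf.stalk x) (t : (V M).presheaf.stalk x) :
    ev i h (r • t) = X.presheaf.stalkSpecializes h r • ev (M := M) i h t :=
  (exists_ev i h).choose_spec.2 r t

theorem ev_toV {H : X.Modules} (g : ∀ i, H.presheaf.stalk (ξ i) →ₗ[X.presheaf.stalk (ξ i)] M i)
    (i : ι) {x : X} (h : ξ i ⤳ x) (t : H.presheaf.stalk x) :
    ev i h (((DerSch.stalkFunctor X x).map (toV M H g)).hom t) =
      g i (H.presheaf.stalkSpecializes h t) := by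
  obtain ⟨U, hx, s, rfl⟩ := H.presheaf.exists_germ_eq t
  have e : ((DerSch.stalkFunctor X x).map (toV M H g)).hom (H.presheaf.germ U x hx s) =
      (V M).presheaf.germ U x hx ((toV M H g).app U s) := CycLib.stalkAdd_germ (toV M H g) x hx s
  rw [e, ev_germ, vVal_toV]
  exact congrArg (g i) (TopCat.Presheaf.germ_stalkSpecializes_apply (F := H.presheaf) hx h s).symm

/-- The points are locally finite. -/
def LocFinPts (ξ : ι → X) : Prop := ∀ x : X, ∃ U : X.Opens, x ∈ U ∧ {i | ξ i ∈ U}.Finite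

theorem LocFinPts.finite_of_isCompact (hl : LocFinPts ξ) {U : X.Opens} (hU : IsCompact (U : Set X)) :
    {i | ξ i ∈ U}.Finite := by
  choose W hW hf using hl
  obtain ⟨t, ht⟩ := hU.elim_finite_subcover (fun x : X => (W x : Set X)) (fun x => (W x).2)
    fun x _ => Set.mem_iUnion.2 ⟨x, hW x⟩
  refine (t.finite_toSet.biUnion fun x _ => hf x).subset fun i hi => ?_
  obtain ⟨x, hx, hix⟩ := Set.mem_iUnion₂.1 (ht hi)
  exact Set.mem_biUnion hx hix

/-- Germs are determined by the values at the generalisations of the point. -/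
theorem stalk_ext (hl : LocFinPts ξ) {x : X} {t : (V M).presheaf.stalk x}
    (h : ∀ i (hi : ξ i ⤳ x), ev i hi t = 0) : t = 0 := by
  obtain ⟨U, hxU, s, rfl⟩ := (V M).presheaf.exists_germ_eq t
  obtain ⟨W, hxW, hfin⟩ := hl x
  let Bad : Set ι := {i | ξ i ∈ W ∧ ¬ ξ i ⤳ x}
  have hb : Bad.Finite := hfin.subset fun i hi => hi.1
  let C : Set X := ⋃ i ∈ Bad, closure {ξ i}
  have hC : IsClosed C := hb.isClosed_biUnion fun i _ => isClosed_closure
  let U' : X.Opens := U ⊓ W ⊓ ⟨Cᶜ, hC.isOpen_compl⟩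
  have hx : x ∈ U' := ⟨⟨hxU, hxW⟩, fun hc => by
    obtain ⟨i, hi, hxi⟩ := Set.mem_iUnion₂.1 hc
    exact hi.2 (specializes_iff_mem_closure.2 hxi)⟩
  rw [← TopCat.Presheaf.germ_res_apply (F := (V M).presheaf)
    (homOfLE (inf_le_left.trans inf_le_left : U' ≤ U)) x hx s]
  refine (congrArg _ (v_ext (M := M) (t := 0) fun i hi => ?_)).trans (map_zero _)
  have hsp : ξ i ⤳ x := by_contra fun hn =>
    hi.2 (Set.mem_biUnion (show i ∈ Bad from ⟨hi.1.2, hn⟩) (subset_closure rfl))
  rw [vVal_res, vVal_zero]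
  exact (ev_germ i hsp U hxU s).symm.trans (h i hsp)

/-- Quasi-coherence when every summand is killed by powers of the maximal ideal. -/
theorem isQCoh_V (hl : LocFinPts ξ)
    (hnil : ∀ i, ∀ r ∈ IsLocalRing.maximalIdeal (X.presheaf.stalk (ξ i)), ∀ m : M i, ∃ n : ℕ, r ^ n • m = 0) :
    Coh.IsQCoh (V M) := by
  classical
  refine QCoh.isQCoh_of_sections (fun U _ f s => ⟨0, ?_⟩) fun U hU f t ht => ?_
  · refine ⟨vMk (fun i => if hi : ξ i.1 ∈ X.basicOpen f then vVal s i.1 hi else 0), ?_⟩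
    rw [pow_zero, one_smul]
    refine v_ext (M := M) fun i hi => ?_
    rw [vVal_res, vVal_vMk, dif_pos hi]
  · have hfin := hl.finite_of_isCompact hU.isCompact
    have hn : ∀ i : {i // ξ i ∈ U}, ∃ n : ℕ, X.presheaf.germ U (ξ i.1) i.2 f ^ n • vVal t i.1 i.2 = 0 := by
      rintro ⟨i, hi⟩
      by_cases hb : ξ i ∈ X.basicOpen f
      · refine ⟨0, ?_⟩
        rw [pow_zero, one_smul]
        have := congrArg (fun v => vVal (M := M) v i hb) ht
        simpa [vVal_res, vVal_zero] using this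
      · exact hnil i _ ((IsLocalRing.mem_maximalIdeal _).2 fun hu => hb ((X.mem_basicOpen f _ hi).2 hu)) _
    haveI : Fintype {i // ξ i ∈ U} := hfin.fintype
    choose n hn using hn
    refine ⟨Finset.univ.sup n, v_ext (M := M) fun i hi => ?_⟩
    rw [vVal_smul, vVal_zero, map_pow]
    have hle : n ⟨i, hi⟩ ≤ Finset.univ.sup n := Finset.le_sup (Finset.mem_univ _)
    rw [← Nat.sub_add_cancel hle, pow_add, mul_smul, hn ⟨i, hi⟩, smul_zero]

/-- A finitely generated module of finite length over a local ring is killed by powers of the maximal ideal. -/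
theorem exists_pow_smul_eq_zero {R : Type u} [CommRing R] [IsLocalRing R] [IsNoetherianRing R] {N : Type u}
    [AddCommGroup N] [Module R N] (h : Module.length R N < ⊤) {r : R} (hr : r ∈ IsLocalRing.maximalIdeal R)
    (m : N) : ∃ n : ℕ, r ^ n • m = 0 := by
  have hfl := Module.length_ne_top_iff.1 h.ne
  obtain ⟨hnN, haN⟩ := isFiniteLength_iff_isNoetherian_isArtinian.1 hfl
  haveI := hnN
  haveI := haN
  let f : ℕ →o (Submodule R N)ᵒᵈ :=
    ⟨fun n => OrderDual.toDual (Ideal.span {r} ^ n • (⊤ : Submodule R N)),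
      fun a b hab => Submodule.smul_mono_left (Ideal.pow_le_pow_right hab)⟩
  obtain ⟨n, hn⟩ := IsArtinian.monotone_stabilizes f
  refine ⟨n, ?_⟩
  have h1 : (Ideal.span {r} ^ n • (⊤ : Submodule R N)) ≤
      Ideal.span {r} • (Ideal.span {r} ^ n • (⊤ : Submodule R N)) := by
    have : f n = f (n + 1) := hn (n + 1) n.le_succ
    rw [← Submodule.mul_smul, ← pow_succ']
    exact (OrderDual.toDual.injective this).le
  have h2 := Submodule.eq_bot_of_le_smul_of_le_jacobson_bot _ _ (IsNoetherian.noetherian _) h1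
    ((Ideal.span_singleton_le_iff_mem _).2 hr |>.trans (IsLocalRing.maximalIdeal_le_jacobson _))
  exact (Submodule.mem_bot R).1 (h2 ▸ Submodule.smul_mem_smul (Ideal.pow_mem_pow (Ideal.mem_span_singleton_self r) n)
    (Submodule.mem_top : m ∈ ⊤))

end Groth.Agent.DevK
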