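import Groth.Agent.DevK.Filtr
import Groth.Agent.DevK.VSheaf
import Groth.Agent.DevK.Closure

/-! Modules with support of bounded dimension: generic points, classes in the quotient group. -/

set_option autoImplicit false
set_option linter.style.haveILetI false
set_option backward.isDefEq.respectTransparency false
set_option backward.isDefEq.respectTransparency.types false

universe u

open CategoryTheory CategoryTheory.Limits AlgebraicGeometry TopologicalSpace Opposite

namespace Groth.Agent.DevK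

open Groth.Agent

variable {X : Scheme.{u}} {δ : X → ℤ}

theorem cls_cohLe (δ : X → ℤ) (k : ℤ) : Cls (Cyc.CohLe δ k) := cls_supp {x : X | δ x ≤ k}

theorem stalkMap_comp {A B C : X.Modules} (f : A ⟶ B) (g : B ⟶ C) (x : X)
    (t : (DerSch.stalkFunctor X x).obj A) :
    ((DerSch.stalkFunctor X x).map (f ≫ g)).hom t =
      ((DerSch.stalkFunctor X x).map g).hom (((DerSch.stalkFunctor X x).map f).hom t) := by
  rw [Functor.map_comp]; rfl

theorem stalkMap_zero {A B : X.Modules} (x : X) (t : (DerSch.stalkFunctor X x).obj A) :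
    ((DerSch.stalkFunctor X x).map (0 : A ⟶ B)).hom t = 0 := by
  rw [Functor.map_zero]; rfl

theorem not_nz_kernel {A B : X.Modules} (f : A ⟶ B) {y : X}
    (h : Function.Injective ((DerSch.stalkFunctor X y).map f).hom) : ¬ NZ (kernel f) y := by
  refine not_nontrivial_iff_subsingleton.2 (subsingleton_of_forall_eq 0 fun t => ?_)
  refine stalk_injective (kernel.ι f) y (h ?_)
  rw [← stalkMap_comp, kernel.condition, stalkMap_zero, map_zero, map_zero]

theorem not_nz_cokernel {A B : X.Modules} (f : A ⟶ B) {y : X}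
    (h : Function.Surjective ((DerSch.stalkFunctor X y).map f).hom) : ¬ NZ (cokernel f) y := by
  refine not_nontrivial_iff_subsingleton.2 (subsingleton_of_forall_eq 0 fun t => ?_)
  obtain ⟨s, rfl⟩ := stalk_surjective (cokernel.π f) y t
  obtain ⟨r, rfl⟩ := h s
  rw [← stalkMap_comp, cokernel.condition, stalkMap_zero]

section Quot

variable {a b : ℤ}

theorem toQ_ses {S : ShortComplex X.Modules} (hS : S.ShortExact) (h₁ : Cyc.CohLe δ a S.X₁)
    (h₂ : Cyc.CohLe δ a S.X₂) (h₃ : Cyc.CohLe δ a S.X₃) :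
    Cyc.toK0CohQuot δ a b S.X₂ = Cyc.toK0CohQuot δ a b S.X₁ + Cyc.toK0CohQuot δ a b S.X₃ := by
  rw [Cyc.toK0CohQuot, Cyc.toK0CohQuot, Cyc.toK0CohQuot, KZ.clSub_ses _ hS h₁ h₂ h₃]
  rfl

theorem toQ_small {G : X.Modules} (h : Cyc.CohLe δ b G) : Cyc.toK0CohQuot δ a b G = 0 :=
  (QuotientAddGroup.eq_zero_iff _).2 (AddSubgroup.subset_closure ⟨G, h, rfl⟩)

theorem toQ_congr {A B : X.Modules} (h : KZero.clSub (Cyc.CohLe δ a) A = KZero.clSub (Cyc.CohLe δ a) B) :
    Cyc.toK0CohQuot δ a b A = Cyc.toK0CohQuot δ a b B := congrArg QuotientAddGroup.mk h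

theorem toQ_hom_ext {G : Type*} [AddCommGroup G] {f g : Cyc.K0CohQuot δ a b →+ G}
    (h : ∀ F, Cyc.CohLe δ a F → f (Cyc.toK0CohQuot δ a b F) = g (Cyc.toK0CohQuot δ a b F)) : f = g :=
  QuotientAddGroup.addMonoidHom_ext _ (QuotientAddGroup.addMonoidHom_ext _
    (FreeAbelianGroup.lift_ext _ _ fun F => by
      have := h F.1 F.2
      rwa [Cyc.toK0CohQuot, KZ.clSub_of_prop _ F.2] at this))

variable [IsLocallyNoetherian X]

/-- A map which is bijective on stalks outside dimension `≤ b` preserves classes. -/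
theorem toQ_eq_of_bijective {F T : X.Modules} (hF : Cyc.CohLe δ a F) (hT : Cyc.CohLe δ a T) (u : F ⟶ T)
    (hu : ∀ y : X, b < δ y → (NZ F y ∨ NZ T y) → Function.Bijective ((DerSch.stalkFunctor X y).map u).hom) :
    Cyc.toK0CohQuot δ a b F = Cyc.toK0CohQuot δ a b T := by
  let I := kernel (cokernel.π u)
  let p : F ⟶ I := Abelian.factorThruImage u
  have cK := QCoh.isCoh_kernel hF.1 hT.1 u
  have cC := QCoh.isCoh_cokernel hF.1.1 hT.1 u
  have cI : Coh.IsCoh I := QCoh.isCoh_kernel hT.1 cC _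
  haveI : Epi p := inferInstanceAs (Epi (Abelian.factorThruImage u))
  have hK : Cyc.CohLe δ b (kernel u) := ⟨cK, fun y hy => not_lt.1 fun hb =>
    not_nz_kernel u (hu y hb (Or.inl (NZ.of_mono (kernel.ι u) hy))).1 hy⟩
  have hC : Cyc.CohLe δ b (cokernel u) := ⟨cC, fun y hy => not_lt.1 fun hb =>
    not_nz_cokernel u (hu y hb (Or.inr (NZ.of_epi (cokernel.π u) hy))).2 hy⟩
  have hI : Cyc.CohLe δ a I := (cls_cohLe δ a).quot p inferInstance cI hF
  have hKa : Cyc.CohLe δ a (kernel u) := (cls_cohLe δ a).sub (kernel.ι u) inferInstance cK hF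
  have hCa : Cyc.CohLe δ a (cokernel u) := (cls_cohLe δ a).quot (cokernel.π u) inferInstance cC hT
  have hs1 : (ShortComplex.mk (kernel.ι u) p (by
      rw [← cancel_mono (kernel.ι (cokernel.π u)), Category.assoc, zero_comp]
      exact (congrArg (kernel.ι u ≫ ·) (Abelian.image.fac u)).trans (kernel.condition u))).ShortExact :=
    .mk' (ShortComplex.exact_of_f_is_kernel _ (KernelFork.IsLimit.ofι _ _
      (fun x hx => kernel.lift u x (by
        rw [← Abelian.image.fac u, ← Category.assoc]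
        exact (congrArg (· ≫ kernel.ι (cokernel.π u)) hx).trans zero_comp))
      (fun x hx => kernel.lift_ι _ _ _) (fun x hx m hm => by
        rw [← cancel_mono (kernel.ι u), kernel.lift_ι]; exact hm))) inferInstance inferInstance
  have hs2 : (ShortComplex.mk (kernel.ι (cokernel.π u)) (cokernel.π u) (kernel.condition _)).ShortExact :=
    KZ.kerSeq_shortExact (cokernel.π u)
  have e1 := toQ_ses (b := b) hs1 hKa hF hI
  have e2 := toQ_ses (b := b) hs2 hI hT hCa
  rw [e1, e2, toQ_small hK, toQ_small hC, zero_add, add_zero]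

end Quot

section Gens

variable [IsLocallyNoetherian X] (hd : Cyc.IsDimFun X δ) {k : ℤ} {F : X.Modules}

include hd in
theorem length_lt_top_of_cohLe (hF : Cyc.CohLe δ k F) {x : X} (hx : k ≤ δ x) :
    Module.length (X.presheaf.stalk x) (F.presheaf.stalk x) < ⊤ :=
  CycLib.length_stalk_lt_top F hF.1 fun y hy hyx => CycLib.eq_of_delta_le hd hyx ((hF.2 y hy).trans hx)

include hd in
/-- The top-dimensional points of the support are locally finite. -/
theorem locFinPts_gens (hF : Cyc.CohLe δ k F) :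
    LocFinPts (Subtype.val : {x : X // δ x = k ∧ NZ F x} → X) := fun z => by
  obtain ⟨U, hU, hz, -⟩ := exists_isAffineOpen_mem_and_subset (x := z) (U := ⊤) trivial
  haveI : IsNoetherianRing Γ(X, U) := IsLocallyNoetherian.component_noetherian ⟨U, hU⟩
  haveI := QCoh.finite_sections hF.1 hU
  refine ⟨U, hz, ?_⟩
  let f : {i : {x : X // δ x = k ∧ NZ F x} | i.1 ∈ U} → Ideal Γ(X, U) :=
    fun i => (hU.primeIdealOf ⟨i.1.1, i.2⟩).asIdeal
  have hf : Function.Injective f := fun i j h => by
    have h' : hU.primeIdealOf ⟨i.1.1, i.2⟩ = hU.primeIdealOf ⟨j.1.1, j.2⟩ := PrimeSpectrum.ext h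
    have := congrArg (fun p => hU.fromSpec p) h'
    simp only [hU.fromSpec_primeIdealOf] at this
    exact Subtype.ext (Subtype.ext this)
  have hfin := (Module.annihilator Γ(X, U) Γ(F, U)).finite_minimalPrimes_of_isNoetherianRing
  refine Set.finite_coe_iff.1 ?_
  haveI := hfin.to_subtype
  refine Finite.of_injective (fun i => (⟨f i, ?_⟩ : (Module.annihilator Γ(X, U) Γ(F, U)).minimalPrimes))
    fun i j h => hf (congrArg Subtype.val h)
  obtain ⟨⟨x, hx, hnz⟩, hxU⟩ := i
  have hsupp : ∀ (y : X) (hy : y ∈ U), NZ F y ↔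
      Module.annihilator Γ(X, U) Γ(F, U) ≤ (hU.primeIdealOf ⟨y, hy⟩).asIdeal := fun y hy => by
    rw [NZ, ← not_subsingleton_iff_nontrivial]
    refine (QCoh.mem_moduleSupport_iff hF.1.1 hU hy).symm.trans ?_
    rw [Module.support_eq_zeroLocus, PrimeSpectrum.mem_zeroLocus, SetLike.coe_subset_coe]
  refine ⟨⟨(hU.primeIdealOf ⟨x, hxU⟩).isPrime, (hsupp x hxU).1 hnz⟩, fun q hq hle => ?_⟩
  obtain ⟨y, hy, hyq⟩ := QCoh.exists_point hU ⟨q, hq.1⟩
  have hny : NZ F y := (hsupp y hy).2 (by rw [hyq]; exact hq.2)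
  have hsp : y ⤳ x := by
    have h' := (VarDim.fromSpec_specializes_iff hU (hU.primeIdealOf ⟨y, hy⟩) (hU.primeIdealOf ⟨x, hxU⟩)).2
      (by rw [hyq]; exact hle)
    rwa [hU.fromSpec_primeIdealOf, hU.fromSpec_primeIdealOf] at h'
  have hyx : y = x := CycLib.eq_of_delta_le hd hsp (le_of_le_of_eq (hF.2 y hny) hx.symm)
  subst hyx
  show (hU.primeIdealOf ⟨y, hxU⟩).asIdeal ≤ q
  rw [hyq]

include hd in
theorem locFinPts_of_le {G : X.Modules} (hF : Cyc.CohLe δ k F) (h : ∀ x, δ x = k → NZ G x → NZ F x) :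
    LocFinPts (Subtype.val : {x : X // δ x = k ∧ NZ G x} → X) := fun z => by
  obtain ⟨U, hz, hfin⟩ := locFinPts_gens hd hF z
  refine ⟨U, hz, ?_⟩
  exact (hfin.preimage (f := fun i : {x : X // δ x = k ∧ NZ G x} =>
    (⟨i.1, i.2.1, h _ i.2.1 i.2.2⟩ : {x : X // δ x = k ∧ NZ F x}))
    fun a _ b _ e => Subtype.ext (congrArg (fun c => c.1) e)).subset fun i hi => hi

end Gens

section Semisimple

variable [IsLocallyNoetherian X] (hd : Cyc.IsDimFun X δ) {k : ℤ} {F : X.Modules}

/-- Stalks at the points of dimension `k` are killed by the maximal ideal. -/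
def SS (δ : X → ℤ) (k : ℤ) (F : X.Modules) : Prop :=
  ∀ x : X, δ x = k → ∀ r ∈ IsLocalRing.maximalIdeal (X.presheaf.stalk x), ∀ t : F.presheaf.stalk x, r • t = 0

/-- Semisimple objects of `CohLe`. -/
def cohSS (δ : X → ℤ) (k : ℤ) : ObjectProperty X.Modules := fun F => Cyc.CohLe δ k F ∧ SS δ k F

omit [IsLocallyNoetherian X] in
theorem cls_cohSS (δ : X → ℤ) (k : ℤ) : Cls (cohSS (X := X) δ k) where
  coh h := h.1.1
  sub f hf hA h := ⟨(cls_cohLe δ k).sub f hf hA h.1, fun x hx r hr t =>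
    stalk_injective f x (((DerSch.stalkFunctor X x).map f).hom.map_smul r t |>.trans
      ((h.2 x hx r hr _).trans (map_zero _).symm))⟩
  quot f hf hB h := ⟨(cls_cohLe δ k).quot f hf hB h.1, fun x hx r hr t => by
    obtain ⟨s, rfl⟩ := stalk_surjective f x t
    exact (((DerSch.stalkFunctor X x).map f).hom.map_smul r s).symm.trans
      ((congrArg _ (h.2 x hx r hr s)).trans (map_zero _))⟩
  sigma G hl h := ⟨(cls_cohLe δ k).sigma G hl fun i => (h i).1, fun x hx r hr t => by
    let S := DerSch.stalkFunctor X x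
    have e : (ModuleCat.ofHom (r • LinearMap.id) : S.obj (∐ G) ⟶ S.obj (∐ G)) = 0 := by
      refine Cofan.IsColimit.hom_ext (isColimitCofanMkObjOfIsColimit S G (Sigma.ι G) (coproductIsCoproduct G))
        _ _ fun i => ModuleCat.hom_ext (LinearMap.ext fun s => ?_)
      exact ((S.map (Sigma.ι G i)).hom.map_smul r s).symm.trans
        ((congrArg _ ((h i).2 x hx r hr s)).trans (map_zero _))
    exact congrArg (fun φ => φ.hom t) e⟩

include hd in
/-- Every module has a filtration with semisimple factors. -/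
theorem exists_fil_cohSS (hF : Cyc.CohLe δ k F) : ∃ A : Fil F, A.In (cohSS δ k) := by
  let J := (QCoh.annIdeal hF.1.1 hF.1.2).radical
  have hs : ∀ x : X, NZ F x → x ∈ J.support := fun x hx => by
    show x ∈ (QCoh.annIdeal hF.1.1 hF.1.2).radical.support
    rw [Scheme.IdealSheafData.support_radical]
    exact (not_subsingleton_iff_nontrivial.2 hx : x ∈ CohB1.support F)
  have hFs : supp {x : X | δ x ≤ k} F := hF
  refine ⟨powFil J hF.1 hs, fun n => ?_⟩
  obtain ⟨h1, h2⟩ := powFil_in (T := {x : X | δ x ≤ k}) J hFs hs n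
  refine ⟨h1, fun x hx r hr t => ?_⟩
  obtain ⟨V, hxV, a, rfl⟩ := X.presheaf.exists_germ_eq r
  obtain ⟨U, hU, hxU, hle⟩ := exists_isAffineOpen_mem_and_subset (x := x) (U := V) hxV
  have hUV : U ≤ V := hle
  rw [← X.presheaf.germ_res_apply (homOfLE hUV) x hxU a] at hr ⊢
  generalize X.presheaf.map (homOfLE hUV).op a = c at hr ⊢
  haveI := QCoh.finite_sections hF.1 hU
  obtain ⟨m, v, hv⟩ := Module.Finite.exists_fin (R := Γ(X, U)) (M := Γ(F, U))
  have hlen := length_lt_top_of_cohLe hd hF hx.ge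
  haveI : IsNoetherianRing (X.presheaf.stalk x) := inferInstance
  have key : ∀ i, ∃ (N : ℕ) (h : Γ(X, U)), x ∈ X.basicOpen h ∧ (h * c ^ N) • v i = 0 := fun i => by
    obtain ⟨N, hN⟩ := exists_pow_smul_eq_zero hlen hr (F.presheaf.germ U x hxU (v i))
    rw [← map_pow, ← QCoh.germ_smul'] at hN
    obtain ⟨h, hh, h0⟩ := (QCoh.germ_eq_zero_iff hF.1.1 hU hxU _).1 hN
    exact ⟨N, h, hh, by rw [mul_smul, h0]⟩
  choose N h hh hz using key
  let H : Γ(X, U) := ∏ i, h i
  have hH : IsUnit (X.presheaf.germ U x hxU H) := by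
    rw [map_prod]
    exact IsUnit.prod_univ_iff.2 fun i => (X.mem_basicOpen (h i) x hxU).1 (hh i)
  have hmem : H * c ∈ J.ideal ⟨U, hU⟩ := by
    show H * c ∈ (Module.annihilator Γ(X, U) Γ(F, U)).radical
    refine ⟨(∑ i, N i) + 1, Module.mem_annihilator.2 fun s => ?_⟩
    have hs' : s ∈ Submodule.span Γ(X, U) (Set.range v) := hv ▸ Submodule.mem_top
    induction hs' using Submodule.span_induction with
    | mem _ hm =>
      obtain ⟨i, rfl⟩ := hm
      obtain ⟨P, hP⟩ : h i ∣ H := Finset.dvd_prod_of_mem h (Finset.mem_univ i)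
      have hle : N i ≤ (∑ i, N i) := Finset.single_le_sum (fun j _ => Nat.zero_le _) (Finset.mem_univ i)
      obtain ⟨d, hd⟩ := Nat.le.dest hle
      have : (H * c) ^ ((∑ i, N i) + 1) = (P * H ^ (∑ i, N i) * c ^ (d + 1)) * (h i * c ^ N i) := by
        rw [← hd, mul_pow, hP]; ring
      rw [this, mul_smul, hz i, smul_zero]
    | zero => exact smul_zero _
    | add _ _ _ _ ha hb => rw [smul_add, ha, hb, add_zero]
    | smul _ _ _ ha => rw [smul_comm, ha, smul_zero]
  have h0 := h2 ⟨U, hU⟩ x hxU _ hmem t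
  rw [map_mul, mul_smul, hH.smul_eq_zero] at h0
  exact h0

/-- Modules killed by the maximal ideal with the same finite length are isomorphic. -/
theorem nonempty_equiv_of_length {R : Type u} [CommRing R] [IsLocalRing R] {M N : Type u} [AddCommGroup M]
    [Module R M] [AddCommGroup N] [Module R N]
    (hM : ∀ r ∈ IsLocalRing.maximalIdeal R, ∀ m : M, r • m = 0)
    (hN : ∀ r ∈ IsLocalRing.maximalIdeal R, ∀ m : N, r • m = 0)
    (h : Module.length R M = Module.length R N) (hfin : Module.length R M < ⊤) :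
    Nonempty (M ≃ₗ[R] N) := by
  let I := IsLocalRing.maximalIdeal R
  have tM : Module.IsTorsionBySet R M (I : Set R) := fun m r => hM r.1 r.2 m
  have tN : Module.IsTorsionBySet R N (I : Set R) := fun m r => hN r.1 r.2 m
  letI := tM.module
  letI := tN.module
  haveI := tM.isScalarTower (S := R)
  haveI := tN.isScalarTower (S := R)
  letI : Field (R ⧸ I) := Ideal.Quotient.field I
  have eM : Module.length R M = Module.length (R ⧸ I) M :=
    Module.length_eq_of_surjective (S := R) (R := R ⧸ I) Ideal.Quotient.mk_surjective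
  have eN : Module.length R N = Module.length (R ⧸ I) N :=
    Module.length_eq_of_surjective (S := R) (R := R ⧸ I) Ideal.Quotient.mk_surjective
  obtain ⟨hnM, -⟩ := isFiniteLength_iff_isNoetherian_isArtinian.1
    (Module.length_ne_top_iff.1 (eM ▸ hfin).ne)
  obtain ⟨hnN, -⟩ := isFiniteLength_iff_isNoetherian_isArtinian.1
    (Module.length_ne_top_iff.1 (eN ▸ h ▸ hfin).ne)
  haveI := hnM
  haveI := hnN
  rw [eM, eN, Module.length_eq_finrank, Module.length_eq_finrank, Nat.cast_inj] at h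
  exact ⟨(LinearEquiv.ofFinrankEq M N h).restrictScalars R⟩

end Semisimple

end Groth.Agent.DevK
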