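import Groth.Agent.DevK.Gen
import Groth.Agent.DevK.Ev
import Groth.Agent.H23.StalkPrimes
import Groth.Agent.H23.ZeroSec
import Groth.Agent.CycLib.Div

/-! Generic values of a semisimple module seen from a point of dimension `k`. -/

set_option autoImplicit false
set_option linter.style.haveILetI false
set_option backward.isDefEq.respectTransparency false
set_option backward.isDefEq.respectTransparency.types false

universe u

open CategoryTheory AlgebraicGeometry IsLocalRing

namespace Groth.Agent.DevK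

open Groth.Agent CDiv6 H23 StalkPrimes

variable {X : Scheme.{u}}

/-- The residue field at a generalisation, as an algebra over the local ring. -/
def RK {x ξ : X} (_ : ξ ⤳ x) : Type u := X.residueField ξ

noncomputable instance instFieldRK {x ξ : X} (h : ξ ⤳ x) : Field (RK h) :=
  inferInstanceAs (Field (X.residueField ξ))

noncomputable instance instAlgebraRK {x ξ : X} (h : ξ ⤳ x) : Algebra (X.presheaf.stalk x) (RK h) :=
  (Cyc.specMap x ξ h : X.presheaf.stalk x →+* RK h).toAlgebra

theorem algebraMap_RK {x ξ : X} (h : ξ ⤳ x) (r : X.presheaf.stalk x) :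
    algebraMap (X.presheaf.stalk x) (RK h) r = Cyc.specMap x ξ h r := rfl

/-- Killed by the maximal ideal at a point. -/
abbrev KillAt (F : X.Modules) (ξ : X) : Prop :=
  ∀ r ∈ IsLocalRing.maximalIdeal (X.presheaf.stalk ξ), ∀ t : F.presheaf.stalk ξ, r • t = 0

/-- The generic values. -/
def GV (F : X.Modules) {x ξ : X} (_ : ξ ⤳ x) (_ : KillAt F ξ) : Type u := F.presheaf.stalk ξ

variable (F : X.Modules) {x ξ : X} (h : ξ ⤳ x) (hs : KillAt F ξ)

noncomputable instance instAddCommGroupGV : AddCommGroup (GV F h hs) :=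
  inferInstanceAs (AddCommGroup (F.presheaf.stalk ξ))

/-- The module over the local ring of the point itself. -/
noncomputable instance instModuleStalkGV : Module (X.presheaf.stalk ξ) (GV F h hs) :=
  inferInstanceAs (Module (X.presheaf.stalk ξ) (F.presheaf.stalk ξ))

noncomputable instance instModuleGV : Module (X.presheaf.stalk x) (GV F h hs) :=
  Module.compHom _ (X.presheaf.stalkSpecializes h).hom

noncomputable instance instModuleRKGV : Module (RK h) (GV F h hs) :=
  letI h' : Module.IsTorsionBySet (X.presheaf.stalk ξ) (GV F h hs)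
      (IsLocalRing.maximalIdeal (X.presheaf.stalk ξ) : Set (X.presheaf.stalk ξ)) := fun t r => hs r.1 r.2 t
  letI : Module (X.presheaf.stalk ξ ⧸ IsLocalRing.maximalIdeal (X.presheaf.stalk ξ)) (GV F h hs) := h'.module
  inferInstanceAs (Module (X.presheaf.stalk ξ ⧸ IsLocalRing.maximalIdeal (X.presheaf.stalk ξ)) (GV F h hs))

theorem residue_smul (r : X.presheaf.stalk ξ) (t : GV F h hs) :
    (show RK h from X.residue ξ r) • t = r • t := rfl

instance instTowerGV : IsScalarTower (X.presheaf.stalk x) (RK h) (GV F h hs) :=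
  IsScalarTower.of_algebraMap_smul fun _ _ => rfl

/-- The map to a generic value. -/
noncomputable def gmap : F.presheaf.stalk x →ₗ[X.presheaf.stalk x] GV F h hs where
  toFun := F.presheaf.stalkSpecializes h
  map_add' := map_add _
  map_smul' r m := ZeroSec.stalkSpecializes_smul F h r m

variable {F}

theorem exists_smul_eq_gmap (hF : Coh.IsQCoh F) (y : F.presheaf.stalk ξ) :
    ∃ (t : F.presheaf.stalk x) (s : X.presheaf.stalk x), IsUnit (X.presheaf.stalkSpecializes h s) ∧
      X.presheaf.stalkSpecializes h s • y = F.presheaf.stalkSpecializes h t := by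
  obtain ⟨U, hU, hx, -⟩ := exists_isAffineOpen_mem_and_subset (x := x) (U := ⊤) trivial
  have hξ : ξ ∈ U := h.mem_open U.2 hx
  letI := QCoh.stalkModule F hξ
  haveI := QCoh.isLocalizedModule_germLin hF hU hξ
  obtain ⟨⟨m, a⟩, ha⟩ := IsLocalizedModule.surj (hU.primeIdealOf ⟨ξ, hξ⟩).asIdeal.primeCompl
    (QCoh.germLin F hξ) y
  refine ⟨F.presheaf.germ U x hx m, X.presheaf.germ U x hx a, ?_, ?_⟩
  · rw [TopCat.Presheaf.germ_stalkSpecializes_apply]
    exact (X.mem_basicOpen _ ξ hξ).1 ((QCoh.mem_basicOpen_iff_notMem hU hξ _).2 a.2)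
  · rw [TopCat.Presheaf.germ_stalkSpecializes_apply]
    erw [TopCat.Presheaf.germ_stalkSpecializes_apply]
    exact ha

theorem exists_smul_eq_zero_of_spec (hF : Coh.IsQCoh F) (t : F.presheaf.stalk x)
    (ht : F.presheaf.stalkSpecializes h t = 0) :
    ∃ s : X.presheaf.stalk x, IsUnit (X.presheaf.stalkSpecializes h s) ∧ s • t = 0 := by
  obtain ⟨U, hU, hx, -⟩ := exists_isAffineOpen_mem_and_subset (x := x) (U := ⊤) trivial
  have hξ : ξ ∈ U := h.mem_open U.2 hx
  letI := QCoh.stalkModule F hx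
  haveI := QCoh.isLocalizedModule_germLin hF hU hx
  obtain ⟨⟨m, b⟩, hb⟩ := IsLocalizedModule.surj (hU.primeIdealOf ⟨x, hx⟩).asIdeal.primeCompl
    (QCoh.germLin F hx) t
  have hb' : X.presheaf.germ U x hx b • t = F.presheaf.germ U x hx m := hb
  have hub : IsUnit (X.presheaf.germ U x hx b) :=
    (X.mem_basicOpen _ x hx).1 ((QCoh.mem_basicOpen_iff_notMem hU hx _).2 b.2)
  have h0 : F.presheaf.germ U ξ hξ m = 0 := by
    rw [← TopCat.Presheaf.germ_stalkSpecializes_apply (F := F.presheaf) hx h, ← hb',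
      ZeroSec.stalkSpecializes_smul, ht, smul_zero]
  obtain ⟨c, hc, hcm⟩ := (QCoh.germ_eq_zero_iff hF hU hξ m).1 h0
  refine ⟨X.presheaf.germ U x hx c, ?_, ?_⟩
  · rw [TopCat.Presheaf.germ_stalkSpecializes_apply]
    exact (X.mem_basicOpen c ξ hξ).1 hc
  · rw [← hub.smul_eq_zero, smul_comm, hb', ← QCoh.germ_smul', hcm, map_zero]

theorem algebraMap_ne_zero_iff (r : X.presheaf.stalk x) :
    algebraMap (X.presheaf.stalk x) (RK h) r ≠ 0 ↔ IsUnit (X.presheaf.stalkSpecializes h r) :=
  IsLocalRing.residue_ne_zero_iff_isUnit _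

theorem ker_algebraMap_RK :
    RingHom.ker (algebraMap (X.presheaf.stalk x) (RK h)) = (primeOf h).asIdeal := by
  ext r
  rw [RingHom.mem_ker, mem_primeOf, ← algebraMap_ne_zero_iff h r, not_not]

theorem exists_frac (z : RK h) : ∃ a b : X.presheaf.stalk x,
    algebraMap (X.presheaf.stalk x) (RK h) b ≠ 0 ∧
      z * algebraMap (X.presheaf.stalk x) (RK h) b = algebraMap (X.presheaf.stalk x) (RK h) a := by
  obtain ⟨g, rfl⟩ := X.residue_surjective ξ z
  letI := (X.presheaf.stalkSpecializes h).hom.toAlgebra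
  haveI := isLocalization_primeOf h
  obtain ⟨⟨a, b⟩, hab⟩ := IsLocalization.surj (primeOf h).asIdeal.primeCompl g
  refine ⟨a, b, (algebraMap_ne_zero_iff h b.1).2 ?_, ?_⟩
  · exact IsLocalization.map_units (X.presheaf.stalk ξ) b
  · exact (map_mul (X.residue ξ).hom g _).symm.trans (congrArg (X.residue ξ).hom hab)

variable [IsLocallyNoetherian X] {δ : X → ℤ} (hd : Cyc.IsDimFun X δ) {k : ℤ}

include hd in
omit [IsLocallyNoetherian X] in
theorem eq_of_spec {y : X} (hk : δ x = k) (hy : y ⤳ x) (hyx : y ≠ x) (hξ : δ ξ = k + 1) (hξy : ξ ⤳ y) :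
    ξ = y := by
  have := CycLib.delta_lt hd hy hyx
  exact CycLib.eq_of_delta_le hd hξy (by omega)

include hd in
theorem branches_RK {J : Type u} (p : J → X) (hp : Function.Injective p) (hJ : ∀ j, p j ⤳ x)
    (hk : δ x = k) (hdim : ∀ j, δ (p j) = k + 1) :
    Branches (X.presheaf.stalk x) (fun j => RK (hJ j)) where
  frac j z := exists_frac (hJ j) z
  dim j q hq hqm hle := by
    obtain ⟨y, hy, rfl⟩ := exists_point q
    rw [ker_algebraMap_RK] at hle ⊢
    have hyx : y ≠ x := fun e => hqm (by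
      subst e
      ext r
      rw [mem_primeOf, IsLocalRing.mem_maximalIdeal, mem_nonunits_iff, TopCat.Presheaf.stalkSpecializes_refl]
      rfl)
    have e := eq_of_spec hd hk hy hyx (hdim j) ((primeOf_le_iff hy (hJ j)).1 hle)
    congr 2
    · exact e.symm
  distinct i j hle := by
    rw [ker_algebraMap_RK, ker_algebraMap_RK] at hle
    exact hp (CycLib.eq_of_delta_le hd ((primeOf_le_iff (hJ j) (hJ i)).1 hle)
      ((hdim i).le.trans (hdim j).ge))

include hd in
omit [IsLocallyNoetherian X] in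
theorem genMap_gmap {J : Type u} (p : J → X) (hJ : ∀ j, p j ⤳ x) (hk : δ x = k)
    (hF : Cyc.CohLe δ (k + 1) F) (hkill : ∀ j, KillAt F (p j))
    (hcov : ∀ y : X, y ⤳ x → δ y = k + 1 → NZ F y → ∃ j, p j = y) :
    GenMap (R := X.presheaf.stalk x) (W := fun j => GV F (hJ j) (hkill j)) (fun j => RK (hJ j))
      (F.presheaf.stalk x) (fun j => gmap F (hJ j) (hkill j)) where
  fin := QCoh.finite_stalk_of_isFT hF.1.1 hF.1.2 x
  span j := by
    refine eq_top_iff.2 fun y _ => ?_
    obtain ⟨t, s, hu, hst⟩ := exists_smul_eq_gmap (hJ j) hF.1.1 y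
    have hne : (algebraMap (X.presheaf.stalk x) (RK (hJ j)) s) ≠ 0 := (algebraMap_ne_zero_iff _ s).2 hu
    have hmem : (algebraMap (X.presheaf.stalk x) (RK (hJ j)) s) • (y : GV F (hJ j) (hkill j)) ∈
        Submodule.span (RK (hJ j)) (Set.range (gmap F (hJ j) (hkill j))) := by
      rw [algebraMap_smul]
      exact Submodule.subset_span ⟨t, hst.symm⟩
    rwa [Submodule.smul_mem_iff _ hne] at hmem
  ker j t ht := by
    obtain ⟨s, hu, hst⟩ := exists_smul_eq_zero_of_spec (hJ j) hF.1.1 t ht
    exact ⟨s, (algebraMap_ne_zero_iff _ s).2 hu, hst⟩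
  supp q hq hqm hne t := by
    obtain ⟨y, hy, rfl⟩ := exists_point q
    have hyx : y ≠ x := fun e => hqm (by
      subst e
      ext r
      rw [mem_primeOf, IsLocalRing.mem_maximalIdeal, mem_nonunits_iff, TopCat.Presheaf.stalkSpecializes_refl]
      rfl)
    have hnz : ¬ NZ F y := fun hn => by
      have h1 := CycLib.delta_lt hd hy hyx
      have h2 := hF.2 y hn
      obtain ⟨j, rfl⟩ := hcov y hy (by omega) hn
      exact hne j (ker_algebraMap_RK _).symm
    haveI : Subsingleton (F.presheaf.stalk y) := not_nontrivial_iff_subsingleton.1 hnz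
    obtain ⟨s, hu, hst⟩ := exists_smul_eq_zero_of_spec hy hF.1.1 t (Subsingleton.elim _ _)
    exact ⟨s, fun hm => (mem_primeOf hy s).1 hm hu, hst⟩

end Groth.Agent.DevK
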