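import Groth.Agent.DevK.ChiDeg
import Groth.Agent.DevK.C1
import Groth.Agent.H23.C1Cycle
import Groth.Agent.H23.PicInv
import Groth.Agent.IntNum47.Basic
import Groth.Agent.VarDim.Fibre
import Groth.Agent.S1899

/-! Intersection numbers are degrees of iterated caps with first Chern classes. -/

set_option autoImplicit false
set_option linter.style.haveILetI false
set_option backward.isDefEq.respectTransparency false
set_option backward.isDefEq.respectTransparency.types false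

universe u

open CategoryTheory CategoryTheory.Limits AlgebraicGeometry

noncomputable section

namespace Groth.Agent.DevK

open Groth.Agent Groth.Agent.HilbPoly

section Cycles

variable {X : Scheme.{u}} [IsLocallyNoetherian X] {δ : X → ℤ} (hd : Cyc.IsDimFun X δ) {j : ℤ}

/-- The class of a coefficient function. -/
abbrev eCls (δ : X → ℤ) (a b : ℤ) (c : X → ℤ) : Cyc.K0CohQuot δ a b :=
  Cyc.toK0CohQuot δ a b (Cyc.cycleSheafPos c) - Cyc.toK0CohQuot δ a b (Cyc.cycleSheafNeg c)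

include hd in
theorem psi_eCls {ψ : Cyc.K0CohQuot δ j (j - 1) →+ (X → ℤ)}
    (hψ : ∀ F : X.Modules, Cyc.CohLe δ j F → ψ (Cyc.toK0CohQuot δ j (j - 1) F) = Cyc.sheafFun δ j F)
    {c : X → ℤ} (hc : IsCoef δ j c) : ψ (eCls δ j (j - 1) c) = c := by
  rw [map_sub, hψ _ (cohLe_pos hd hc), hψ (Cyc.cycleSheafNeg c) (cohLe_pos hd hc.neg),
    sheafFun_pos_sub_neg hd hc]

include hd in
theorem eCls_sub {c c₁ c₂ : X → ℤ} (hc : IsCoef δ j c) (h₁ : IsCoef δ j c₁) (h₂ : IsCoef δ j c₂)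
    (h : c = c₁ - c₂) : eCls δ j (j - 1) c = eCls δ j (j - 1) c₁ - eCls δ j (j - 1) c₂ := by
  obtain ⟨ψ, hψ, hinj⟩ := exists_psi hd j
  refine hinj ?_
  rw [map_sub ψ (eCls δ j (j - 1) c₁), psi_eCls hd hψ hc, psi_eCls hd hψ h₁, psi_eCls hd hψ h₂, h]

include hd in
theorem eCls_sheafFun {F : X.Modules} (hF : Cyc.CohLe δ j F) :
    eCls δ j (j - 1) (Cyc.sheafFun δ j F) = Cyc.toK0CohQuot δ j (j - 1) F := by
  obtain ⟨ψ, hψ, hinj⟩ := exists_psi hd j
  exact hinj (by rw [psi_eCls hd hψ (isCoef_sheafFun hd hF), hψ F hF])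

variable {L : X.Modules} (hL : PicF.IsInvertible L)

include hd hL in
theorem isCoef_c1Cap {a : X → ℤ} (ha : IsCoef δ (j + 1) a) {s : (ξ : X) → Cyc.secFibre L ξ} (hs : ∀ ξ, s ξ ≠ 0) :
    IsCoef δ j (Cyc.c1CapFun δ L a s) := by
  refine isCoef_of_mem_Zk (α := H23.RatSec.c1CapCycle hL hd ha.cycle s hs) fun x hx => ?_
  show Cyc.c1CapFun δ L a s x = 0
  refine finsum_eq_zero_of_forall_eq_zero fun ξ => ?_
  by_cases hξ : a ξ = 0
  · rw [hξ, zero_mul]
  · have := ha.1 ξ hξ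
    rw [Cyc.secDivFun, dif_neg (fun h => hx (by have := h.2; omega)), mul_zero]

omit [IsLocallyNoetherian X] in
theorem c1CapFun_sub {a b : X → ℤ} (ha : IsCoef δ (j + 1) a) (hb : IsCoef δ (j + 1) b)
    (s : (ξ : X) → Cyc.secFibre L ξ) :
    Cyc.c1CapFun δ L (a - b) s = Cyc.c1CapFun δ L a s - Cyc.c1CapFun δ L b s := by
  funext x
  have hfin : ∀ {c : X → ℤ}, IsCoef δ (j + 1) c →
      (Function.support fun ξ : X => c ξ * Cyc.secDivFun δ L ξ (s ξ) x).Finite := fun hc =>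
    H23.RatSec.finite_support_c1Cap (fun z => by
      obtain ⟨U, hz, hf⟩ := hc.2 z
      exact ⟨U, U.2.mem_nhds hz, hf⟩) s x
  show ∑ᶠ ξ, (a ξ - b ξ) * Cyc.secDivFun δ L ξ (s ξ) x = _
  simp only [sub_mul]
  exact finsum_sub_distrib (hfin ha) (hfin hb)

include hd in
theorem exists_hom_of_additive [IsNoetherian X] {φ : X.Modules → ℤ} (hφ : Additive φ)
    (h0 : ∀ G : X.Modules, Cyc.CohLe δ (j - 1) G → φ G = 0) :
    ∃ χ : Cyc.K0CohQuot δ j (j - 1) →+ ℤ,
      ∀ F : X.Modules, Cyc.CohLe δ j F → χ (Cyc.toK0CohQuot δ j (j - 1) F) = φ F := by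
  obtain ⟨g, hg⟩ := KZ.exists_liftSub (Cyc.CohLe δ j) φ fun S hS a b c => hφ.add S hS a.1 b.1 c.1
  refine ⟨QuotientAddGroup.lift _ g ?_, fun F hF => hg F hF⟩
  rw [AddSubgroup.closure_le]
  rintro c ⟨F, hF, rfl⟩
  rw [SetLike.mem_coe, AddMonoidHom.mem_ker, hg F ⟨hF.1, fun y hy => (hF.2 y hy).trans (by omega)⟩]
  exact h0 F hF

end Cycles

variable {k : Type u} [Field k] {X : Scheme.{u}} [X.Over (Spec (CommRingCat.of k))]
  [IsProper (X ↘ Spec (CommRingCat.of k))] {δ : X → ℤ}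

theorem dimLT_of_cohLe [IsLocallyNoetherian X] (hd : Cyc.IsDimFun X δ)
    (hc : Cyc.DeltaCompat (X ↘ Spec (CommRingCat.of k)) δ (fun _ => 0)) {j : ℕ} {F : X.Modules}
    (hF : Cyc.CohLe δ ((j : ℤ) - 1) F) : DimLT F j := by
  classical
  haveI := CurveCohLib.isNoetherian' (k := k) (X := X)
  have hclosed : IsClosed (CohB1.support F) := QCoh.isClosed_support_of_isFT hF.1.1 hF.1.2
  haveI : QuasiSober ↥(CohB1.support F) := hclosed.isClosedEmbedding_subtypeVal.quasiSober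
  have hb : ∀ x ∈ CohB1.support F, 0 ≤ δ x ∧ δ x ≤ (j : ℤ) - 1 := fun x hx =>
    ⟨delta_nonneg hc x, hF.2 x (not_subsingleton_iff_nontrivial.1 hx)⟩
  rcases Nat.eq_zero_or_pos j with rfl | hj
  · have he : CohB1.support F = ∅ := Set.eq_empty_iff_forall_notMem.2 fun x hx => by
      have := hb x hx
      omega
    haveI : IsEmpty ↥(CohB1.support F) := by rw [he]; infer_instance
    haveI : IsEmpty (TopologicalSpace.IrreducibleCloseds ↥(CohB1.support F)) :=
      ⟨fun C => isEmptyElim C.isIrreducible.nonempty.some⟩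
    show topologicalKrullDim ↥(CohB1.support F) < _
    rw [topologicalKrullDim, Order.krullDim_eq_bot]
    exact WithBot.bot_lt_coe _
  let f : TopologicalSpace.IrreducibleCloseds ↥(CohB1.support F) → Fin j := fun C =>
    ⟨(δ (C.isIrreducible.genericPoint : ↥(CohB1.support F)).1).toNat, by
      have := hb _ (C.isIrreducible.genericPoint : ↥(CohB1.support F)).2
      omega⟩
  have hf : StrictMono f := by
    intro C C' hlt
    set g := C.isIrreducible.genericPoint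
    set g' := C'.isIrreducible.genericPoint
    have hg : closure ({g} : Set ↥(CohB1.support F)) = C := by
      rw [C.isIrreducible.genericPoint_closure_eq, C.isClosed.closure_eq]
    have hg' : closure ({g'} : Set ↥(CohB1.support F)) = C' := by
      rw [C'.isIrreducible.genericPoint_closure_eq, C'.isClosed.closure_eq]
    have hsp : g' ⤳ g := specializes_iff_mem_closure.2 (by
      rw [hg']
      refine hlt.le ?_
      rw [← SetLike.mem_coe, ← hg]
      exact subset_closure rfl)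
    have hsp' : g'.1 ⤳ g.1 := hsp.map continuous_subtype_val
    have hle := CycLib.delta_le hd hsp'
    have hne : δ g.1 ≠ δ g'.1 := fun he => by
      have h2 : g'.1 = g.1 := CycLib.eq_of_delta_le hd hsp' he.ge
      have h3 : g' = g := Subtype.ext h2
      refine hlt.ne (TopologicalSpace.IrreducibleCloseds.ext ?_)
      rw [← hg, ← hg', h3]
    have h1 := hb _ g.2
    rw [Fin.lt_def]
    show (δ g.1).toNat < (δ g'.1).toNat
    omega
  refine lt_of_le_of_lt (Order.krullDim_le_of_strictMono f hf) ?_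
  obtain ⟨m, rfl⟩ : ∃ m, j = m + 1 := ⟨j - 1, by omega⟩
  refine lt_of_le_of_lt (iSup_le fun l : LTSeries (Fin (m + 1)) => ?_) (WithBot.coe_lt_coe.2
    (by exact_mod_cast Nat.lt_succ_self m : (m : ℕ∞) < ((m + 1 : ℕ) : ℕ∞)))
  have := Fintype.card_le_of_injective l l.strictMono.injective
  simp only [Fintype.card_fin] at this
  exact_mod_cast (by omega : l.length ≤ m)

variable (k) in
/-- Iterated differences evaluate cycles by iterated caps. -/
theorem iterD_eCls [IsLocallyNoetherian X] (hd : Cyc.IsDimFun X δ)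
    (hc : Cyc.DeltaCompat (X ↘ Spec (CommRingCat.of k)) δ (fun _ => 0)) :
    ∀ {j : ℕ} (L M : Fin j → X.Modules), (∀ i, PicF.IsInvertible (L i)) → (∀ i, PicF.IsInvertible (M i)) →
      (∀ i, Nonempty (CohB1.tensorMod (M i) (L i) ≅ Coh.structureModule X)) →
      ∀ (s : (i : Fin j) → (ξ : X) → Cyc.secFibre (L i) ξ), (∀ i ξ, s i ξ ≠ 0) →
      ∀ (γ : ℕ → X → ℤ), IsCoef δ j (γ 0) →
      (∀ (i : ℕ) (h : i < j), γ (i + 1) = Cyc.c1CapFun δ (L ⟨i, h⟩) (γ i) (s ⟨i, h⟩)) →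
      ∀ χ : Cyc.K0CohQuot δ (j : ℤ) ((j : ℤ) - 1) →+ ℤ,
      (∀ F : X.Modules, Cyc.CohLe δ j F → χ (Cyc.toK0CohQuot δ (j : ℤ) ((j : ℤ) - 1) F) =
        (-1) ^ j * iterD (List.ofFn M) (Curv2.euler k X) F) →
      χ (eCls δ (j : ℤ) ((j : ℤ) - 1) (γ 0)) =
        ∑ᶠ x : X, ((X ↘ Spec (CommRingCat.of k)).residueDegree x : ℤ) * γ j x := by
  haveI := CurveCohLib.isNoetherian' (k := k) (X := X)
  intro j
  induction j with
  | zero =>
    intro L M hL hM hLM s hs γ hγ0 hγs χ hχ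
    have hp : Cyc.CohLe δ ((0 : ℕ) : ℤ) (Cyc.cycleSheafPos (γ 0)) := cohLe_pos hd hγ0
    have hn : Cyc.CohLe δ ((0 : ℕ) : ℤ) (Cyc.cycleSheafNeg (γ 0)) := cohLe_pos hd hγ0.neg
    have e := sheafFun_pos_sub_neg hd hγ0
    have hfin : ∀ {G : X.Modules}, Cyc.CohLe δ ((0 : ℕ) : ℤ) G →
        (Function.support fun x => ((X ↘ Spec (CommRingCat.of k)).residueDegree x : ℤ) *
          Cyc.sheafFun δ ((0 : ℕ) : ℤ) G x).Finite := fun {G} hG => by
      have h1 := (locFinPts_gens hd hG).finite_of_isCompact (U := ⊤) (CompactSpace.isCompact_univ)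
      refine (h1.image Subtype.val).subset fun x hx => ?_
      have hne : Cyc.sheafFun δ ((0 : ℕ) : ℤ) G x ≠ 0 := right_ne_zero_of_mul hx
      unfold Cyc.sheafFun at hne
      split_ifs at hne with hx0
      · refine ⟨⟨x, hx0, not_subsingleton_iff_nontrivial.1 fun hs => hne ?_⟩, trivial, rfl⟩
        haveI : Subsingleton (G.presheaf.stalk x) := hs
        rw [Module.length_eq_zero]
        rfl
      · exact absurd rfl hne
    rw [map_sub, hχ _ hp, hχ _ hn, pow_zero, one_mul, one_mul]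
    show Curv2.euler k X _ - Curv2.euler k X _ = _
    simp only [Nat.cast_zero] at hp hn hfin e
    rw [euler_eq_sum_residueDegree hd hc hp, euler_eq_sum_residueDegree hd hc hn,
      ← finsum_sub_distrib (hfin hp) (hfin hn)]
    refine finsum_congr fun x => ?_
    rw [← mul_sub]
    exact congrArg _ (congrFun e x)
  | succ j ih =>
    intro L M hL hM hLM s hs γ hγ0 hγs χ hχ
    rw [show ((j + 1 : ℕ) : ℤ) = (j : ℤ) + 1 by push_cast; ring] at hγ0
    let L' : Fin j → X.Modules := fun i => L i.succ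
    let M' : Fin j → X.Modules := fun i => M i.succ
    have hall := IntNum47.forall_mem_ofFn (M := M') fun i => hM i.succ
    have hadd : Additive fun F => (-1 : ℤ) ^ j * iterD (List.ofFn M') (Curv2.euler k X) F := by
      have h := additive_iterD (additive_euler k) hall
      exact ⟨fun A B e => congrArg _ (h.iso A B e), fun S hS a b c => by
        show _ * _ = _ * _ + _ * _
        rw [h.add S hS a b c, mul_add]⟩
    obtain ⟨χ', hχ'⟩ := exists_hom_of_additive hd (j := (j : ℤ)) hadd fun G hG => by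
      rw [iterD_eq_zero j (additive_euler k) _ List.length_ofFn hall G hG.1 (dimLT_of_cohLe hd hc hG), mul_zero]
    set P := Cyc.cycleSheafPos (γ 0)
    set N := Cyc.cycleSheafNeg (γ 0)
    have hP : Cyc.CohLe δ ((j : ℤ) + 1) P := cohLe_pos hd hγ0
    have hN : Cyc.CohLe δ ((j : ℤ) + 1) N := cohLe_pos hd hγ0.neg
    have hγ1 : γ 1 = Cyc.c1CapFun δ (L 0) (γ 0) (s 0) := hγs 0 (Nat.succ_pos j)
    have hc1 : IsCoef δ (j : ℤ) (γ 1) := by
      rw [hγ1]
      exact isCoef_c1Cap hd (hL 0) hγ0 (hs 0)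
    have hih := ih L' M' (fun i => hL i.succ) (fun i => hM i.succ) (fun i => hLM i.succ) (fun i => s i.succ)
      (fun i => hs i.succ) (fun i => γ (i + 1)) hc1 (fun i h => hγs (i + 1) (Nat.succ_lt_succ h)) χ' hχ'
    refine Eq.trans ?_ hih
    -- one step of the cap
    have hstep : ∀ G : X.Modules, Cyc.CohLe δ ((j : ℤ) + 1) G →
        (-1 : ℤ) ^ (j + 1) * iterD (List.ofFn M) (Curv2.euler k X) G =
          χ' (eCls δ (j : ℤ) ((j : ℤ) - 1) (Cyc.c1CapFun δ (L 0) (Cyc.sheafFun δ ((j : ℤ) + 1) G) (s 0))) := by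
      intro G hG
      set G' := (AmpleVan.tw (M 0)).obj G
      have hG' : Cyc.CohLe δ ((j : ℤ) + 1) G' := cohLe_tensor (hM 0) hG
      have hsf : Cyc.sheafFun δ ((j : ℤ) + 1) G' = Cyc.sheafFun δ ((j : ℤ) + 1) G := sheafFun_tensor (hM 0) _ G
      obtain ⟨e0⟩ := hLM 0
      have hiso : CohB1.tensorMod G' (L 0) ≅ G :=
        (AmpleVan.twComp (M 0) (L 0)).app G ≪≫
          ((DCoh.tensorBi (X := X)).flip.mapIso e0).app G ≪≫ AmpleVan.twUnit.app G
      have hcG := isCoef_c1Cap hd (hL 0) (isCoef_sheafFun hd hG) (hs 0)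
      have key := toQ_tensor_sub hd (hL 0) hG' (hs 0) hcG (by rw [hsf])
      rw [toQ_congr ((cls_cohLe δ ((j : ℤ) + 1)).clSub_iso hiso (cohLe_tensor (hL 0) hG'))] at key
      obtain ⟨Ψ, hΨ⟩ : ∃ Ψ : Cyc.K0CohQuot δ ((j : ℤ) + 1) ((j : ℤ) - 1) →+ ℤ, ∀ F : X.Modules,
          Cyc.CohLe δ ((j : ℤ) + 1) F → Ψ (Cyc.toK0CohQuot δ ((j : ℤ) + 1) ((j : ℤ) - 1) F) =
            (-1 : ℤ) ^ j * iterD (List.ofFn M') (Curv2.euler k X) F := by
        obtain ⟨g, hg⟩ := KZ.exists_liftSub (Cyc.CohLe δ ((j : ℤ) + 1))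
            (fun F => (-1 : ℤ) ^ j * iterD (List.ofFn M') (Curv2.euler k X) F) fun S hS a b c =>
          hadd.add S hS a.1 b.1 c.1
        refine ⟨QuotientAddGroup.lift _ g ?_, fun F hF => hg F hF⟩
        rw [AddSubgroup.closure_le]
        rintro c ⟨F, hF, rfl⟩
        rw [SetLike.mem_coe, AddMonoidHom.mem_ker, hg F ⟨hF.1, fun y hy => (hF.2 y hy).trans (by omega)⟩,
          iterD_eq_zero j (additive_euler k) _ List.length_ofFn hall F hF.1 (dimLT_of_cohLe hd hc hF), mul_zero]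
      have hp1 := cohLe_pos hd hcG
      have hn1 : Cyc.CohLe δ (j : ℤ) (Cyc.cycleSheafNeg _) := cohLe_pos hd hcG.neg
      have k2 := congrArg Ψ key
      rw [map_sub, map_sub, hΨ G hG, hΨ G' hG', hΨ _ (cohLe_succ hp1), hΨ _ (cohLe_succ hn1), ← hχ' _ hp1,
        ← hχ' _ hn1, ← map_sub χ'] at k2
      rw [← k2, List.ofFn_succ]
      show _ * (iterD (List.ofFn M') (Curv2.euler k X) G' - iterD (List.ofFn M') (Curv2.euler k X) G) = _
      ring
    have hχP : ∀ G : X.Modules, Cyc.CohLe δ ((j : ℤ) + 1) G →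
        χ (Cyc.toK0CohQuot δ ((j + 1 : ℕ) : ℤ) (((j + 1 : ℕ) : ℤ) - 1) G) =
          (-1 : ℤ) ^ (j + 1) * iterD (List.ofFn M) (Curv2.euler k X) G := fun G hG =>
      hχ G (by rw [show ((j + 1 : ℕ) : ℤ) = (j : ℤ) + 1 by push_cast; ring]; exact hG)
    rw [map_sub, hχP P hP, hχP N hN, hstep P hP, hstep N hN, ← map_sub χ']
    refine congrArg χ' ?_
    have hcP := isCoef_sheafFun hd hP
    have hcN := isCoef_sheafFun hd hN
    refine (eCls_sub hd hc1 (isCoef_c1Cap hd (hL 0) hcP (hs 0)) (isCoef_c1Cap hd (hL 0) hcN (hs 0)) ?_).symm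
    rw [hγ1, ← c1CapFun_sub hcP hcN, sheafFun_pos_sub_neg hd hγ0]

theorem delta_le_dim (hc : Cyc.DeltaCompat (X ↘ Spec (CommRingCat.of k)) δ (fun _ => 0)) {Z : Scheme.{u}}
    (ι : Z ⟶ X) [IsClosedImmersion ι] {d : ℕ} (hdim : topologicalKrullDim Z ≤ d) (z : Z) : δ (ι z) ≤ d := by
  haveI : Nonempty Z := ⟨z⟩
  haveI : CompactSpace Z := QuasiCompact.compactSpace_of_compactSpace (ι ≫ X ↘ Spec (CommRingCat.of k))
  obtain ⟨η, -, hall, htop⟩ := VarDim.exists_deg_eq_topologicalKrullDim (ι ≫ X ↘ Spec (CommRingCat.of k))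
  have hηd : VarDim.deg (ι ≫ X ↘ Spec (CommRingCat.of k)) η ≤ d := by
    rw [htop] at hdim
    exact_mod_cast hdim
  obtain ⟨n, hn, hn'⟩ := hc (ι z)
  have h2 : VarDim.deg (X ↘ Spec (CommRingCat.of k)) (ι z) = n := by
    rw [VarDim.deg, VarDim.tdeg_eq_rdeg]
    unfold VarDim.rdeg
    rw [hn, Cardinal.toNat_natCast]
  have h3 : VarDim.fdeg ι z = 0 := by rw [VarDim.fdeg, VarDim.rdeg_preimmersion, map_zero]
  have h4 := VarDim.deg_comp_eq ι (X ↘ Spec (CommRingCat.of k)) z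
  have h5 := hall z
  simp only at hn'
  omega

variable (k) in
/-- Intersection numbers only need a bound on the dimension of the support. -/
theorem intNum_eq_of_dimLT [IsNoetherian X] {d r : ℕ} {M : Fin r → X.Modules}
    (hM : ∀ i, PicF.IsInvertible (M i)) {F : X.Modules} (hF : Coh.IsCoh F) (hd : DimLT F (d + 1)) :
    FGA.intNum k X d M F = (-1) ^ r * iterD (List.ofFn M) (Curv2.euler k X) F := by
  haveI : X.IsSeparated := ⟨by
    rw [← Limits.terminal.comp_from (X ↘ Spec (CommRingCat.of k))]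
    infer_instance⟩
  rw [← IntNum47.altSum_eq_iterD (IntNum47.isoInv_euler k) M F]
  refine Finset.sum_congr rfl fun I _ => congrArg _ ?_
  have hG : Coh.IsCoh (CohB1.tensorMod (FGA.tensorList ((I.sort (· ≤ ·)).map M)) F) :=
    AmpleVan.isCoh_tensor (IntNum47.isCoh_tensorList fun A hA => by
      obtain ⟨i, -, rfl⟩ := List.mem_map.1 hA; exact hM i) hF
  refine (Euler.euler_eq_sum k _ (d + 1) fun i hi => ?_).symm
  refine Snapper.subsingleton_HH_of_dim_lt (d + 1)
    ⟨CohB1.support F, QCoh.isClosed_support_of_isFT hF.1 hF.2⟩ hd _ hG.1 (fun x hx hs => hx ?_) i hi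
  haveI : Subsingleton ((DerSch.stalkFunctor X x).obj F) := hs
  haveI : Subsingleton ↑(MonoidalCategoryStruct.tensorObj
      ((DerSch.stalkFunctor X x).obj (FGA.tensorList ((I.sort (· ≤ ·)).map M))) ((DerSch.stalkFunctor X x).obj F)) :=
    ⟨fun a b => by
      have h0 : ∀ c : TensorProduct (X.presheaf.stalk x)
          ((DerSch.stalkFunctor X x).obj (FGA.tensorList ((I.sort (· ≤ ·)).map M)))
          ((DerSch.stalkFunctor X x).obj F), c = 0 := fun c => by
        induction c using TensorProduct.induction_on with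
        | zero => rfl
        | tmul u v => rw [Subsingleton.elim v 0, TensorProduct.tmul_zero]
        | add u v hu hv => rw [hu, hv, add_zero]
      exact (h0 a).trans (h0 b).symm⟩
  exact (KFlatLib.stalkTensorIso x (FGA.tensorList ((I.sort (· ≤ ·)).map M)) F).toLinearEquiv.symm.injective.subsingleton

theorem intNum_eq_deg [IsLocallyNoetherian X] (hd : Cyc.IsDimFun X δ) (hs' : Cyc.IsSetup X δ)
    (hc : Cyc.DeltaCompat (X ↘ Spec (CommRingCat.of k)) δ (fun _ => 0)) {Z : Scheme.{u}} (ι : Z ⟶ X)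
    [IsClosedImmersion ι] {d : ℕ} (hdim : topologicalKrullDim Z = d) 
    (L M : Fin d → X.Modules) (hL : ∀ i, PicF.IsInvertible (L i)) (hM : ∀ i, PicF.IsInvertible (M i))
    (hLM : ∀ i, Nonempty (CohB1.tensorMod (M i) (L i) ≅ Coh.structureModule X))
    (s : (i : Fin d) → (ξ : X) → Cyc.secFibre (L i) ξ) (hs : ∀ i ξ, s i ξ ≠ 0) (γ : ℕ → X → ℤ)
    (hγ0 : γ 0 = Cyc.subschemeFun δ d ι)
    (hγs : ∀ (i : ℕ) (h : i < d), γ (i + 1) = Cyc.c1CapFun δ (L ⟨i, h⟩) (γ i) (s ⟨i, h⟩)) :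
    FGA.intNum k X d M ((Coh.push ι).obj (Coh.structureModule Z)) =
      ∑ᶠ x : X, ((X ↘ Spec (CommRingCat.of k)).residueDegree x : ℤ) * γ d x := by
  haveI := CurveCohLib.isNoetherian' (k := k) (X := X)
  haveI := LocallyOfFiniteType.isLocallyNoetherian ι
  set F := (Coh.push ι).obj (Coh.structureModule Z)
  have hF : Coh.IsCoh F := QCoh.isCoh_pushforward_finite ι QCoh.isCoh_structureModule'
  have hFd : Cyc.CohLe δ (d : ℤ) F := ⟨hF, fun y hy => by
    obtain ⟨z, rfl, -⟩ := CycLib.cohLe_push_finite ι QCoh.isCoh_structureModule' hy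
    exact delta_le_dim hc ι hdim.le z⟩
  have hγ : γ 0 = Cyc.sheafFun δ (d : ℤ) F := by
    rw [hγ0]
    exact S1899.result X Z δ hs' ι d fun z => delta_le_dim hc ι hdim.le z
  rw [intNum_eq_of_dimLT k hM hF (dimLT_of_cohLe hd hc (j := d + 1) (by
    rw [show ((d + 1 : ℕ) : ℤ) - 1 = (d : ℤ) by push_cast; ring]
    exact hFd))]
  have hadd : Additive fun G => (-1 : ℤ) ^ d * iterD (List.ofFn M) (Curv2.euler k X) G := by
    have h := additive_iterD (additive_euler k) (IntNum47.forall_mem_ofFn hM)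
    exact ⟨fun A B e => congrArg _ (h.iso A B e), fun S hS a b c => by
      show _ * _ = _ * _ + _ * _
      rw [h.add S hS a b c, mul_add]⟩
  obtain ⟨χ, hχ⟩ := exists_hom_of_additive hd (j := (d : ℤ)) hadd fun G hG => by
    rw [iterD_eq_zero d (additive_euler k) _ List.length_ofFn (IntNum47.forall_mem_ofFn hM) G hG.1
      (dimLT_of_cohLe hd hc hG), mul_zero]
  rw [← iterD_eCls k hd hc L M hL hM hLM s hs γ (hγ ▸ isCoef_sheafFun hd hFd) hγs χ hχ, hγ,
    eCls_sheafFun hd hFd, hχ F hFd]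

theorem deg_eq_c1Cap [IsLocallyNoetherian X] (hd : Cyc.IsDimFun X δ) (hs' : Cyc.IsSetup X δ)
    (hc : Cyc.DeltaCompat (X ↘ Spec (CommRingCat.of k)) δ (fun _ => 0))
    (hdim : topologicalKrullDim X ≤ (1 : ℕ)) {L : X.Modules} (hL : PicF.IsInvertible L)
    {s : (ξ : X) → Cyc.secFibre L ξ} (hs : ∀ ξ, s ξ ≠ 0) :
    Curv2.deg k X L 1 = ∑ᶠ x : X, ((X ↘ Spec (CommRingCat.of k)).residueDegree x : ℤ) *
      Cyc.c1CapFun δ L (Cyc.subschemeFun δ 1 (𝟙 X)) s x := by
  haveI := CurveCohLib.isNoetherian' (k := k) (X := X)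
  let O := Coh.structureModule X
  have hle : ∀ x : X, δ x ≤ 1 := fun x => delta_le_dim hc (𝟙 X) hdim x
  have hO : Cyc.CohLe δ ((0 : ℤ) + 1) O := ⟨QCoh.isCoh_structureModule', fun x _ => by simpa using hle x⟩
  have hsub : Cyc.subschemeFun δ 1 (𝟙 X) = Cyc.sheafFun δ ((0 : ℤ) + 1) O := by
    rw [S1899.result X X δ hs' (𝟙 X) 1 hle, zero_add]
    funext x
    unfold Cyc.sheafFun
    split_ifs
    · have := H23.ClosedPushLen.length_stalk (𝟙 X) (Coh.structureModule X) x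
      rw [show (𝟙 X : X ⟶ X) x = x from rfl] at this
      rw [this]
    · rfl
  obtain ⟨χ, hχ⟩ : ∃ χ : Cyc.K0CohQuot δ ((0 : ℤ) + 1) ((0 : ℤ) - 1) →+ ℤ, ∀ F : X.Modules,
      Cyc.CohLe δ ((0 : ℤ) + 1) F →
        χ (Cyc.toK0CohQuot δ ((0 : ℤ) + 1) ((0 : ℤ) - 1) F) = Curv2.euler k X F := by
    obtain ⟨g, hg⟩ := KZ.exists_liftSub (Cyc.CohLe δ ((0 : ℤ) + 1)) (Curv2.euler k X)
      fun S hS a b c => (additive_euler k).add S hS a.1 b.1 c.1
    refine ⟨QuotientAddGroup.lift _ g ?_, fun F hF => hg F hF⟩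
    rw [AddSubgroup.closure_le]
    rintro c ⟨F, hF, rfl⟩
    rw [SetLike.mem_coe, AddMonoidHom.mem_ker, hg F ⟨hF.1, fun y hy => (hF.2 y hy).trans (by omega)⟩]
    exact iterD_eq_zero 0 (additive_euler k) [] rfl (fun N hN => absurd hN List.not_mem_nil) F hF.1
      (dimLT_of_cohLe hd hc (j := 0) (by simpa using hF))
  have hc' := isCoef_c1Cap hd hL (isCoef_sheafFun hd hO) hs
  have key := congrArg χ (toQ_tensor_sub hd hL hO hs hc' rfl)
  have hp : Cyc.CohLe δ 0 (Cyc.cycleSheafPos (Cyc.c1CapFun δ L (Cyc.sheafFun δ ((0 : ℤ) + 1) O) s)) :=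
    cohLe_pos hd hc'
  have hn : Cyc.CohLe δ 0 (Cyc.cycleSheafNeg (Cyc.c1CapFun δ L (Cyc.sheafFun δ ((0 : ℤ) + 1) O) s)) :=
    cohLe_pos hd hc'.neg
  rw [map_sub, map_sub, hχ _ (cohLe_tensor hL hO), hχ O hO, hχ _ (cohLe_succ hp), hχ _ (cohLe_succ hn)] at key
  have e1 : Curv2.euler k X (CohB1.tensorMod O L) = Curv2.euler k X L := by
    obtain ⟨c⟩ := H23.PicMul.comm O L
    obtain ⟨u⟩ := H23.PicMul.unit L
    exact (additive_euler k).iso _ _ ⟨c ≪≫ u⟩
  rw [e1, euler_eq_sum_residueDegree hd hc hp, euler_eq_sum_residueDegree hd hc hn] at key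
  have hfin : ∀ {G : X.Modules}, Cyc.CohLe δ 0 G →
      (Function.support fun x => ((X ↘ Spec (CommRingCat.of k)).residueDegree x : ℤ) *
        Cyc.sheafFun δ 0 G x).Finite := fun {G} hG => by
    have h1 := (locFinPts_gens hd hG).finite_of_isCompact (U := ⊤) (CompactSpace.isCompact_univ)
    refine (h1.image Subtype.val).subset fun x hx => ?_
    have hne : Cyc.sheafFun δ 0 G x ≠ 0 := right_ne_zero_of_mul hx
    unfold Cyc.sheafFun at hne
    split_ifs at hne with hx0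
    · refine ⟨⟨x, hx0, not_subsingleton_iff_nontrivial.1 fun hs => hne ?_⟩, trivial, rfl⟩
      haveI : Subsingleton (G.presheaf.stalk x) := hs
      rw [Module.length_eq_zero]
      rfl
    · exact absurd rfl hne
  rw [← finsum_sub_distrib (hfin hp) (hfin hn)] at key
  rw [Curv2.deg, Nat.cast_one, one_mul, key, hsub]
  refine finsum_congr fun x => ?_
  rw [← mul_sub]
  exact congrArg _ (congrFun (sheafFun_pos_sub_neg hd hc') x)

end Groth.Agent.DevK

end
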