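import Groth.Agent.DevK.Twist

/-! Two rank-one modules on a closed subvariety inside its rational sections. -/

set_option autoImplicit false
set_option linter.style.haveILetI false
set_option backward.isDefEq.respectTransparency false
set_option backward.isDefEq.respectTransparency.types false

universe u

open CategoryTheory CategoryTheory.Limits AlgebraicGeometry

namespace Groth.Agent.DevK

open Groth.Agent

variable {X : Scheme.{u}} [IsLocallyNoetherian X] (ξ : X)

/-- A module which is invertible on the closure of `ξ`, with a trivialisation at `ξ`. -/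
structure Emb (H : X.Modules) where
  /-- the trivialisation -/
  g : H.presheaf.stalk ξ →ₗ[X.presheaf.stalk ξ] Mξ ξ PUnit.unit
  bij : Function.Bijective g
  coh : Coh.IsCoh H
  supp : ∀ y : X, NZ H y → ξ ⤳ y
  loc : ∀ (x : X) (h : ξ ⤳ x), ∃ (u : H.presheaf.stalk x) (r : X.presheaf.stalk ξ),
    (∀ t, ∃ c : X.presheaf.stalk x, c • u = t) ∧
      (∀ c, Cyc.specMap x ξ h c = 0 → c • u = 0) ∧ IsUnit r ∧
        g (H.presheaf.stalkSpecializes h u) = r • gen ξ ξ

variable {ξ} {H : X.Modules}

/-- The map to the rational sections. -/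
noncomputable def Emb.map (e : Emb ξ H) : H ⟶ KSh ξ := toV (Mξ ξ) H fun _ => e.g

omit [IsLocallyNoetherian X] in
theorem Emb.ev_map (e : Emb ξ H) {x : X} (h : ξ ⤳ x) {u : H.presheaf.stalk x} {r : X.presheaf.stalk ξ}
    (hu : e.g (H.presheaf.stalkSpecializes h u) = r • gen ξ ξ) (c : X.presheaf.stalk x) :
    ev (M := Mξ ξ) PUnit.unit h (((DerSch.stalkFunctor X x).map e.map).hom (c • u)) =
      (r * X.presheaf.stalkSpecializes h c) • gen ξ ξ := by
  rw [map_smul, ev_smul]
  have := ev_toV (M := Mξ ξ) (H := H) (fun _ => e.g) PUnit.unit h u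
  refine (congrArg (fun z => X.presheaf.stalkSpecializes h c • z) this).trans ?_
  rw [hu, smul_smul, mul_comm]

theorem Emb.smul_eq_zero_iff (e : Emb ξ H) {x : X} (h : ξ ⤳ x) {u : H.presheaf.stalk x} {r : X.presheaf.stalk ξ}
    (hann : ∀ c, Cyc.specMap x ξ h c = 0 → c • u = 0) (hr : IsUnit r)
    (hu : e.g (H.presheaf.stalkSpecializes h u) = r • gen ξ ξ) (c : X.presheaf.stalk x) :
    (c • u = 0 ↔ Cyc.specMap x ξ h c = 0) ∧
      (((DerSch.stalkFunctor X x).map e.map).hom (c • u) = 0 → c • u = 0) := by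
  have key : ((DerSch.stalkFunctor X x).map e.map).hom (c • u) = 0 → Cyc.specMap x ξ h c = 0 := fun h0 => by
    have e1 := e.ev_map h hu c
    rw [h0, map_zero, eq_comm, smul_genξ_eq_zero_iff, map_mul] at e1
    exact (mul_eq_zero.1 e1).resolve_left (hr.map (X.residue ξ).hom).ne_zero
  refine ⟨⟨fun hc => key ?_, hann c⟩, fun h0 => hann c (key h0)⟩
  exact (congrArg _ hc).trans (map_zero _)

theorem Emb.injective_map (e : Emb ξ H) (x : X) : Function.Injective ((DerSch.stalkFunctor X x).map e.map).hom := by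
  by_cases h : ξ ⤳ x
  · refine (injective_iff_map_eq_zero _).2 fun t ht => ?_
    obtain ⟨u, r, hgen, hann, hr, hu⟩ := e.loc x h
    obtain ⟨c, rfl⟩ := hgen t
    exact (e.smul_eq_zero_iff h hann hr hu c).2 ht
  · haveI : Subsingleton ((DerSch.stalkFunctor X x).obj H) :=
      not_nontrivial_iff_subsingleton.1 fun hn => h (e.supp x hn)
    exact Function.injective_of_subsingleton _

omit [IsLocallyNoetherian X] in
theorem Emb.surjective_map_gen (e : Emb ξ H) :
    Function.Surjective ((DerSch.stalkFunctor X ξ).map e.map).hom :=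
  (toV_bijective (locFinPts_one ξ) (fun _ => e.g) PUnit.unit (fun _ _ => rfl) e.bij).2

variable {K : Bool → X.Modules} (e : ∀ b, Emb ξ (K b))

/-- The span of the two modules. -/
noncomputable abbrev pairT : X.Modules := img (Sigma.desc fun b : ULift.{u} Bool => (e b.down).map)

/-- The inclusion of a member. -/
noncomputable abbrev pairIn (b : Bool) : K b ⟶ pairT e :=
  Sigma.ι (fun b : ULift.{u} Bool => K b.down) ⟨b⟩ ≫ toImg (Sigma.desc fun b : ULift.{u} Bool => (e b.down).map)

/-- The inclusion in the rational sections. -/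
noncomputable abbrev pairι : pairT e ⟶ KSh ξ :=
  kernel.ι (cokernel.π (Sigma.desc fun b : ULift.{u} Bool => (e b.down).map))

omit [IsLocallyNoetherian X] in
theorem pairIn_comp (b : Bool) : pairIn e b ≫ pairι e = (e b).map := by
  rw [Category.assoc, toImg_ι, Sigma.ι_desc]

theorem mono_pairIn (b : Bool) : Mono (pairIn e b) := by
  haveI : Mono (pairIn e b ≫ pairι e) := by
    rw [pairIn_comp]
    exact mono_of_stalk _ (e b).injective_map
  exact mono_of_mono _ (pairι e)

set_option maxHeartbeats 800000 in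
theorem isCoh_pairT : Coh.IsCoh (pairT e) :=
  isCoh_img (isCoh_sigma (G := fun b : ULift.{u} Bool => K b.down) (locFin_of_finite _) fun b => (e b.down).coh)
    (isQCoh_KSh ξ) _

omit [IsLocallyNoetherian X] in
theorem spec_of_nz_pairT {y : X} (h : NZ (pairT e) y) : ξ ⤳ y := by
  haveI : Epi (toImg (Sigma.desc fun b : ULift.{u} Bool => (e b.down).map)) :=
    inferInstanceAs (Epi (Abelian.factorThruImage _))
  obtain ⟨b, hb⟩ := exists_nz_of_sigma (h.of_epi (toImg (Sigma.desc fun b : ULift.{u} Bool => (e b.down).map)))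
  exact (e b.down).supp y hb

/-- The cokernel of an inclusion. -/
noncomputable abbrev pairQ (b : Bool) : X.Modules := cokernel (pairIn e b)

/-- The short exact sequence of an inclusion. -/
noncomputable abbrev pairSeq (b : Bool) : ShortComplex X.Modules :=
  ShortComplex.mk (pairIn e b) (cokernel.π (pairIn e b)) (cokernel.condition _)

theorem pairSeq_shortExact (b : Bool) : (pairSeq e b).ShortExact :=
  haveI := mono_pairIn e b
  { exact := ShortComplex.exact_of_g_is_cokernel _ (cokernelIsCokernel _) }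

theorem spec_of_nz_pairQ {b : Bool} {y : X} (h : NZ (pairQ e b) y) : ξ ⤳ y :=
  spec_of_nz_pairT e (h.of_epi (cokernel.π (pairIn e b)))

theorem isCoh_pairQ (b : Bool) : Coh.IsCoh (pairQ e b) :=
  QCoh.isCoh_cokernel (e b).coh.1 (isCoh_pairT e) _

variable {δ : X → ℤ} (hd : Cyc.IsDimFun X δ) {k : ℤ}

include hd in
theorem cohLe_pairT (hξ : δ ξ = k + 1) : Cyc.CohLe δ (k + 1) (pairT e) :=
  ⟨isCoh_pairT e, fun _ hy => (CycLib.delta_le hd (spec_of_nz_pairT e hy)).trans hξ.le⟩

include hd in
theorem cohLe_pairQ (hξ : δ ξ = k + 1) (b : Bool) : Cyc.CohLe δ k (pairQ e b) := by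
  refine ⟨isCoh_pairQ e b, fun y hy => ?_⟩
  have hsp := spec_of_nz_pairQ e hy
  have hle := CycLib.delta_le hd hsp
  by_contra hc
  have e0 : ξ = y := CycLib.eq_of_delta_le hd hsp (by omega)
  subst e0
  refine not_nz_cokernel (pairIn e b) ?_ hy
  intro t
  obtain ⟨s, hs⟩ := (e b).surjective_map_gen (((DerSch.stalkFunctor X ξ).map (pairι e)).hom t)
  refine ⟨s, stalk_injective (pairι e) ξ ?_⟩
  rw [← hs, ← stalkMap_comp, pairIn_comp]

set_option maxHeartbeats 800000 in
include hd in
/-- The cycle of the difference is the divisor of the quotient of the trivialisations. -/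
theorem sheafFun_pairQ_sub (hξ : δ ξ = k + 1) {x : X} (hx : δ x = k) (h : ξ ⤳ x)
    (u : ∀ b, (K b).presheaf.stalk x) (r : Bool → X.presheaf.stalk ξ)
    (hgen : ∀ b t, ∃ c : X.presheaf.stalk x, c • u b = t)
    (hann : ∀ b c, Cyc.specMap x ξ h c = 0 → c • u b = 0) (hr : ∀ b, IsUnit (r b))
    (hu : ∀ b, (e b).g ((K b).presheaf.stalkSpecializes h (u b)) = r b • gen ξ ξ)
    {f : X.residueField ξ} (hf : f * X.residue ξ (r false) = X.residue ξ (r true)) :
    Cyc.sheafFun δ k (pairQ e true) x - Cyc.sheafFun δ k (pairQ e false) x = Cyc.divFun δ ξ f x := by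
  unfold Cyc.sheafFun
  rw [if_pos hx, if_pos hx, CycLib.divFun_eq δ _ h (by omega)]
  have hr0 : ∀ b, X.residue ξ (r b) ≠ 0 := fun b => ((hr b).map (X.residue ξ).hom).ne_zero
  have hf0 : f ≠ 0 := fun h0 => hr0 true (by rw [← hf, h0, zero_mul])
  obtain ⟨A, B, hB, hAB⟩ := exists_frac (h := h) (show RK h from f)
  have hAB' : f * Cyc.specMap x ξ h B = Cyc.specMap x ξ h A := hAB
  have hB0 : Cyc.specMap x ξ h B ≠ 0 := hB
  have hA0 : Cyc.specMap x ξ h A ≠ 0 := by rw [← hAB']; exact mul_ne_zero hf0 hB0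
  let a : ∀ b, (K b).presheaf.stalk x →ₗ[X.presheaf.stalk x] (pairT e).presheaf.stalk x :=
    fun b => CycLib.stalkLin (pairIn e b) x
  have hses : ∀ b, Function.Injective (a b) ∧ Module.length (X.presheaf.stalk x) ((pairQ e b).presheaf.stalk x) =
      Module.length (X.presheaf.stalk x) ((pairT e).presheaf.stalk x ⧸ LinearMap.range (a b)) := fun b => by
    obtain ⟨hi, he, hs⟩ := CycLib.stalk_shortExact (pairSeq_shortExact e b) (e b).coh.1 (isCoh_pairT e).1
      (isCoh_pairQ e b).1 x
    exact ⟨hi, ((Submodule.quotEquivOfEq _ _ (LinearMap.exact_iff.1 he).symm).trans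
      (LinearMap.quotKerEquivOfSurjective _ hs)).length_eq.symm⟩
  have hev : ∀ (b : Bool) (c : X.presheaf.stalk x),
      ev (M := Mξ ξ) PUnit.unit h (((DerSch.stalkFunctor X x).map (pairι e)).hom (a b (c • u b))) =
        (r b * X.presheaf.stalkSpecializes h c) • gen ξ ξ := fun b c => by
    refine Eq.trans ?_ ((e b).ev_map h (hu b) c)
    rw [← pairIn_comp e b, stalkMap_comp]
    rfl
  have hrel : ∀ c, a false (A • c • u false) = a true (B • c • u true) := fun c => by
    refine stalk_injective (pairι e) x (sub_eq_zero.1 (stalk_ext (locFinPts_one ξ) fun i hi => ?_))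
    rw [smul_smul, smul_smul]
    refine (map_sub (ev (M := Mξ ξ) PUnit.unit h) _ _).trans ?_
    rw [hev, hev, ← sub_smul, smul_genξ_eq_zero_iff]
    simp only [map_sub, map_mul]
    show X.residue ξ (r false) * (Cyc.specMap x ξ h A * Cyc.specMap x ξ h c) -
      X.residue ξ (r true) * (Cyc.specMap x ξ h B * Cyc.specMap x ξ h c) = 0
    rw [← hf, ← hAB']
    ring
  have hrange : LinearMap.range ((a false).comp (LinearMap.lsmul _ _ A)) =
      LinearMap.range ((a true).comp (LinearMap.lsmul _ _ B)) := by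
    apply le_antisymm
    · rintro _ ⟨t, rfl⟩
      obtain ⟨c, rfl⟩ := hgen false t
      exact ⟨c • u true, (hrel c).symm⟩
    · rintro _ ⟨t, rfl⟩
      obtain ⟨c, rfl⟩ := hgen true t
      exact ⟨c • u false, hrel c⟩
  have key : Ring.ord (Cyc.LocQuot x ξ h) (Ideal.Quotient.mk _ A) +
      Module.length (X.presheaf.stalk x) ((pairQ e false).presheaf.stalk x) =
      Ring.ord (Cyc.LocQuot x ξ h) (Ideal.Quotient.mk _ B) +
      Module.length (X.presheaf.stalk x) ((pairQ e true).presheaf.stalk x) := by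
    have hann' : ∀ b c, c • u b = 0 ↔ c ∈ RingHom.ker (Cyc.specMap x ξ h) := fun b c =>
      ((e b).smul_eq_zero_iff h (hann b) (hr b) (hu b) c).1
    have e1 := length_coker_smul (a false) (hses false).1 A
    have e2 := length_coker_smul (a true) (hses true).1 B
    rw [length_cyclic_coker _ (hgen false) (hann' false), ← (hses false).2] at e1
    rw [length_cyclic_coker _ (hgen true) (hann' true), ← (hses true).2] at e2
    rw [← e1, ← e2, hrange]
  have hx' : δ x + 1 = δ ξ := by omega
  haveI := CycLib.krullDimLE_locQuot hd h hx'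
  have hfin : ∀ s, Cyc.specMap x ξ h s ≠ 0 → Ring.ord (Cyc.LocQuot x ξ h) (Ideal.Quotient.mk _ s) ≠ ⊤ ∧
      Cyc.ordAt x ξ h (Cyc.specMap x ξ h s) = ((Ring.ord (Cyc.LocQuot x ξ h) (Ideal.Quotient.mk _ s)).toNat : ℤ) := by
    intro s hs
    have hne : (Ideal.Quotient.mk (RingHom.ker (Cyc.specMap x ξ h)) s : Cyc.LocQuot x ξ h) ≠ 0 := fun h0 =>
      hs (RingHom.mem_ker.1 (Ideal.Quotient.eq_zero_iff_mem.1 h0))
    refine ⟨Ring.ord_ne_top (R := Cyc.LocQuot x ξ h) (mem_nonZeroDivisors_of_ne_zero (M₀ := Cyc.LocQuot x ξ h) hne), ?_⟩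
    rw [← CycLib.algebraMap_locQuot_mk h s]
    exact CycLib.ordAt_algebraMap hd h hx' hne
  have hord : Cyc.ordAt x ξ h (Cyc.specMap x ξ h A) =
      Cyc.ordAt x ξ h f + Cyc.ordAt x ξ h (Cyc.specMap x ξ h B) := by
    rw [← hAB', CycLib.ordAt_mul hd h hx' hf0 hB0]
  have hl : ∀ b, Module.length (X.presheaf.stalk x) ((pairQ e b).presheaf.stalk x) ≠ ⊤ := fun b =>
    (length_lt_top_of_cohLe hd (cohLe_pairQ e hd hξ b) hx.ge).ne
  have key' := congrArg ENat.toNat key
  rw [ENat.toNat_add (hfin A hA0).1 (hl false), ENat.toNat_add (hfin B hB0).1 (hl true)] at key'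
  rw [(hfin A hA0).2, (hfin B hB0).2] at hord
  omega

end Groth.Agent.DevK
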