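import Groth.Agent.DevK.Phi

/-! The two cohomology modules of a two-periodic complex have the same class in `K₀`. -/

set_option autoImplicit false
set_option linter.style.haveILetI false
set_option backward.isDefEq.respectTransparency false
set_option backward.isDefEq.respectTransparency.types false

universe u

open CategoryTheory CategoryTheory.Limits AlgebraicGeometry

namespace Groth.Agent.DevK

open Groth.Agent

variable {X : Scheme.{u}} [IsLocallyNoetherian X] {P : ObjectProperty X.Modules}

theorem Cls.ker_img (hP : Cls P) {A B : X.Modules} (f : A ⟶ B) (hA : P A) (hB : P B) :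
    KZero.clSub P A = KZero.clSub P (kernel f) + KZero.clSub P (img f) := by
  haveI : Epi (toImg f) := inferInstanceAs (Epi (Abelian.factorThruImage f))
  have w : kernel.ι f ≫ toImg f = 0 := by
    rw [← cancel_mono (kernel.ι (cokernel.π f)), Category.assoc, toImg_ι, kernel.condition, zero_comp]
  have hS : (ShortComplex.mk (kernel.ι f) (toImg f) w).ShortExact :=
    { exact := ShortComplex.exact_of_f_is_kernel _ (KernelFork.IsLimit.ofι' _ _ fun {C} l hl =>
        ⟨kernel.lift f l (by rw [← toImg_ι f, reassoc_of% hl, zero_comp]), kernel.lift_ι _ _ _⟩) }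
  exact KZ.clSub_ses P hS (hP.sub (kernel.ι f) inferInstance (QCoh.isCoh_kernel (hP.coh hA) (hP.coh hB) f) hA)
    hA (hP.sub (kernel.ι (cokernel.π f)) inferInstance (isCoh_img (hP.coh hA) (hP.coh hB).1 f) hB)

omit [IsLocallyNoetherian X] in
theorem Cls.img_coker (hP : Cls P) {A B : X.Modules} (f : A ⟶ B) (hA : P A) (hB : P B) :
    KZero.clSub P B = KZero.clSub P (img f) + KZero.clSub P (cokernel f) := by
  have hS : (ShortComplex.mk (kernel.ι (cokernel.π f)) (cokernel.π f) (kernel.condition _)).ShortExact :=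
    { exact := ShortComplex.exact_of_f_is_kernel _ (kernelIsKernel _) }
  exact KZ.clSub_ses P hS
    (hP.sub (kernel.ι (cokernel.π f)) inferInstance (isCoh_img (hP.coh hA) (hP.coh hB).1 f) hB)
    hB (hP.quot (cokernel.π f) inferInstance (QCoh.isCoh_cokernel (hP.coh hA).1 (hP.coh hB) f) hB)

/-- The endomorphism decomposition attached to a three-term complex. -/
theorem Cls.cycles_add_cycles (hP : Cls P) {F : X.Modules} (hF : P F) (φ ψ : F ⟶ F) (w : φ ≫ ψ = 0)
    (w' : ψ ≫ φ = 0) :
    KZero.clSub P F + KZero.clSub P (ShortComplex.mk φ ψ w).homology =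
      KZero.clSub P (ShortComplex.mk ψ φ w').cycles + KZero.clSub P (ShortComplex.mk φ ψ w).cycles := by
  set S := ShortComplex.mk φ ψ w
  set T := ShortComplex.mk ψ φ w'
  have hk : ∀ g : F ⟶ F, P (kernel g) := fun g =>
    hP.sub (kernel.ι g) inferInstance (QCoh.isCoh_kernel (hP.coh hF) (hP.coh hF) g) hF
  have hcS : P S.cycles := hP.iso S.cyclesIsoKernel.symm (hk _)
  have hkS : P (kernel S.toCycles) :=
    hP.iso (kernelIsoOfEq S.toCycles_i.symm ≪≫ kernelCompMono S.toCycles S.iCycles) (hk φ)
  have e1 := hP.ker_img S.toCycles hF hcS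
  have e2 := hP.img_coker S.toCycles hF hcS
  have e3 : KZero.clSub P (cokernel S.toCycles) = KZero.clSub P S.homology :=
    hP.clSub_iso ((cokernelIsCokernel _).coconePointUniqueUpToIso S.homologyIsCokernel)
      (hP.quot (cokernel.π _) inferInstance (QCoh.isCoh_cokernel (hP.coh hF).1 (hP.coh hcS) _) hcS)
  have e4 : KZero.clSub P (kernel S.toCycles) = KZero.clSub P T.cycles :=
    hP.clSub_iso ((kernelCompMono S.toCycles S.iCycles).symm ≪≫ kernelIsoOfEq S.toCycles_i ≪≫
      T.cyclesIsoKernel.symm) hkS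
  rw [e2, e3, e1, e4]
  abel

theorem Cls.homology_periodic (hP : Cls P) {F : X.Modules} (hF : P F) (φ ψ : F ⟶ F) (w : φ ≫ ψ = 0)
    (w' : ψ ≫ φ = 0) :
    KZero.clSub P (ShortComplex.mk φ ψ w).homology = KZero.clSub P (ShortComplex.mk ψ φ w').homology := by
  have a := hP.cycles_add_cycles hF φ ψ w w'
  have b := hP.cycles_add_cycles hF ψ φ w' w
  rw [add_comm (KZero.clSub P (ShortComplex.mk φ ψ w).cycles), ← a] at b
  exact (add_left_cancel b).symm

theorem Cls.prop_homology (hP : Cls P) {F : X.Modules} (hF : P F) (φ ψ : F ⟶ F) (w : φ ≫ ψ = 0) :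
    P (ShortComplex.mk φ ψ w).homology := by
  set S := ShortComplex.mk φ ψ w
  have hcS : P S.cycles := hP.iso S.cyclesIsoKernel.symm
    (hP.sub (kernel.ι ψ) inferInstance (QCoh.isCoh_kernel (hP.coh hF) (hP.coh hF) ψ) hF)
  exact hP.iso ((cokernelIsCokernel _).coconePointUniqueUpToIso S.homologyIsCokernel)
    (hP.quot (cokernel.π S.toCycles) inferInstance (QCoh.isCoh_cokernel (hP.coh hF).1 (hP.coh hcS) _) hcS)

end Groth.Agent.DevK
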