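import Groth.Agent.DevK.Gen

/-! Comparison of modules with isomorphic stalks at the top-dimensional points. -/

set_option autoImplicit false
set_option linter.style.haveILetI false
set_option backward.isDefEq.respectTransparency false
set_option backward.isDefEq.respectTransparency.types false

universe u

open CategoryTheory CategoryTheory.Limits AlgebraicGeometry TopologicalSpace Opposite

namespace Groth.Agent.DevK

open Groth.Agent

variable {X : Scheme.{u}} {δ : X → ℤ}

/-- The image of a morphism. -/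
noncomputable abbrev img {A B : X.Modules} (f : A ⟶ B) : X.Modules := kernel (cokernel.π f)

/-- The map onto the image. -/
noncomputable abbrev toImg {A B : X.Modules} (f : A ⟶ B) : A ⟶ img f := Abelian.factorThruImage f

theorem toImg_ι {A B : X.Modules} (f : A ⟶ B) : toImg f ≫ kernel.ι (cokernel.π f) = f :=
  Abelian.image.fac f

theorem isCoh_img {A B : X.Modules} (hA : Coh.IsCoh A) (hB : Coh.IsQCoh B) (f : A ⟶ B) : Coh.IsCoh (img f) :=
  haveI : Epi (toImg f) := inferInstanceAs (Epi (Abelian.factorThruImage f))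
  QCoh.isCoh_of_epi (toImg f) hA (QCoh.isQCoh_kernel hB (QCoh.isQCoh_cokernel hA.1 hB f) _)

/-- At one of the points, germs are determined by the value there. -/
theorem ev_injective {ι : Type u} {ξ : ι → X} {M : ∀ i, ModuleCat.{u} (X.presheaf.stalk (ξ i))}
    (hl : LocFinPts ξ) (i : ι) (hgen : ∀ j, ξ j ⤳ ξ i → j = i) :
    Function.Injective (ev (M := M) i (specializes_refl (ξ i))) := by
  refine (injective_iff_map_eq_zero _).2 fun t ht => stalk_ext hl fun j hj => ?_
  obtain rfl := hgen j hj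
  exact ht

theorem toV_bijective {ι : Type u} {ξ : ι → X} {M : ∀ i, ModuleCat.{u} (X.presheaf.stalk (ξ i))}
    (hl : LocFinPts ξ) {H : X.Modules} (g : ∀ i, H.presheaf.stalk (ξ i) →ₗ[X.presheaf.stalk (ξ i)] M i)
    (i : ι) (hgen : ∀ j, ξ j ⤳ ξ i → j = i) (hg : Function.Bijective (g i)) :
    Function.Bijective ((DerSch.stalkFunctor X (ξ i)).map (toV M H g)).hom := by
  have e : ∀ t, ev i (specializes_refl (ξ i)) (((DerSch.stalkFunctor X (ξ i)).map (toV M H g)).hom t) = g i t :=
    fun t => by rw [ev_toV, TopCat.Presheaf.stalkSpecializes_refl]; rfl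
  refine ⟨fun a b hab => hg.1 ?_, fun v => ?_⟩
  · rw [← e a, ← e b]
    exact congrArg (fun z => ev i (specializes_refl (ξ i)) z) hab
  · obtain ⟨t, ht⟩ := hg.2 (ev i (specializes_refl (ξ i)) v)
    exact ⟨t, ev_injective hl i hgen ((e t).trans ht)⟩

/-- The points of a given dimension where a module is nonzero. -/
abbrev Gens (δ : X → ℤ) (k : ℤ) (F : X.Modules) : Type u := {x : X // δ x = k ∧ NZ F x}

/-- The sheaf of generic values of a module. -/
noncomputable abbrev VG (δ : X → ℤ) (k : ℤ) (F : X.Modules) : X.Modules :=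
  V (ξ := fun i : Gens δ k F => i.1) fun i => ModuleCat.of (X.presheaf.stalk i.1) (F.presheaf.stalk i.1)

variable [IsLocallyNoetherian X] (hd : Cyc.IsDimFun X δ) {k : ℤ}

include hd in
theorem isQCoh_VG {F : X.Modules} (hF : Cyc.CohLe δ k F) : Coh.IsQCoh (VG δ k F) :=
  isQCoh_V (locFinPts_gens hd hF) fun i _ hr m =>
    exists_pow_smul_eq_zero (length_lt_top_of_cohLe hd hF i.2.1.ge) hr m

include hd in
omit [IsLocallyNoetherian X] in
theorem gens_eq {F : X.Modules} (i j : Gens δ k F) (h : j.1 ⤳ i.1) : j = i :=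
  Subtype.ext (CycLib.eq_of_delta_le hd h (le_of_eq (j.2.1.trans i.2.1.symm)))

include hd in
/-- Two modules with isomorphic stalks in dimension `k` have the same class modulo smaller dimension. -/
theorem toQ_eq_of_equiv {b : ℤ} (hbk : ∀ y : X, b < δ y → δ y ≤ k → δ y = k) {F G : X.Modules}
    (hF : Cyc.CohLe δ k F) (hG : Cyc.CohLe δ k G)
    (e : ∀ x : X, δ x = k → Nonempty (F.presheaf.stalk x ≃ₗ[X.presheaf.stalk x] G.presheaf.stalk x)) :
    Cyc.toK0CohQuot δ k b F = Cyc.toK0CohQuot δ k b G := by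
  classical
  haveI : HasFiniteBiproducts X.Modules := QCoh.hasFiniteBiproducts X
  let ξ : Gens δ k F → X := fun i => i.1
  let M : ∀ i : Gens δ k F, ModuleCat.{u} (X.presheaf.stalk (ξ i)) :=
    fun i => ModuleCat.of (X.presheaf.stalk i.1) (F.presheaf.stalk i.1)
  let gF : ∀ i, F.presheaf.stalk (ξ i) →ₗ[X.presheaf.stalk (ξ i)] M i := fun i => LinearMap.id
  let gG : ∀ i, G.presheaf.stalk (ξ i) →ₗ[X.presheaf.stalk (ξ i)] M i :=
    fun i => (e i.1 i.2.1).some.symm.toLinearMap
  let φ : F ⊞ G ⟶ V M := biprod.desc (toV M F gF) (toV M G gG)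
  have hsplit := (ShortComplex.Splitting.ofHasBinaryBiproduct F G).shortExact
  have hFG : Cyc.CohLe δ k (F ⊞ G) := ⟨KZ.isCoh_X₂ hsplit hF.1 hG.1, fun x hx =>
    (nz_of_shortExact hsplit hx).elim (hF.2 x) (hG.2 x)⟩
  haveI : Epi (toImg φ) := inferInstanceAs (Epi (Abelian.factorThruImage φ))
  have hT : Cyc.CohLe δ k (img φ) := (cls_cohLe δ k).quot (toImg φ) inferInstance
    (isCoh_img hFG.1 (isQCoh_VG hd hF) φ) hFG
  have main : ∀ (H : X.Modules) (hH : Cyc.CohLe δ k H) (j : H ⟶ F ⊞ G)
      (g : ∀ i, H.presheaf.stalk (ξ i) →ₗ[X.presheaf.stalk (ξ i)] M i), j ≫ φ = toV M H g →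
      (∀ i, Function.Bijective (g i)) → (∀ x, δ x = k → NZ H x → NZ F x) →
      Cyc.toK0CohQuot δ k b H = Cyc.toK0CohQuot δ k b (img φ) := by
    intro H hH j g hj hg hnz
    have hle : ∀ y, b < δ y → (NZ H y ∨ NZ (img φ) y) → δ y = k ∧ NZ F y := fun y hb h => by
      have hk : δ y = k := hbk y hb (h.elim (hH.2 y) (hT.2 y))
      refine ⟨hk, h.elim (hnz y hk) fun h' => ?_⟩
      rcases nz_of_shortExact hsplit (h'.of_epi (toImg φ)) with hx | hx
      · exact hx
      · have := (e y hk).some.symm.injective.nontrivial (α := G.presheaf.stalk y)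
        exact this
    refine toQ_eq_of_bijective hH hT (j ≫ toImg φ) fun y hb h => ?_
    obtain ⟨hk, hy⟩ := hle y hb h
    let i : Gens δ k F := ⟨y, hk, hy⟩
    have hb' := toV_bijective (locFinPts_gens hd hF) g i (fun j' h' => gens_eq hd i j' h') (hg i)
    have hfac : (j ≫ toImg φ) ≫ kernel.ι (cokernel.π φ) = toV M H g := by
      rw [Category.assoc, toImg_ι, hj]
    have hb2 : Function.Bijective (fun t => ((DerSch.stalkFunctor X y).map (kernel.ι (cokernel.π φ))).hom
        (((DerSch.stalkFunctor X y).map (j ≫ toImg φ)).hom t)) := by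
      convert hb' using 1
      funext t
      rw [← stalkMap_comp, hfac]
    refine ⟨fun a c hac => hb2.1 (congrArg (fun z => ((DerSch.stalkFunctor X y).map
      (kernel.ι (cokernel.π φ))).hom z) hac), fun v => ?_⟩
    obtain ⟨t, ht⟩ := hb2.2 (((DerSch.stalkFunctor X y).map (kernel.ι (cokernel.π φ))).hom v)
    exact ⟨t, stalk_injective _ y ht⟩
  rw [main F hF biprod.inl gF (biprod.inl_desc _ _) (fun i => Function.bijective_id) fun _ _ h => h,
    main G hG biprod.inr gG (biprod.inr_desc _ _) (fun i => (e i.1 i.2.1).some.symm.bijective) fun x hx h => by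
      haveI := h
      exact (e x hx).some.symm.injective.nontrivial]

end Groth.Agent.DevK
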