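import Groth.Agent.DevK.Frame
import Groth.Agent.DevK.Stroke
import Groth.Agent.DevK.Cycle
import Groth.Agent.CycLib.RatSum

/-! The map from `K₀(Coh_{≤k+1})` to cycles modulo rational equivalence. -/

set_option autoImplicit false
set_option linter.style.haveILetI false
set_option backward.isDefEq.respectTransparency false
set_option backward.isDefEq.respectTransparency.types false

universe u

open CategoryTheory AlgebraicGeometry

namespace Groth.Agent.DevK

open Groth.Agent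

variable {X : Scheme.{u}}

/-- Local finiteness of a family of closed integral subschemes. -/
def LocClos {ι : Type u} (ξ : ι → X) : Prop :=
  ∀ x : X, ∃ U : Set X, IsOpen U ∧ x ∈ U ∧ {i | (closure {ξ i} ∩ U).Nonempty}.Finite

theorem locClos_of_locFinPts {ι : Type u} {ξ : ι → X} (h : LocFinPts ξ) : LocClos ξ := fun x => by
  obtain ⟨U, hx, hf⟩ := h x
  refine ⟨U, U.2, hx, hf.subset ?_⟩
  rintro i ⟨y, hy, hyU⟩
  exact (specializes_iff_mem_closure.2 hy).mem_open U.2 hyU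

variable [IsLocallyNoetherian X] {δ : X → ℤ} (hd : Cyc.IsDimFun X δ) (k : ℤ)

/-- Locally finite sums of principal divisors. -/
def ratSub : AddSubgroup (X → ℤ) where
  carrier := {a | ∃ (ι : Type u) (ξ : ι → X) (f : (i : ι) → X.residueField (ξ i)),
    (∀ i, δ (ξ i) = k + 1) ∧ (∀ i, f i ≠ 0) ∧ LocClos ξ ∧
      ∀ x : X, a x = ∑ᶠ i, Cyc.divFun δ (ξ i) (f i) x}
  zero_mem' := ⟨PEmpty.{u + 1}, fun i => i.elim, fun i => i.elim, fun i => i.elim, fun i => i.elim,
    fun _ => ⟨Set.univ, isOpen_univ, trivial, Set.toFinite _⟩, fun x => by rw [finsum_of_isEmpty]; rfl⟩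
  add_mem' := by
    rintro a b ⟨ι, ξ, f, hξ, hf, hl, ha⟩ ⟨κ, η, g, hη, hg, hm, hb⟩
    have hl' : LocClos (Sum.elim ξ η) := fun x => by
      obtain ⟨U, hU, hxU, hUf⟩ := hl x
      obtain ⟨W, hW, hxW, hWf⟩ := hm x
      refine ⟨U ∩ W, hU.inter hW, ⟨hxU, hxW⟩, ((hUf.image Sum.inl).union (hWf.image Sum.inr)).subset ?_⟩
      rintro (i | j) ⟨y, hy, hyU, hyW⟩
      · exact Or.inl ⟨i, ⟨y, hy, hyU⟩, rfl⟩
      · exact Or.inr ⟨j, ⟨y, hy, hyW⟩, rfl⟩
    let h : (t : ι ⊕ κ) → X.residueField (Sum.elim ξ η t) := fun t => match t with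
      | .inl i => f i
      | .inr j => g j
    refine ⟨ι ⊕ κ, Sum.elim ξ η, h, Sum.rec hξ hη, Sum.rec hf hg, hl', fun x => ?_⟩
    rw [Pi.add_apply, ha x, hb x]
    have hfin := CycLib.finite_index (δ := δ) (Sum.elim ξ η) h hl' x
    rw [← finsum_mem_univ (fun t => Cyc.divFun δ (Sum.elim ξ η t) (h t) x),
      show (Set.univ : Set (ι ⊕ κ)) = Set.range Sum.inl ∪ Set.range Sum.inr from
        Set.range_inl_union_range_inr.symm,
      finsum_mem_union' Set.isCompl_range_inl_range_inr.disjoint (hfin.inter_of_right _) (hfin.inter_of_right _),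
      finsum_mem_range Sum.inl_injective, finsum_mem_range Sum.inr_injective]
    rfl
  neg_mem' := by
    rintro a ⟨ι, ξ, f, hξ, hf, hl, ha⟩
    refine ⟨ι, ξ, fun i => (f i)⁻¹, hξ, fun i => inv_ne_zero (hf i), hl, fun x => ?_⟩
    rw [Pi.neg_apply, ha x, ← finsum_neg_distrib]
    exact finsum_congr fun i => by rw [CycLib.divFun_inv hd (hf i), Pi.neg_apply]

theorem mem_ratSub_iff {α : AlgebraicCycle X ℤ} : ⇑α ∈ ratSub hd k ↔ Cyc.RatEquivZero δ k α := Iff.rfl

/-- A choice of tuples at all points. -/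
abbrev Frs (F : X.Modules) : Type u := ∀ ξ : X, Fr F ξ

/-- Minimal generating tuples in dimension `k + 1`. -/
def IsFrs (δ : X → ℤ) (k : ℤ) (F : X.Modules) (fr : Frs F) : Prop :=
  ∀ ξ : X, δ ξ = k + 1 → IsFr F ξ (fr ξ)

variable {k}

include hd in
theorem exists_isFrs {F : X.Modules} (hF : cohSS δ (k + 1) F) : ∃ fr : Frs F, IsFrs δ k F fr := by
  have : ∀ ξ : X, ∃ v : Fr F ξ, δ ξ = k + 1 → IsFr F ξ v := fun ξ => by
    by_cases hξ : δ ξ = k + 1
    · obtain ⟨v, hv⟩ := exists_isFr (fun r hr t => hF.2 ξ hξ r hr t) (length_lt_top_of_cohLe hd hF.1 hξ.ge)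
      exact ⟨v, fun _ => hv⟩
    · exact ⟨⟨0, Fin.elim0⟩, fun h => absurd h hξ⟩
  choose fr hfr using this
  exact ⟨fr, hfr⟩

/-- The branches through a point. -/
abbrev Jx (δ : X → ℤ) (k : ℤ) (F : X.Modules) (x : X) : Type u := {ξ : Gens δ (k + 1) F // ξ.1 ⤳ x}

include hd in
theorem finite_Jx {F : X.Modules} (hF : cohSS δ (k + 1) F) (x : X) : Finite (Jx δ k F x) := by
  obtain ⟨U, hx, hf⟩ := locFinPts_gens hd hF.1 x
  haveI := hf.to_subtype
  exact Finite.of_injective (fun j : Jx δ k F x => (⟨j.1, j.2.mem_open U.2 hx⟩ : {i : Gens δ (k + 1) F | i.1 ∈ U}))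
    fun a b h => Subtype.ext (congrArg (fun z : {i : Gens δ (k + 1) F | i.1 ∈ U} => z.1) h)

include hd in
/-- The value of the invariant at a point. -/
noncomputable def evx {F : X.Modules} (hF : cohSS δ (k + 1) F) (fr : Frs F) (x : X) : ℤ :=
  letI : Fintype (Jx δ k F x) := @Fintype.ofFinite _ (finite_Jx hd hF x)
  evl (fun j : Jx δ k F x => gmap F j.2 (hF.2 j.1.1 j.1.2.1))
    fun j : Jx δ k F x => frLat j.2 (hF.2 j.1.1 j.1.2.1) (fr j.1.1)

include hd in
/-- The invariant as a function. -/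
noncomputable def eFun {F : X.Modules} (hF : cohSS δ (k + 1) F) (fr : Frs F) : X → ℤ :=
  fun x => if δ x = k then evx hd hF fr x else 0

include hd in
theorem branches_Jx (F : X.Modules) {x : X} (hx : δ x = k) [Fintype (Jx δ k F x)] :
    Branches (X.presheaf.stalk x) (fun j : Jx δ k F x => RK j.2) :=
  branches_RK hd (fun j : Jx δ k F x => j.1.1) (fun _ _ h => Subtype.ext (Subtype.ext h)) (fun j => j.2) hx
    fun j => j.1.2.1

omit [IsLocallyNoetherian X] in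
include hd in
theorem genMap_Jx {F G : X.Modules} (hG : cohSS δ (k + 1) G)
    (hGF : ∀ y, δ y = k + 1 → NZ G y → NZ F y) {x : X} (hx : δ x = k) [Fintype (Jx δ k F x)] :
    GenMap (R := X.presheaf.stalk x) (W := fun j : Jx δ k F x => GV G j.2 (hG.2 j.1.1 j.1.2.1))
      (fun j : Jx δ k F x => RK j.2) (G.presheaf.stalk x) (fun j => gmap G j.2 (hG.2 j.1.1 j.1.2.1)) :=
  genMap_gmap hd (fun j : Jx δ k F x => j.1.1) (fun j => j.2) hx hG.1 (fun j => hG.2 j.1.1 j.1.2.1)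
    fun y hy hk hn => ⟨⟨⟨y, hk, hGF y hk hn⟩, hy⟩, rfl⟩

include hd in
/-- Changing frames changes the invariant by principal divisors. -/
theorem eFun_sub_mem {F : X.Modules} (hF : cohSS δ (k + 1) F) {fr fr' : Frs F} (h : IsFrs δ k F fr)
    (h' : IsFrs δ k F fr') : eFun hd hF fr - eFun hd hF fr' ∈ ratSub hd k := by
  have hdet := fun ξ : Gens δ (k + 1) F => exists_det hd (hF.2 ξ.1 ξ.2.1) (h ξ.1 ξ.2.1) (h' ξ.1 ξ.2.1)
  choose f hf0 hf using hdet
  refine ⟨Gens δ (k + 1) F, fun ξ => ξ.1, f, fun ξ => ξ.2.1, hf0,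
    locClos_of_locFinPts (locFinPts_gens hd hF.1), fun x => ?_⟩
  rw [Pi.sub_apply]
  unfold eFun
  by_cases hx : δ x = k
  · rw [if_pos hx, if_pos hx]
    letI : Fintype (Jx δ k F x) := @Fintype.ofFinite _ (finite_Jx hd hF x)
    have e := ev_sub (branches_Jx hd F hx) (genMap_Jx hd hF (fun _ _ h => h) hx)
      (L := fun j => frLat j.2 (hF.2 j.1.1 j.1.2.1) (fr j.1.1))
      (L' := fun j => frLat j.2 (hF.2 j.1.1 j.1.2.1) (fr' j.1.1))
      (fun j => isLat_frLat _ _ (h j.1.1 j.1.2.1)) (fun j => isLat_frLat _ _ (h' j.1.1 j.1.2.1))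
    refine Eq.trans (by exact e) ?_
    rw [← finsum_eq_sum_of_fintype]
    have e2 : ∀ j : Jx δ k F x, IntThLib.dist (frLat j.2 (hF.2 j.1.1 j.1.2.1) (fr' j.1.1))
        (frLat j.2 (hF.2 j.1.1 j.1.2.1) (fr j.1.1)) = Cyc.divFun δ j.1.1 (f j.1) x := fun j => by
      have hj : δ x + 1 = δ j.1.1 := by rw [hx, j.1.2.1]
      rw [hf j.1 x j.2 hj, CycLib.divFun_eq δ _ j.2 hj]
    rw [finsum_congr e2, finsum_subtype_eq_finsum_cond (f := fun ξ : Gens δ (k + 1) F => Cyc.divFun δ ξ.1 (f ξ) x) (fun ξ => ξ.1 ⤳ x)]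
    refine finsum_congr fun ξ => ?_
    classical
    rw [finsum_eq_if]
    split_ifs with hs
    · rfl
    · exact (CycLib.divFun_eq_zero_of_not_specializes δ _ hs).symm
  · rw [if_neg hx, if_neg hx, sub_self, finsum_eq_zero_of_forall_eq_zero]
    intro ξ
    exact CycLib.divFun_eq_zero_of_delta δ _ fun hh => hx (by rw [ξ.2.1] at hh; omega)

omit [IsLocallyNoetherian X] in
theorem stalkLin_specializes {A B : X.Modules} (φ : A ⟶ B) {x ξ : X} (h : ξ ⤳ x) (t : A.presheaf.stalk x) :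
    CycLib.stalkLin φ ξ (A.presheaf.stalkSpecializes h t) =
      B.presheaf.stalkSpecializes h (CycLib.stalkLin φ x t) := by
  obtain ⟨U, hx, s, rfl⟩ := A.presheaf.exists_germ_eq t
  show CycLib.stalkAdd φ ξ _ = B.presheaf.stalkSpecializes h (CycLib.stalkAdd φ x _)
  rw [TopCat.Presheaf.germ_stalkSpecializes_apply, CycLib.stalkAdd_germ, CycLib.stalkAdd_germ,
    TopCat.Presheaf.germ_stalkSpecializes_apply]

/-- The map of generic values. -/
noncomputable def gvMap {A B : X.Modules} (φ : A ⟶ B) {x ξ : X} (h : ξ ⤳ x) (hA : KillAt A ξ) (hB : KillAt B ξ) :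
    GV A h hA →ₗ[X.presheaf.stalk x] GV B h hB where
  toFun t := CycLib.stalkLin φ ξ t
  map_add' := map_add (CycLib.stalkLin φ ξ)
  map_smul' r t := (CycLib.stalkLin φ ξ).map_smul (X.presheaf.stalkSpecializes h r) t

/-- A combined frame. -/
noncomputable def frAppend {F : X.Modules} {ξ : X} {n m : ℕ} (a : Fin n → F.presheaf.stalk ξ)
    (b : Fin m → F.presheaf.stalk ξ) : Fr F ξ := ⟨n + m, Fin.append a b⟩

omit [IsLocallyNoetherian X] in
theorem sum_smul_gv {F : X.Modules} {x ξ : X} (h : ξ ⤳ x) (hs : KillAt F ξ) {n : ℕ}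
    (c : Fin n → X.presheaf.stalk x) (t : Fin n → GV F h hs) :
    ∑ i, c i • t i = ∑ i, algebraMap (X.presheaf.stalk x) (RK h) (c i) • t i :=
  Finset.sum_congr rfl fun i _ => (algebraMap_smul (RK h) (c i) (t i)).symm

omit [IsLocallyNoetherian X] in
/-- A combined frame induces compatible lattices. -/
theorem frAppend_lat {A B C : X.Modules} (f : A ⟶ B) (g : B ⟶ C) {x ξ : X} (h : ξ ⤳ x) (hA : KillAt A ξ)
    (hB : KillAt B ξ) (hC : KillAt C ξ) {v' : Fr A ξ} {v'' : Fr C ξ} (hv'' : IsFr C ξ v'')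
    (lift : Fin v''.1 → B.presheaf.stalk ξ) (hlift : ∀ i, CycLib.stalkLin g ξ (lift i) = v''.2 i)
    (hinj : Function.Injective (CycLib.stalkLin f ξ))
    (hex : Function.Exact (CycLib.stalkLin f ξ) (CycLib.stalkLin g ξ)) :
    let v : Fr B ξ := frAppend (fun i => CycLib.stalkLin f ξ (v'.2 i)) lift
    (frLat h hB v).comap (gvMap f h hA hB) = frLat h hA v' ∧
      (frLat h hB v).map (gvMap g h hB hC) = frLat h hC v'' := by
  intro v
  have h0 : ∀ i, gvMap g h hB hC (gvMap f h hA hB (frVal h hA v' i)) = 0 := fun i =>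
    hex.apply_apply_eq_zero (v'.2 i)
  have hval1 : ∀ i, frVal h hB v (Fin.castAdd _ i) = gvMap f h hA hB (frVal h hA v' i) := fun i =>
    Fin.append_left (fun i => CycLib.stalkLin f ξ (v'.2 i)) lift i
  have hval2 : ∀ i, frVal h hB v (Fin.natAdd _ i) = toGV h hB (lift i) := fun i =>
    Fin.append_right (fun i => CycLib.stalkLin f ξ (v'.2 i)) lift i
  have hg : ∀ i, gvMap g h hB hC (toGV h hB (lift i)) = frVal h hC v'' i := hlift
  refine ⟨le_antisymm (fun y hy => ?_) ?_, le_antisymm ?_ ?_⟩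
  · obtain ⟨c, hc⟩ := (Submodule.mem_span_range_iff_exists_fun _).1 hy
    change Fin (v'.1 + v''.1) → _ at c
    have hc' : ∑ i, c (Fin.castAdd _ i) • gvMap f h hA hB (frVal h hA v' i) +
        ∑ i, c (Fin.natAdd _ i) • toGV h hB (lift i) = gvMap f h hA hB y := by
      rw [← hc]
      refine (Eq.trans ?_ (Fin.sum_univ_add (fun i : Fin (v'.1 + v''.1) => c i • frVal h hB v i)).symm :)
      exact congrArg₂ (· + ·) (Finset.sum_congr rfl fun i _ => by rw [hval1])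
        (Finset.sum_congr rfl fun i _ => by rw [hval2])
    have hz : ∑ i, algebraMap (X.presheaf.stalk x) (RK h) (c (Fin.natAdd _ i)) • frVal h hC v'' i = 0 := by
      have e := congrArg (gvMap g h hB hC) hc'
      rw [map_add, map_sum, map_sum] at e
      simp only [map_smul, h0, smul_zero, Finset.sum_const_zero, zero_add, hg] at e
      rw [← sum_smul_gv, e]
      exact hex.apply_apply_eq_zero y
    have hli : LinearIndependent (RK h) (frVal h hC v'') := by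
      have := (frBasis h hC hv'').linearIndependent
      rwa [show ⇑(frBasis h hC hv'') = frVal h hC v'' from funext (frBasis_apply h hC hv'')] at this
    have hd0 := Fintype.linearIndependent_iff.1 hli _ hz
    have hrest : ∑ i, c (Fin.natAdd _ i) • toGV h hB (lift i) = 0 :=
      Finset.sum_eq_zero fun i _ => by rw [← algebraMap_smul (RK h), hd0 i, zero_smul]
    rw [hrest, add_zero] at hc'
    refine (Submodule.mem_span_range_iff_exists_fun _).2 ⟨fun i => c (Fin.castAdd _ i), hinj ?_⟩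
    show gvMap f h hA hB _ = gvMap f h hA hB y
    rw [map_sum, ← hc']
    exact Finset.sum_congr rfl fun i _ => map_smul _ _ _
  · rw [← Submodule.map_le_iff_le_comap, frLat, Submodule.map_span_le]
    rintro _ ⟨i, rfl⟩
    exact Submodule.subset_span ⟨Fin.castAdd _ i, hval1 i⟩
  · rw [frLat, Submodule.map_span_le]
    rintro _ ⟨i, rfl⟩
    change Fin (v'.1 + v''.1) at i
    refine Fin.addCases (fun j => ?_) (fun j => ?_) i
    · rw [hval1, h0]; exact zero_mem _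
    · rw [hval2, hg]; exact Submodule.subset_span ⟨j, rfl⟩
  · rw [frLat, Submodule.span_le]
    rintro _ ⟨i, rfl⟩
    refine ⟨frVal h hB v (Fin.natAdd _ i), Submodule.subset_span ⟨_, rfl⟩, ?_⟩
    rw [hval2, hg]

include hd in
/-- The invariant is additive up to principal divisors. -/
theorem eFun_additive {S : ShortComplex X.Modules} (hS : S.ShortExact) (h₁ : cohSS δ (k + 1) S.X₁)
    (h₂ : cohSS δ (k + 1) S.X₂) (h₃ : cohSS δ (k + 1) S.X₃) {fr₁ : Frs S.X₁} {fr₂ : Frs S.X₂} {fr₃ : Frs S.X₃}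
    (g₁ : IsFrs δ k S.X₁ fr₁) (g₂ : IsFrs δ k S.X₂ fr₂) (g₃ : IsFrs δ k S.X₃ fr₃) :
    eFun hd h₂ fr₂ - (eFun hd h₁ fr₁ + eFun hd h₃ fr₃) ∈ ratSub hd k := by
  classical
  have hst := fun y => CycLib.stalk_shortExact hS h₁.1.1.1 h₂.1.1.1 h₃.1.1.1 y
  have hlift : ∀ ξ, ∃ l : Fin (fr₃ ξ).1 → S.X₂.presheaf.stalk ξ,
      ∀ i, CycLib.stalkLin S.g ξ (l i) = (fr₃ ξ).2 i := fun ξ =>
    ⟨fun i => ((hst ξ).2.2 ((fr₃ ξ).2 i)).choose, fun i => ((hst ξ).2.2 ((fr₃ ξ).2 i)).choose_spec⟩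
  choose l hl using hlift
  let fr : Frs S.X₂ := fun ξ => frAppend (fun i => CycLib.stalkLin S.f ξ ((fr₁ ξ).2 i)) (l ξ)
  have hfr : IsFrs δ k S.X₂ fr := fun ξ hξ => by
    refine ⟨eq_top_iff.2 fun t _ => ?_, ?_⟩
    · obtain ⟨c, hc⟩ := (Submodule.mem_span_range_iff_exists_fun _).1
        ((g₃ ξ hξ).1 ▸ (Submodule.mem_top : CycLib.stalkLin S.g ξ t ∈ ⊤))
      have h0 : CycLib.stalkLin S.g ξ (t - ∑ i, c i • l ξ i) = 0 := by
        rw [map_sub, map_sum, ← hc, sub_eq_zero]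
        exact Finset.sum_congr rfl fun i _ => by rw [map_smul, hl]
      obtain ⟨a, ha⟩ := ((hst ξ).2.1 _).1 h0
      obtain ⟨d, hd'⟩ := (Submodule.mem_span_range_iff_exists_fun _).1
        ((g₁ ξ hξ).1 ▸ (Submodule.mem_top : a ∈ ⊤))
      have ht : t = CycLib.stalkLin S.f ξ a + ∑ i, c i • l ξ i := by rw [ha, sub_add_cancel]
      rw [ht, ← hd', map_sum]
      refine add_mem (sum_mem fun i _ => ?_) (sum_mem fun i _ => ?_)
      · rw [map_smul]
        exact Submodule.smul_mem _ _ (Submodule.subset_span ⟨Fin.castAdd _ i, by exact Fin.append_left (fun i => CycLib.stalkLin S.f ξ ((fr₁ ξ).2 i)) (l ξ) i⟩)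
      · exact Submodule.smul_mem _ _ (Submodule.subset_span ⟨Fin.natAdd _ i, by exact Fin.append_right (fun i => CycLib.stalkLin S.f ξ ((fr₁ ξ).2 i)) (l ξ) i⟩)
    · show (((fr₁ ξ).1 + (fr₃ ξ).1 : ℕ) : ℕ∞) = _
      rw [Nat.cast_add, (g₁ ξ hξ).2, (g₃ ξ hξ).2,
        CycLib.length_stalk_shortExact hS h₁.1.1.1 h₂.1.1.1 h₃.1.1.1 ξ]
  have key : eFun hd h₂ fr = eFun hd h₁ fr₁ + eFun hd h₃ fr₃ := by
    funext x
    unfold eFun
    by_cases hx : δ x = k
    swap
    · simp [hx]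
    simp only [Pi.add_apply, if_pos hx]
    haveI := hS.mono_f
    haveI := hS.epi_g
    have n1 : ∀ y, δ y = k + 1 → NZ S.X₁ y → NZ S.X₂ y := fun y _ h => h.of_mono S.f
    have n3 : ∀ y, δ y = k + 1 → NZ S.X₃ y → NZ S.X₂ y := fun y _ h => h.of_epi S.g
    letI : Fintype (Jx δ k S.X₂ x) := @Fintype.ofFinite _ (finite_Jx hd h₂ x)
    letI : Fintype (Jx δ k S.X₁ x) := @Fintype.ofFinite _ (finite_Jx hd h₁ x)
    letI : Fintype (Jx δ k S.X₃ x) := @Fintype.ofFinite _ (finite_Jx hd h₃ x)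
    have hlat := fun j : Jx δ k S.X₂ x => frAppend_lat S.f S.g j.2 (h₁.2 j.1.1 j.1.2.1) (h₂.2 j.1.1 j.1.2.1)
      (h₃.2 j.1.1 j.1.2.1) (v' := fr₁ j.1.1) (g₃ j.1.1 j.1.2.1) (l j.1.1) (hl j.1.1) (hst j.1.1).1 (hst j.1.1).2.1
    have hB := branches_Jx hd S.X₂ hx
    have hm1 := genMap_Jx hd h₁ n1 hx
    have hm2 := genMap_Jx hd h₂ (fun _ _ h => h) hx
    have hm3 := genMap_Jx hd h₃ n3 hx
    have hL1 := fun j : Jx δ k S.X₂ x => isLat_frLat j.2 (h₁.2 j.1.1 j.1.2.1) (g₁ j.1.1 j.1.2.1)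
    have hL3 := fun j : Jx δ k S.X₂ x => isLat_frLat j.2 (h₃.2 j.1.1 j.1.2.1) (g₃ j.1.1 j.1.2.1)
    have E := ev_additive hB (i := CycLib.stalkLin S.f x) (π := CycLib.stalkLin S.g x) (hst x).1 (hst x).2.2
      (hst x).2.1 (a := fun j => gvMap S.f j.2 (h₁.2 j.1.1 j.1.2.1) (h₂.2 j.1.1 j.1.2.1))
      (b := fun j => gvMap S.g j.2 (h₂.2 j.1.1 j.1.2.1) (h₃.2 j.1.1 j.1.2.1))
      (fun j => (hst j.1.1).1) (fun j => (hst j.1.1).2.1)
      (fun j => LinearMap.ext fun t => stalkLin_specializes S.f j.2 t)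
      (fun j => LinearMap.ext fun t => stalkLin_specializes S.g j.2 t) hm1 hm2 hm3
      hL1 (fun j => isLat_frLat j.2 (h₂.2 j.1.1 j.1.2.1) (hfr j.1.1 j.1.2.1)) hL3
      (fun j => (hlat j).1) (fun j => (hlat j).2)
    refine E.trans (congrArg₂ (· + ·) ?_ ?_)
    · exact ev_subtype hB hm1 hL1 (J' := Jx δ k S.X₁ x)
        (fun j => ⟨⟨j.1.1, j.1.2.1, n1 _ j.1.2.1 j.1.2.2⟩, j.2⟩)
        (fun a b h => Subtype.ext (Subtype.ext (congrArg (fun c : Jx δ k S.X₂ x => c.1.1) h)))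
        fun j hj => not_nontrivial_iff_subsingleton.1 fun hn => hj ⟨⟨j.1.1, j.1.2.1, hn⟩, j.2⟩ rfl
    · exact ev_subtype hB hm3 hL3 (J' := Jx δ k S.X₃ x)
        (fun j => ⟨⟨j.1.1, j.1.2.1, n3 _ j.1.2.1 j.1.2.2⟩, j.2⟩)
        (fun a b h => Subtype.ext (Subtype.ext (congrArg (fun c : Jx δ k S.X₂ x => c.1.1) h)))
        fun j hj => not_nontrivial_iff_subsingleton.1 fun hn => hj ⟨⟨j.1.1, j.1.2.1, hn⟩, j.2⟩ rfl
  rw [← key]
  exact eFun_sub_mem hd h₂ g₂ hfr

include hd in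
/-- In dimension `≤ k` the invariant is the cycle of the module. -/
theorem eFun_small {F : X.Modules} (hF : Cyc.CohLe δ k F) (hF' : cohSS δ (k + 1) F) (fr : Frs F) :
    eFun hd hF' fr = Cyc.sheafFun δ k F := by
  funext x
  unfold eFun Cyc.sheafFun
  split_ifs with hx
  swap
  · rfl
  haveI hE : IsEmpty (Jx δ k F x) := ⟨fun j => by
    have h1 := hF.2 _ j.1.2.2
    have h2 := j.1.2.1
    omega⟩
  unfold evx evl
  letI : Fintype (Jx δ k F x) := @Fintype.ofFinite _ (finite_Jx hd hF' x)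
  have h0 : ∀ (N : ∀ j : Jx δ k F x, Submodule (X.presheaf.stalk x) (GV F j.2 (hF'.2 j.1.1 j.1.2.1)))
      (h : ∀ j, LinearMap.range (gmap F j.2 (hF'.2 j.1.1 j.1.2.1)) ≤ N j),
      idx (toPi (fun j : Jx δ k F x => gmap F j.2 (hF'.2 j.1.1 j.1.2.1)) N h) =
        ((Module.length (X.presheaf.stalk x) (F.presheaf.stalk x)).toNat : ℤ) := fun N h => by
    haveI : Subsingleton ↥(Submodule.pi Set.univ N) := ⟨fun a b => Subtype.ext (funext fun j => hE.elim j)⟩
    rw [idx]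
    have hk : LinearMap.ker (toPi (fun j : Jx δ k F x => gmap F j.2 (hF'.2 j.1.1 j.1.2.1)) N h) = ⊤ :=
      eq_top_iff.2 fun t _ => Subsingleton.elim _ _
    haveI : Subsingleton (↥(Submodule.pi Set.univ N) ⧸ LinearMap.range
        (toPi (fun j : Jx δ k F x => gmap F j.2 (hF'.2 j.1.1 j.1.2.1)) N h)) :=
      (Submodule.Quotient.mk_surjective _).subsingleton
    rw [hk, Module.length_top, Module.length_eq_zero (M := ↥(Submodule.pi Set.univ N) ⧸ _)]
    simp
  rw [h0, Finset.sum_of_isEmpty, add_zero]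

include hd in
/-- The map to cycles modulo rational equivalence. -/
theorem exists_Phi (k : ℤ) : ∃ Φ : KZero.K0sub (Cyc.CohLe δ (k + 1)) →+ (X → ℤ) ⧸ ratSub hd k,
    ∀ F : X.Modules, Cyc.CohLe δ k F →
      Φ (KZero.clSub (Cyc.CohLe δ (k + 1)) F) = QuotientAddGroup.mk (Cyc.sheafFun δ k F) := by
  classical
  let φ0 : X.Modules → (X → ℤ) ⧸ ratSub hd k := fun F =>
    if h : cohSS δ (k + 1) F then QuotientAddGroup.mk (eFun hd h (exists_isFrs hd h).choose) else 0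
  obtain ⟨Φ₀, hΦ₀⟩ := KZ.exists_liftSub (cohSS δ (k + 1)) φ0 fun S hS a b c => by
    simp only [φ0, dif_pos a, dif_pos b, dif_pos c]
    rw [← QuotientAddGroup.mk_add, QuotientAddGroup.eq_iff_sub_mem]
    exact eFun_additive hd hS a b c (exists_isFrs hd a).choose_spec (exists_isFrs hd b).choose_spec
      (exists_isFrs hd c).choose_spec
  obtain ⟨φ, hφ, -⟩ := devissage (cls_cohLe δ (k + 1)) (cls_cohSS δ (k + 1)) (fun _ h => h.1)
    fun F hF => exists_fil_cohSS hd hF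
  refine ⟨Φ₀.comp φ.symm.toAddMonoidHom, fun F hF => ?_⟩
  have hF' : cohSS δ (k + 1) F := ⟨⟨hF.1, fun y hy => by have := hF.2 y hy; omega⟩, fun y hy r _ t => by
    haveI : Subsingleton (F.presheaf.stalk y) := not_nontrivial_iff_subsingleton.1 fun hn => by
      have := hF.2 y hn; omega
    exact Subsingleton.elim _ _⟩
  show Φ₀ (φ.symm _) = _
  rw [← hφ F hF', φ.symm_apply_apply, hΦ₀ F hF']
  simp only [φ0, dif_pos hF']
  rw [eFun_small hd hF hF']

include hd in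
theorem exists_Phi_quot (k : ℤ) : ∃ Φ : Cyc.K0CohQuot δ (k + 1) (k - 1) →+ (X → ℤ) ⧸ ratSub hd k,
    ∀ F : X.Modules, Cyc.CohLe δ k F →
      Φ (Cyc.toK0CohQuot δ (k + 1) (k - 1) F) = QuotientAddGroup.mk (Cyc.sheafFun δ k F) := by
  obtain ⟨Φ, hΦ⟩ := exists_Phi hd k
  refine ⟨QuotientAddGroup.lift _ Φ ?_, fun F hF => hΦ F hF⟩
  rw [AddSubgroup.closure_le]
  rintro c ⟨F, hF, rfl⟩
  have hk : Cyc.CohLe δ k F := ⟨hF.1, fun y hy => by have := hF.2 y hy; omega⟩
  rw [SetLike.mem_coe, AddMonoidHom.mem_ker, hΦ F hk, QuotientAddGroup.eq_zero_iff]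
  have : Cyc.sheafFun δ k F = 0 := by
    funext x
    unfold Cyc.sheafFun
    split_ifs with hx
    · haveI : Subsingleton (F.presheaf.stalk x) := not_nontrivial_iff_subsingleton.1 fun h => by
        have := hF.2 x h; omega
      rw [Module.length_eq_zero]
      rfl
    · rfl
  rw [this]
  exact zero_mem _

end Groth.Agent.DevK
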