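import Groth.Agent.DevK.Sigma
import Groth.Agent.ARLib.SubobjLattice
import Groth.Agent.KZ.Basic
import Groth.Agent.KZ.CohClass

/-! Coherent subobjects and their subquotients. -/

set_option autoImplicit false
set_option linter.style.haveILetI false

universe u

open CategoryTheory CategoryTheory.Limits AlgebraicGeometry TopologicalSpace Opposite

namespace Groth.Agent.DevK

open Groth.Agent SubLat

variable {X : Scheme.{u}} {M N : X.Modules}

/-- The underlying module of a subobject is coherent. -/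
abbrev CSub (a : Subobject M) : Prop := Coh.IsCoh (a : X.Modules)

/-- The subquotient `a / (a ⊓ b)`. -/
noncomputable def qt (a b : Subobject M) : X.Modules :=
  cokernel (Subobject.ofLE (a ⊓ b) a inf_le_left)

/-- The projection onto the subquotient. -/
noncomputable def qtπ (a b : Subobject M) : (a : X.Modules) ⟶ qt a b := cokernel.π _

instance epi_qtπ (a b : Subobject M) : Epi (qtπ a b) :=
  coequalizer.π_epi

theorem qt_congr {a a' b b' : Subobject M} (ha : a = a') (hb : a ⊓ b = a' ⊓ b') : qt a b = qt a' b' := by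
  subst ha
  have key : ∀ (c c' : Subobject M) (h : c ≤ a) (h' : c' ≤ a), c = c' →
      cokernel (Subobject.ofLE c a h) = cokernel (Subobject.ofLE c' a h') := by
    intro c c' h h' e
    subst e
    rfl
  exact key _ _ _ _ hb

theorem comp_qtπ_eq_zero_iff {a b : Subobject M} {W : X.Modules} (x : W ⟶ (a : X.Modules)) :
    x ≫ qtπ a b = 0 ↔ b.Factors (x ≫ a.arrow) := by
  constructor
  · intro h
    obtain ⟨l, hl⟩ := KernelFork.IsLimit.lift' (Abelian.monoIsKernelOfCokernel _
      (cokernelIsCokernel (Subobject.ofLE (a ⊓ b) a inf_le_left))) x h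
    have hl' : l ≫ Subobject.ofLE (a ⊓ b) a inf_le_left = x := hl
    rw [← hl', Category.assoc, Subobject.ofLE_arrow]
    exact Subobject.factors_of_le _ (inf_le_right (a := a) (b := b))
      (Subobject.factors_of_factors_right _ (Subobject.factors_self _))
  · intro h
    have hi : (a ⊓ b).Factors (x ≫ a.arrow) :=
      (Subobject.inf_factors _).2 ⟨Subobject.factors_of_factors_right _ (Subobject.factors_self _), h⟩
    have hl : (a ⊓ b).factorThru _ hi ≫ Subobject.ofLE (a ⊓ b) a inf_le_left = x := by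
      rw [← cancel_mono a.arrow, Category.assoc, Subobject.ofLE_arrow, Subobject.factorThru_arrow]
    rw [← hl, Category.assoc, qtπ]
    exact (congrArg (_ ≫ ·) (cokernel.condition _)).trans comp_zero

/-- The canonical sequence of a subquotient. -/
noncomputable def subSeq (a b : Subobject M) : ShortComplex X.Modules :=
  ShortComplex.mk (Subobject.ofLE (a ⊓ b) a inf_le_left) (qtπ a b) (cokernel.condition _)

theorem subSeq_shortExact (a b : Subobject M) : (subSeq a b).ShortExact :=
  .mk' (ShortComplex.exact_of_g_is_cokernel _ (cokernelIsCokernel _))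
    (inferInstanceAs (Mono (Subobject.ofLE (a ⊓ b) a inf_le_left))) (inferInstanceAs (Epi (qtπ a b)))

/-- The map `a'/(a' ⊓ c) → a/(a ⊓ c)`. -/
noncomputable def qtIn {a a' : Subobject M} (h : a' ≤ a) (c : Subobject M) : qt a' c ⟶ qt a c :=
  cokernel.desc _ (Subobject.ofLE a' a h ≫ qtπ a c) (by
    rw [← Category.assoc, comp_qtπ_eq_zero_iff, Category.assoc, Subobject.ofLE_arrow,
      Subobject.ofLE_arrow]
    exact Subobject.factors_of_le _ inf_le_right (Subobject.factors_self _))

theorem qtπ_qtIn {a a' : Subobject M} (h : a' ≤ a) (c : Subobject M) :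
    qtπ a' c ≫ qtIn h c = Subobject.ofLE a' a h ≫ qtπ a c := cokernel.π_desc _ _ _

instance mono_qtIn {a a' : Subobject M} (h : a' ≤ a) (c : Subobject M) : Mono (qtIn h c) := by
  refine Preadditive.mono_of_cancel_zero _ fun {W} z hz => ?_
  obtain ⟨W', r, hr, y, hy⟩ := surjective_up_to_refinements_of_epi (qtπ a' c) z
  rw [← cancel_epi r, comp_zero, hy, comp_qtπ_eq_zero_iff]
  have h0 : (y ≫ Subobject.ofLE a' a h) ≫ qtπ a c = 0 := by
    rw [Category.assoc, ← qtπ_qtIn, ← Category.assoc, ← hy, Category.assoc, hz, comp_zero]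
  rw [comp_qtπ_eq_zero_iff, Category.assoc, Subobject.ofLE_arrow] at h0
  exact h0

/-- The map `a/(a ⊓ c) → a/(a ⊓ d)` for `a ⊓ c ≤ d`. -/
noncomputable def qtOut {a c d : Subobject M} (h : a ⊓ c ≤ d) : qt a c ⟶ qt a d :=
  cokernel.desc _ (qtπ a d) (by
    rw [comp_qtπ_eq_zero_iff, Subobject.ofLE_arrow]
    exact Subobject.factors_of_le _ h (Subobject.factors_self _))

theorem qtπ_qtOut {a c d : Subobject M} (h : a ⊓ c ≤ d) : qtπ a c ≫ qtOut h = qtπ a d :=
  cokernel.π_desc _ _ _

instance epi_qtOut {a c d : Subobject M} (h : a ⊓ c ≤ d) : Epi (qtOut h) := by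
  have : Epi (qtπ a c ≫ qtOut h) := by rw [qtπ_qtOut]; infer_instance
  exact epi_of_epi (qtπ a c) _

theorem qtIn_qtOut {a a' : Subobject M} (h : a' ≤ a) (c : Subobject M) :
    qtIn h c ≫ qtOut (le_sup_left : a ⊓ c ≤ a ⊓ c ⊔ a') = 0 := by
  rw [← cancel_epi (qtπ a' c), ← Category.assoc, qtπ_qtIn, Category.assoc, qtπ_qtOut, comp_zero,
    comp_qtπ_eq_zero_iff, Subobject.ofLE_arrow]
  exact Subobject.factors_of_le _ le_sup_right (Subobject.factors_self _)

/-- `0 → a'/(a' ⊓ c) → a/(a ⊓ c) → a/((a ⊓ c) ⊔ a') → 0`. -/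
noncomputable def qtSeq {a a' : Subobject M} (h : a' ≤ a) (c : Subobject M) : ShortComplex X.Modules :=
  ShortComplex.mk (qtIn h c) (qtOut (le_sup_left : a ⊓ c ≤ a ⊓ c ⊔ a')) (qtIn_qtOut h c)

theorem qtSeq_shortExact {a a' : Subobject M} (h : a' ≤ a) (c : Subobject M) :
    (qtSeq h c).ShortExact := by
  refine .mk' ?_ (mono_qtIn h c) (epi_qtOut (le_sup_left : a ⊓ c ≤ a ⊓ c ⊔ a'))
  rw [ShortComplex.exact_iff_exact_up_to_refinements]
  intro W z hz
  dsimp [qtSeq] at z hz ⊢
  obtain ⟨W₁, r, hr, y, hy⟩ := surjective_up_to_refinements_of_epi (qtπ a c) z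
  have h0 : y ≫ qtπ a (a ⊓ c ⊔ a') = 0 := by
    rw [← qtπ_qtOut (le_sup_left : a ⊓ c ≤ a ⊓ c ⊔ a'), ← Category.assoc, ← hy, Category.assoc, hz]
    exact comp_zero
  rw [comp_qtπ_eq_zero_iff, sup_factors_iff] at h0
  obtain ⟨W₂, r', hr', s, t, hs, ht, e⟩ := h0
  refine ⟨W₂, r' ≫ r, inferInstance, a'.factorThru t ht ≫ qtπ a' c, ?_⟩
  have hd : r' ≫ y - a'.factorThru t ht ≫ Subobject.ofLE a' a h = (a ⊓ c).factorThru s hs ≫
      Subobject.ofLE (a ⊓ c) a inf_le_left := by
    rw [← cancel_mono a.arrow, Preadditive.sub_comp]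
    simp only [Category.assoc, Subobject.ofLE_arrow, Subobject.factorThru_arrow, e, add_sub_cancel_right]
  have hd' := congrArg (· ≫ qtπ a c) hd
  simp only [Preadditive.sub_comp, Category.assoc] at hd'
  rw [show Subobject.ofLE (a ⊓ c) a inf_le_left ≫ qtπ a c = 0 from cokernel.condition _, comp_zero,
    sub_eq_zero] at hd'
  rw [Category.assoc, Category.assoc, qtπ_qtIn, hy]
  exact hd'

/-- The image map of a subobject. -/
noncomputable def pushMap (f : M ⟶ N) (a : Subobject M) : (a : X.Modules) ⟶ (push f a : X.Modules) :=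
  factorThruImageSubobject (a.arrow ≫ f)

theorem pushMap_arrow (f : M ⟶ N) (a : Subobject M) : pushMap f a ≫ (push f a).arrow = a.arrow ≫ f :=
  imageSubobject_arrow_comp _

instance epi_pushMap (f : M ⟶ N) (a : Subobject M) : Epi (pushMap f a) :=
  inferInstanceAs (Epi (factorThruImageSubobject (a.arrow ≫ f)))

/-- The map of subquotients induced by a morphism. -/
noncomputable def qtMap (f : M ⟶ N) (a b : Subobject M) : qt a b ⟶ qt (push f a) (push f b) :=
  cokernel.desc _ (pushMap f a ≫ qtπ _ _) (by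
    rw [← Category.assoc, comp_qtπ_eq_zero_iff, Category.assoc, pushMap_arrow, Subobject.ofLE_arrow_assoc]
    exact (push_factors_iff _).2 ⟨_, 𝟙 _, inferInstance, (a ⊓ b).arrow,
      Subobject.factors_of_le _ inf_le_right (Subobject.factors_self _), Category.id_comp _⟩)

theorem qtπ_qtMap (f : M ⟶ N) (a b : Subobject M) : qtπ a b ≫ qtMap f a b = pushMap f a ≫ qtπ _ _ :=
  cokernel.π_desc _ _ _

instance epi_qtMap (f : M ⟶ N) (a b : Subobject M) : Epi (qtMap f a b) := by
  have : Epi (qtπ a b ≫ qtMap f a b) := by rw [qtπ_qtMap]; infer_instance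
  exact epi_of_epi (qtπ a b) _

theorem isIso_qtMap (f : M ⟶ N) {a b : Subobject M} (hb : b ≤ a)
    (hker : ∀ {W : X.Modules} (x : W ⟶ M), a.Factors x → x ≫ f = 0 → b.Factors x) :
    IsIso (qtMap f a b) := by
  haveI : Mono (qtMap f a b) := by
    refine Preadditive.mono_of_cancel_zero _ fun {W} z hz => ?_
    obtain ⟨W₁, r, hr, y, hy⟩ := surjective_up_to_refinements_of_epi (qtπ a b) z
    have h0 : (y ≫ pushMap f a) ≫ qtπ (push f a) (push f b) = 0 := by
      rw [Category.assoc, ← qtπ_qtMap, ← Category.assoc, ← hy, Category.assoc, hz, comp_zero]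
    rw [comp_qtπ_eq_zero_iff, Category.assoc, pushMap_arrow, push_factors_iff] at h0
    obtain ⟨W₂, r', hr', s, hs, e⟩ := h0
    rw [← cancel_epi r, comp_zero, hy, ← cancel_epi r', comp_zero, ← Category.assoc, comp_qtπ_eq_zero_iff]
    have ha : a.Factors ((r' ≫ y) ≫ a.arrow) :=
      Subobject.factors_of_factors_right _ (Subobject.factors_self _)
    have hk : b.Factors ((r' ≫ y) ≫ a.arrow - s) := hker _ (factors_sub ha (Subobject.factors_of_le _ hb hs))
      (by rw [Preadditive.sub_comp, Category.assoc, Category.assoc, e, sub_self])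
    simpa using Subobject.factors_add _ _ hk hs
  exact isIso_of_mono_of_epi _

theorem cSub_top (hM : Coh.IsCoh M) : CSub (⊤ : Subobject M) :=
  (KZ.isClosedUnderIsomorphisms_isCoh (X := X)).of_iso (asIso (⊤ : Subobject M).arrow).symm hM

section Noeth

variable [IsLocallyNoetherian X]

theorem cSub_pull (hM : Coh.IsCoh M) (hN : Coh.IsCoh N) (f : M ⟶ N) {b : Subobject N} (hb : CSub b) :
    CSub (pull f b) :=
  (KZ.isClosedUnderIsomorphisms_isCoh (X := X)).of_iso (kernelSubobjectIso _).symm
    (QCoh.isCoh_kernel hM (QCoh.isCoh_cokernel hb.1 hN b.arrow) _)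

theorem cSub_image {A : X.Modules} (hA : Coh.IsCoh A) (hN : Coh.IsCoh N) (g : A ⟶ N) :
    CSub (imageSubobject g) :=
  (KZ.isClosedUnderIsomorphisms_isCoh (X := X)).of_iso
    ((Abelian.imageIsoImage g) ≪≫ (imageSubobjectIso g).symm)
    (QCoh.isCoh_kernel hN (QCoh.isCoh_cokernel hA.1 hN g) (cokernel.π g))

theorem cSub_push (hN : Coh.IsCoh N) (f : M ⟶ N) {a : Subobject M} (ha : CSub a) : CSub (push f a) :=
  cSub_image ha hN _

omit [IsLocallyNoetherian X] in
theorem push_arrow_top (a : Subobject M) : push a.arrow ⊤ = a := by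
  refine le_antisymm ?_ (le_iff_factors.2 fun B x hx => (push_factors_iff x).2
    ⟨B, 𝟙 B, inferInstance, a.factorThru x hx, Subobject.top_factors _, by simp⟩)
  exact (gc a.arrow _ _).2 (le_iff_factors.2 fun B x _ => (pull_factors_iff x).2
    (Subobject.factors_of_factors_right _ (Subobject.factors_self _)))

theorem cSub_inf (hM : Coh.IsCoh M) {a b : Subobject M} (ha : CSub a) (hb : CSub b) : CSub (a ⊓ b) := by
  have := cSub_push hM a.arrow (cSub_pull ha hM a.arrow hb)
  rwa [push_pull, push_arrow_top, inf_comm] at this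

theorem cSub_sup (hM : Coh.IsCoh M) {a b : Subobject M} (ha : CSub a) (hb : CSub b) : CSub (a ⊔ b) := by
  have e : a ⊔ b = imageSubobject (biprod.desc a.arrow b.arrow) := le_antisymm
    (sup_le (Subobject.le_of_comm (biprod.inl ≫ factorThruImageSubobject (biprod.desc a.arrow b.arrow)) (by simp))
      (Subobject.le_of_comm (biprod.inr ≫ factorThruImageSubobject (biprod.desc a.arrow b.arrow)) (by simp)))
    (imageSubobject_le _ (biprod.desc (Subobject.ofLE a (a ⊔ b) le_sup_left)
      (Subobject.ofLE b (a ⊔ b) le_sup_right)) (by apply biprod.hom_ext' <;> simp))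
  rw [e]
  exact cSub_image (KZ.isCoh_X₂ (ShortComplex.Splitting.ofHasBinaryBiproduct _ _).shortExact ha hb) hM _

theorem isCoh_qt (hM : Coh.IsCoh M) {a b : Subobject M} (ha : CSub a) (hb : CSub b) : Coh.IsCoh (qt a b) :=
  QCoh.isCoh_cokernel (cSub_inf hM ha hb).1 ha _

end Noeth

end Groth.Agent.DevK
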